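import Cfsg.Agent.H863.J4Rank7
import Cfsg.Agent.S1703
import Cfsg.Prelude.Def_Transfer

/-!
The suborbit lengths of `N_G(V)`, `V` elementary abelian of order `2^11`, in groups isomorphic to
J4, given that all such `V` are conjugate.
-/
set_option autoImplicit false

namespace Cfsg.Agent.H863.J4Rank7Of

open Cfsg
open Cfsg.Agent.J4.Rep112 Cfsg.Agent.J4M.Base Cfsg.Agent.J4M.QBase Cfsg.Agent.J4M.MGroup
open Cfsg.Agent.J4M.Decomp Cfsg.Agent.J4M.Order Cfsg.Agent.H863.J4Rank7

theorem rho_injective : Function.Injective rho := by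
  have hs : IsSimpleGroup Cfsg.Spor.J4 := Cfsg.Agent.S1703.result.1
  rw [← MonoidHom.ker_eq_bot_iff]
  rcases (inferInstance : rho.ker.Normal).eq_bot_or_eq_top with h | h
  · exact h
  · exfalso
    apply Cfsg.Agent.J4.Lower.xg_ne
    rw [← MonoidHom.mem_ker, h]
    trivial

/-- `R` is isomorphic to the presented group J4. -/
noncomputable def equivR : Cfsg.Spor.J4 ≃* R := MonoidHom.ofInjective rho_injective

theorem suborbits_of_conj {G : Type*} [Group G] [Finite G] (e : Cfsg.Spor.J4 ≃* G)
    (hconj : ∀ V V' : Subgroup G, IsElementaryAbelian 2 V → Nat.card V = 2 ^ 11 →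
      IsElementaryAbelian 2 V' → Nat.card V' = 2 ^ 11 →
      ∃ g : G, V.map (MulAut.conj g).toMonoidHom = V')
    (V : Subgroup G) (hV : IsElementaryAbelian 2 V) (hcard : Nat.card V = 2 ^ 11) :
    (Subgroup.normalizer (V : Set G)).index = 173067389 ∧
      ∃ c : Fin 7 → G ⧸ Subgroup.normalizer (V : Set G),
        (∀ i j : Fin 7, i ≠ j → MulAction.orbit ↥(Subgroup.normalizer (V : Set G)) (c i) ≠
          MulAction.orbit ↥(Subgroup.normalizer (V : Set G)) (c j)) ∧
        (∀ q : G ⧸ Subgroup.normalizer (V : Set G), ∃ i : Fin 7,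
          q ∈ MulAction.orbit ↥(Subgroup.normalizer (V : Set G)) (c i)) ∧
        (List.ofFn fun i => (MulAction.orbit ↥(Subgroup.normalizer (V : Set G)) (c i)).ncard) =
          [1, 15180, 28336, 3400320, 32643072, 54405120, 82575360] := by
  -- the isomorphism from `R`
  let f : R ≃* G := equivR.symm.trans e
  have hQR : Q ≤ R := Q_le_H.trans H_le_R
  let V₀ : Subgroup G := (Q.subgroupOf R).map f.toMonoidHom
  have hcardQ : Nat.card (Q.subgroupOf R) = 2 ^ 11 := by
    rw [Nat.card_congr (Subgroup.subgroupOfEquivOfLe hQR).toEquiv, card_Q]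
  have hV₀c : Nat.card V₀ = 2 ^ 11 := by
    rw [← hcardQ]
    exact (Nat.card_congr ((Q.subgroupOf R).equivMapOfInjective f.toMonoidHom f.injective).toEquiv).symm
  have hV₀ : IsElementaryAbelian 2 V₀ := by
    refine ⟨⟨⟨?_⟩⟩, ?_⟩
    · rintro ⟨_, a, ha, rfl⟩ ⟨_, b, hb, rfl⟩
      apply Subtype.ext
      show f a * f b = f b * f a
      rw [← map_mul, ← map_mul]
      exact congrArg f (Subtype.ext (Q_comm a ha b hb))
    · rintro _ ⟨a, ha, rfl⟩
      show f a ^ 2 = 1
      rw [← map_pow, pow_two]
      have h1 : a * a = 1 := Subtype.ext (Q_sq a ha)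
      rw [h1, map_one]
  obtain ⟨g, hg⟩ := hconj V₀ V hV₀ hV₀c hV hcard
  let F : R ≃* G := f.trans (MulAut.conj g)
  have hFQ : (Q.subgroupOf R).map F.toMonoidHom = V := by
    rw [← hg]
    show _ = (Subgroup.map f.toMonoidHom (Q.subgroupOf R)).map _
    rw [Subgroup.map_map]
    rfl
  have hFH : (H.subgroupOf R).map F.toMonoidHom = Subgroup.normalizer (V : Set G) := by
    have h1 : Subgroup.normalizer ((Q.subgroupOf R : Subgroup R) : Set R) = H.subgroupOf R := by
      ext x
      rw [Subgroup.mem_subgroupOf]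
      constructor
      · intro hx
        refine mem_H_of_norm x.2 ?_
        rw [Subgroup.mem_normalizer_iff] at hx ⊢
        intro y
        constructor
        · intro hy
          exact (hx ⟨y, hQR hy⟩).1 hy
        · intro hy
          have hyR : y ∈ R := by
            have h2 := R.mul_mem (R.mul_mem (R.inv_mem x.2) (hQR hy)) x.2
            have h3 : (x : GG)⁻¹ * (x * y * (x : GG)⁻¹) * x = y := by group
            rwa [h3] at h2
          exact (hx ⟨y, hyR⟩).2 hy
      · intro hx
        have hx' := H_norm hx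
        rw [Subgroup.mem_normalizer_iff] at hx' ⊢
        intro y
        exact hx' y
    have h2 := Subgroup.map_equiv_normalizer_eq (Q.subgroupOf R) F
    rw [h1] at h2
    rw [hFQ] at h2
    exact h2
  obtain ⟨h1, c, h2, h3, h4⟩ := suborbits F (Subgroup.normalizer (V : Set G)) hFH
  refine ⟨h1, c, h2, h3, ?_⟩
  have h5 : (fun i => (MulAction.orbit ↥(Subgroup.normalizer (V : Set G)) (c i)).ncard) = len :=
    funext h4
  rw [h5]
  decide +kernel

end Cfsg.Agent.H863.J4Rank7Of
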