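import Mathlib
import Cfsg.Agent.Monster.PauliRep

/-!
# Representations of the Pauli group on which the centre acts as `-1` (helper863)
-/

set_option autoImplicit false

namespace Cfsg.Agent.H863.BPauli

open Cfsg.Agent.Monster.PauliBasic Cfsg.Agent.Monster.PauliRep

variable {F : Type*} [Field F] {n : ℕ} {W : Type*} [AddCommGroup W] [Module F W]

/-! ### Character sums -/

theorem sum_sg_eq_zero {v : B n} (hv : v ≠ 0) (h2 : (2 : F) ≠ 0) : ∑ a : B n, sg F (v ⬝ᵥ a) = 0 := by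
  obtain ⟨w, hw⟩ := Pauli.exists_dot_ne hv
  rw [dotProduct_comm] at hw
  have h1 : ∑ a : B n, sg F (v ⬝ᵥ a) = ∑ a : B n, sg F (v ⬝ᵥ (a + w)) :=
    (Equiv.sum_comp (Equiv.addRight w) (fun a => sg F (v ⬝ᵥ a))).symm
  have h3 : ∑ a : B n, sg F (v ⬝ᵥ (a + w)) = - ∑ a : B n, sg F (v ⬝ᵥ a) := by
    rw [← Finset.sum_neg_distrib]
    apply Finset.sum_congr rfl
    intro a _
    rw [dotProduct_add, hw, sg_add, sg_one, mul_neg_one]
  rw [h3] at h1
  have h4 : (2 : F) * ∑ a : B n, sg F (v ⬝ᵥ a) = 0 := by linear_combination h1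
  exact (mul_eq_zero.1 h4).resolve_left h2

theorem sum_sg (v : B n) (h2 : (2 : F) ≠ 0) : ∑ a : B n, sg F (v ⬝ᵥ a) = if v = 0 then (2 : F) ^ n else 0 := by
  by_cases hv : v = 0
  · rw [if_pos hv, hv]
    simp
  · rw [if_neg hv, sum_sg_eq_zero hv h2]

/-! ### The weight spaces -/

variable (ρ : Pauli n →* Module.End F W)

/-- The part on which the centre acts as `-1`. -/
def Wm : Submodule F W where
  carrier := {w | ρ (Pauli.z n) w = -w}
  add_mem' := by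
    intro a b ha hb
    show ρ _ (a + b) = -(a + b)
    rw [map_add, ha, hb]; abel
  zero_mem' := by show ρ _ 0 = -0; simp
  smul_mem' := by
    intro c x hx
    show ρ _ (c • x) = -(c • x)
    rw [map_smul, hx, smul_neg]

/-- The common eigenspaces of the `Z(b)`. -/
def Wz (a : B n) : Submodule F W where
  carrier := {w | ρ (Pauli.z n) w = -w ∧ ∀ v, ρ ⟨0, 0, v⟩ w = sg F (v ⬝ᵥ a) • w}
  add_mem' := by
    rintro x y ⟨hx, hx'⟩ ⟨hy, hy'⟩
    refine ⟨?_, fun v => ?_⟩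
    · show ρ _ (x + y) = -(x + y)
      rw [map_add, hx, hy]; abel
    · rw [map_add, hx', hy', smul_add]
  zero_mem' := by refine ⟨?_, fun v => ?_⟩ <;> simp
  smul_mem' := by
    rintro c x ⟨hx, hx'⟩
    refine ⟨?_, fun v => ?_⟩
    · show ρ _ (c • x) = -(c • x)
      rw [map_smul, hx, smul_neg]
    · rw [map_smul, hx', smul_comm]

variable {ρ}

theorem mem_Wm {w : W} : w ∈ Wm ρ ↔ ρ (Pauli.z n) w = -w := Iff.rfl

theorem mem_Wz {a : B n} {w : W} : w ∈ Wz ρ a ↔ ρ (Pauli.z n) w = -w ∧ ∀ v, ρ ⟨0, 0, v⟩ w = sg F (v ⬝ᵥ a) • w := Iff.rfl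

theorem Wz_le (a : B n) : Wz ρ a ≤ Wm ρ := fun _ h => h.1

theorem mul_app (x y : Pauli n) (w : W) : ρ x (ρ y w) = ρ (x * y) w := by rw [map_mul]; rfl

theorem s_apply {w : W} (hw : w ∈ Wm ρ) (s : ZMod 2) : ρ ⟨s, 0, 0⟩ w = sg F s • w := by
  rcases zmod2_cases s with rfl | rfl
  · have : (⟨0, 0, 0⟩ : Pauli n) = 1 := rfl
    rw [this, map_one, sg_zero, one_smul]; rfl
  · rw [sg_one, neg_one_smul]; exact hw

theorem rho_mem {w : W} (hw : w ∈ Wm ρ) (x : Pauli n) : ρ x w ∈ Wm ρ := by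
  show ρ _ (ρ x w) = _
  rw [mul_app, Pauli.z_mul, ← Pauli.mul_z, ← mul_app, mem_Wm.1 hw, map_neg]

/-- General elements. -/
theorem gen_apply {w : W} (hw : w ∈ Wm ρ) (x : Pauli n) : ρ x w = sg F x.s • ρ ⟨0, x.a, 0⟩ (ρ ⟨0, 0, x.b⟩ w) := by
  have h1 : x = ⟨x.s, 0, 0⟩ * (⟨0, x.a, 0⟩ * ⟨0, 0, x.b⟩) := by
    refine Pauli.ext ?_ ?_ ?_ <;> simp
  conv_lhs => rw [h1]
  rw [← mul_app, ← mul_app, s_apply (rho_mem (rho_mem hw _) _)]

theorem shift_mem {a : B n} {w : W} (hw : w ∈ Wz ρ a) (c : B n) : ρ ⟨0, c, 0⟩ w ∈ Wz ρ (a + c) := by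
  refine ⟨rho_mem hw.1 _, fun v => ?_⟩
  have h1 : (⟨0, 0, v⟩ : Pauli n) * ⟨0, c, 0⟩ = ⟨v ⬝ᵥ c, 0, 0⟩ * (⟨0, c, 0⟩ * ⟨0, 0, v⟩) := by
    refine Pauli.ext ?_ ?_ ?_ <;> simp
  rw [mul_app, h1, ← mul_app, ← mul_app, hw.2, map_smul, map_smul, s_apply (rho_mem hw.1 _), smul_smul, ← sg_add,
    dotProduct_add]

/-- The projection to `Wz a`. -/
noncomputable def pr (ρ : Pauli n →* Module.End F W) (a : B n) : W →ₗ[F] W :=
  ((2 : F) ^ n)⁻¹ • ∑ v : B n, sg F (v ⬝ᵥ a) • ρ ⟨0, 0, v⟩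

theorem pr_apply (a : B n) (w : W) : pr ρ a w = ((2 : F) ^ n)⁻¹ • ∑ v : B n, sg F (v ⬝ᵥ a) • ρ ⟨0, 0, v⟩ w := by
  unfold pr
  rw [LinearMap.smul_apply, LinearMap.sum_apply]
  rfl

theorem sum_pr (h2 : (2 : F) ≠ 0) (w : W) : ∑ a : B n, pr ρ a w = w := by
  simp only [pr_apply]
  rw [← Finset.smul_sum, Finset.sum_comm]
  have h1 : ∀ v : B n, ∑ a : B n, sg F (v ⬝ᵥ a) • ρ ⟨0, 0, v⟩ w =
      (if v = 0 then (2 : F) ^ n else 0) • ρ ⟨0, 0, v⟩ w := by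
    intro v
    rw [← Finset.sum_smul, sum_sg v h2]
  rw [Finset.sum_congr rfl (fun v _ => h1 v)]
  rw [Finset.sum_eq_single (0 : B n)]
  · rw [if_pos rfl, smul_smul, inv_mul_cancel₀ (pow_ne_zero _ h2), one_smul]
    have : (⟨0, 0, 0⟩ : Pauli n) = 1 := rfl
    rw [this, map_one]; rfl
  · intro v _ hv
    rw [if_neg hv, zero_smul]
  · intro h; exact absurd (Finset.mem_univ _) h

theorem pr_mem {w : W} (hw : w ∈ Wm ρ) (a : B n) : pr ρ a w ∈ Wz ρ a := by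
  refine ⟨?_, fun u => ?_⟩
  · rw [pr_apply, map_smul, map_sum, ← smul_neg, ← Finset.sum_neg_distrib]
    congr 1
    apply Finset.sum_congr rfl
    intro v _
    rw [map_smul, mem_Wm.1 (rho_mem hw _), smul_neg]
  · rw [pr_apply, map_smul, map_sum, smul_comm]
    congr 1
    rw [Finset.smul_sum, ← Equiv.sum_comp (Equiv.addRight u)]
    apply Finset.sum_congr rfl
    intro v _
    have h1 : (⟨0, 0, u⟩ : Pauli n) * ⟨0, 0, v + u⟩ = ⟨0, 0, v⟩ := by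
      refine Pauli.ext ?_ ?_ ?_
      · simp
      · simp
      · show u + (v + u) = v
        rw [add_comm v u, ← add_assoc, add_self, zero_add]
    show ρ ⟨0, 0, u⟩ (sg F ((v + u) ⬝ᵥ a) • ρ ⟨0, 0, v + u⟩ w) = _
    rw [map_smul, mul_app, h1, smul_smul, add_dotProduct, sg_add, mul_comm]

theorem pr_of_mem (h2 : (2 : F) ≠ 0) {b : B n} {w : W} (hw : w ∈ Wz ρ b) (a : B n) :
    pr ρ a w = if a = b then w else 0 := by
  rw [pr_apply]
  have h1 : ∀ v : B n, sg F (v ⬝ᵥ a) • ρ ⟨0, 0, v⟩ w = sg F ((a + b) ⬝ᵥ v) • w := by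
    intro v
    rw [hw.2, smul_smul, ← sg_add, ← dotProduct_add, dotProduct_comm]
  rw [Finset.sum_congr rfl (fun v _ => h1 v), ← Finset.sum_smul, sum_sg _ h2]
  by_cases h : a = b
  · have h3 : a + b = 0 := by rw [h, add_self]
    rw [if_pos h, if_pos h3, smul_smul, inv_mul_cancel₀ (pow_ne_zero _ h2), one_smul]
  · have h3 : a + b ≠ 0 := by
      intro h3
      apply h
      rw [← add_add_cancel a b, h3, zero_add]
    rw [if_neg h, if_neg h3, zero_smul, smul_zero]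

theorem pp (a : B n) (w : W) : ρ ⟨0, a, 0⟩ (ρ ⟨0, a, 0⟩ w) = w := by
  have : (⟨0, a, 0⟩ : Pauli n) * ⟨0, a, 0⟩ = 1 := by
    refine Pauli.ext ?_ ?_ ?_
    · simp
    · exact add_self a
    · simp
  rw [mul_app, this, map_one]; rfl

/-- `W⁻` is a sum of copies of `Wz 0`. -/
noncomputable def eqv (ρ : Pauli n →* Module.End F W) (h2 : (2 : F) ≠ 0) : (B n → Wz ρ 0) ≃ₗ[F] Wm ρ where
  toFun g := ⟨∑ a, ρ ⟨0, a, 0⟩ (g a : W), Submodule.sum_mem _ fun a _ => rho_mem (g a).2.1 _⟩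
  map_add' g g' := by
    apply Subtype.ext
    simp only [Pi.add_apply, Submodule.coe_add, map_add, Finset.sum_add_distrib]
  map_smul' c g := by
    apply Subtype.ext
    simp only [Pi.smul_apply, Submodule.coe_smul, map_smul, RingHom.id_apply, Finset.smul_sum]
  invFun w a := ⟨ρ ⟨0, a, 0⟩ (pr ρ a w), by
    have := shift_mem (pr_mem w.2 a) a
    rwa [add_self] at this⟩
  left_inv g := by
    funext a
    apply Subtype.ext
    show ρ ⟨0, a, 0⟩ (pr ρ a (∑ b, ρ ⟨0, b, 0⟩ (g b : W))) = g a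
    rw [map_sum, Finset.sum_eq_single a]
    · have h := shift_mem (g a).2 a
      rw [zero_add] at h
      rw [pr_of_mem h2 h, if_pos rfl, pp]
    · intro b _ hb
      have h := shift_mem (g b).2 b
      rw [zero_add] at h
      rw [pr_of_mem h2 h, if_neg (fun h => hb h.symm)]
    · intro h; exact absurd (Finset.mem_univ _) h
  right_inv w := by
    apply Subtype.ext
    show ∑ a, ρ ⟨0, a, 0⟩ (ρ ⟨0, a, 0⟩ (pr ρ a (w : W))) = w
    rw [Finset.sum_congr rfl (fun a _ => pp a _), sum_pr h2]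

theorem finrank_Wm (h2 : (2 : F) ≠ 0) [FiniteDimensional F W] :
    Module.finrank F (Wm ρ) = 2 ^ n * Module.finrank F (Wz ρ 0) := by
  rw [← (eqv ρ h2).finrank_eq, Module.finrank_pi_fintype]
  simp [Finset.sum_const, Finset.card_univ]

/-! ### The map of a base vector -/

/-- The map `u_a ↦ X(a) w₀`. -/
noncomputable def ph (ρ : Pauli n →* Module.End F W) (w₀ : W) : (B n → F) →ₗ[F] W :=
  ∑ a : B n, (LinearMap.proj a : (B n → F) →ₗ[F] F).smulRight (ρ ⟨0, a, 0⟩ w₀)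

theorem ph_apply (w₀ : W) (f : B n → F) : ph ρ w₀ f = ∑ a, f a • ρ ⟨0, a, 0⟩ w₀ := by
  unfold ph
  rw [LinearMap.sum_apply]
  rfl

theorem ph_single (w₀ : W) (a : B n) (c : F) : ph ρ w₀ (Pi.single a c) = c • ρ ⟨0, a, 0⟩ w₀ := by
  rw [ph_apply, Finset.sum_eq_single a]
  · rw [Pi.single_eq_same]
  · intro b _ hb
    rw [Pi.single_eq_of_ne hb, zero_smul]
  · intro h; exact absurd (Finset.mem_univ _) h

theorem ph_rho {w₀ : W} (hw : w₀ ∈ Wz ρ 0) (x : Pauli n) (f : B n → F) :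
    ρ x (ph ρ w₀ f) = ph ρ w₀ (rho F x f) := by
  have key : (ρ x) ∘ₗ ph ρ w₀ = ph ρ w₀ ∘ₗ (rho F x : (B n → F) →ₗ[F] (B n → F)) := by
    apply LinearMap.pi_ext
    intro a c
    rw [LinearMap.comp_apply, LinearMap.comp_apply, ph_single, map_smul]
    show c • ρ x (ρ ⟨0, a, 0⟩ w₀) = ph ρ w₀ (rho F x (Pi.single a c))
    rw [rho_single, ph_single, gen_apply (rho_mem hw.1 _)]
    have h1 := shift_mem hw a
    rw [zero_add] at h1
    rw [h1.2, map_smul, mul_app, smul_smul, smul_smul, mul_assoc, ← sg_add]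
    have h3 : (⟨0, x.a, 0⟩ : Pauli n) * ⟨0, a, 0⟩ = ⟨0, a + x.a, 0⟩ := by
      refine Pauli.ext ?_ ?_ ?_
      · simp
      · exact add_comm _ _
      · simp
    rw [h3, mul_comm c]
  exact LinearMap.congr_fun key f

theorem ph_mem {w₀ : W} (hw : w₀ ∈ Wz ρ 0) (f : B n → F) : ph ρ w₀ f ∈ Wm ρ := by
  rw [ph_apply]
  exact Submodule.sum_mem _ fun a _ => (Wm ρ).smul_mem _ (rho_mem hw.1 _)

theorem ph_inj (h2 : (2 : F) ≠ 0) {w₀ : W} (hw : w₀ ∈ Wz ρ 0) (h0 : w₀ ≠ 0) {f : B n → F} (hf : ph ρ w₀ f = 0) :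
    f = 0 := by
  funext a
  have h1 : pr ρ a (ph ρ w₀ f) = f a • ρ ⟨0, a, 0⟩ w₀ := by
    rw [ph_apply, map_sum, Finset.sum_eq_single a]
    · have h := shift_mem hw a
      rw [zero_add] at h
      rw [map_smul, pr_of_mem h2 h, if_pos rfl]
    · intro b _ hb
      have h := shift_mem hw b
      rw [zero_add] at h
      rw [map_smul, pr_of_mem h2 h, if_neg (fun h => hb h.symm), smul_zero]
    · intro h; exact absurd (Finset.mem_univ _) h
  rw [hf, map_zero] at h1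
  rcases smul_eq_zero.1 h1.symm with h | h
  · exact h
  · exact absurd (by rw [← pp (ρ := ρ) a w₀, h, map_zero]) h0

/-- If `Wz 0` is a line, so are the other `Wz a`. -/
theorem exists_smul {w₀ : W} (hl : ∀ w ∈ Wz ρ 0, ∃ c : F, w = c • w₀) {a : B n} {w : W} (hw : w ∈ Wz ρ a) :
    ∃ c : F, w = c • ρ ⟨0, a, 0⟩ w₀ := by
  have h := shift_mem hw a
  rw [add_self] at h
  obtain ⟨c, hc⟩ := hl _ h
  refine ⟨c, ?_⟩
  rw [← map_smul, ← hc, pp]

theorem exists_ph {w₀ : W} (h2 : (2 : F) ≠ 0) (hl : ∀ w ∈ Wz ρ 0, ∃ c : F, w = c • w₀) {w : W} (hw : w ∈ Wm ρ) :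
    ∃ f, w = ph ρ w₀ f := by
  choose c hc using fun a => exists_smul hl (pr_mem hw a)
  refine ⟨c, ?_⟩
  rw [ph_apply, ← Finset.sum_congr rfl (fun a _ => hc a), sum_pr h2]

end Cfsg.Agent.H863.BPauli
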