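import Mathlib

/-!
# Extending an equivariant map along the cosets of a centraliser (helper863)

`Grp`: a group `G` with a subgroup `C = C(z)` and an element `t` of order three permuting `z ↦ z₁ ↦ z z₁`.
`Stage`: a linear map `φ : V → W` which is `C`-equivariant on a subspace `P` and compatible with `t` there.
Then `vl g m = ρ g (φ (σ g⁻¹ m))` depends only on the coset `g C`, and on few data of it.
-/

set_option autoImplicit false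

namespace Cfsg.Agent.H863.BStage

/-- The group data. -/
structure Grp (G : Type*) [Group G] where
  C : Subgroup G
  z : G
  z1 : G
  e : G
  t : G
  xi : G
  d : G
  n0 : G
  comm : ∀ c ∈ C, c * z = z * c
  cent : ∀ g, g * z = z * g → g ∈ C
  z_sq : z * z = 1
  z1_sq : z1 * z1 = 1
  z1_mem : z1 ∈ C
  e_mem : e ∈ C
  tz : t * z = z1 * t
  tz1 : t * z1 = z1 * z * t
  te : e * t = t⁻¹ * e
  t3 : t * t * t = 1
  ez1 : e * z1 = z1 * z * e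
  xi_mem : xi ∈ C
  xiz1 : xi * z1 = n0 * xi
  d_mem : d ∈ C
  td : t * d * z1 = n0 * (t * d)

namespace Grp

variable {G : Type*} [Group G] (Γ : Grp G)

theorem z_mem : Γ.z ∈ Γ.C := Γ.cent _ rfl

theorem inv_t : Γ.t⁻¹ = Γ.t * Γ.t := by
  rw [inv_eq_iff_mul_eq_one, ← mul_assoc]; exact Γ.t3

/-- Elements of `C` commuting with `z₁` are normalised by `t`. -/
theorem conj_mem {c : G} (h1 : c * Γ.z1 = Γ.z1 * c) : Γ.t⁻¹ * c * Γ.t ∈ Γ.C := by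
  apply Γ.cent
  have := Γ.tz
  calc Γ.t⁻¹ * c * Γ.t * Γ.z = Γ.t⁻¹ * c * (Γ.t * Γ.z) := by group
    _ = Γ.t⁻¹ * (c * Γ.z1) * Γ.t := by rw [Γ.tz]; group
    _ = Γ.t⁻¹ * (Γ.z1 * Γ.t) * Γ.t⁻¹ * c * Γ.t := by rw [h1]; group
    _ = Γ.z * (Γ.t⁻¹ * c * Γ.t) := by rw [← Γ.tz]; group

/-- The node relation: `c z₁ c⁻¹` is `x` or `x z`. -/
def Nd (x c : G) : Prop := c ∈ Γ.C ∧ (c * Γ.z1 = x * c ∨ c * Γ.z1 = x * Γ.z * c)

variable {Γ}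

theorem Nd.mem {x c : G} (h : Γ.Nd x c) : c ∈ Γ.C := h.1

theorem zcomm' {c : G} (hc : c ∈ Γ.C) : Γ.z * c = c * Γ.z := (Γ.comm c hc).symm

/-- Two elements with the same node. -/
theorem Nd.cases {x c c' : G} (h : Γ.Nd x c) (h' : Γ.Nd x c') :
    (c⁻¹ * c' * Γ.z1 = Γ.z1 * (c⁻¹ * c')) ∨ (c⁻¹ * c' * Γ.z1 = Γ.z1 * Γ.z * (c⁻¹ * c')) := by
  obtain ⟨hc, h1⟩ := h
  obtain ⟨hc', h2⟩ := h'
  have hz : Γ.z⁻¹ = Γ.z := inv_eq_of_mul_eq_one_left Γ.z_sq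
  have e1 : ∀ y : G, c * Γ.z1 = y * c → c⁻¹ * y = Γ.z1 * c⁻¹ := by
    intro y hy
    have : y = c * Γ.z1 * c⁻¹ := by rw [hy]; group
    rw [this]; group
  rcases h1 with h1 | h1 <;> rcases h2 with h2 | h2
  · left
    rw [mul_assoc, h2, ← mul_assoc, e1 _ h1, mul_assoc]
  · right
    rw [mul_assoc, h2, ← mul_assoc, ← mul_assoc, e1 _ h1, mul_assoc Γ.z1, ← zcomm' (Γ.C.inv_mem hc)]
    group
  · right
    have h3 : c⁻¹ * x = Γ.z1 * c⁻¹ * Γ.z := by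
      have h4 := e1 _ h1
      rw [← mul_assoc] at h4
      rw [← h4, mul_assoc, Γ.z_sq, mul_one]
    rw [mul_assoc, h2, ← mul_assoc, h3, mul_assoc Γ.z1, ← zcomm' (Γ.C.inv_mem hc)]
    group
  · left
    rw [mul_assoc, h2, ← mul_assoc, e1 _ h1, mul_assoc]

theorem Nd.mul {x c g y : G} (hg : g ∈ Γ.C) (h : Γ.Nd x c) (hy : g * x = y * g ∨ g * x = y * Γ.z * g) :
    Γ.Nd y (g * c) := by
  obtain ⟨hc, h1⟩ := h
  refine ⟨Γ.C.mul_mem hg hc, ?_⟩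
  rcases h1 with h1 | h1 <;> rcases hy with h2 | h2
  · left; rw [mul_assoc, h1, ← mul_assoc, h2, mul_assoc]
  · right; rw [mul_assoc, h1, ← mul_assoc, h2, mul_assoc]
  · right
    rw [mul_assoc, h1, ← mul_assoc, ← mul_assoc, h2, mul_assoc y, ← zcomm' hg]
    group
  · left
    rw [mul_assoc, h1, ← mul_assoc, ← mul_assoc, h2, mul_assoc (y * Γ.z), ← zcomm' hg, mul_assoc y,
      ← mul_assoc Γ.z, Γ.z_sq]
    group

theorem nd_one : Γ.Nd Γ.z1 1 := ⟨Γ.C.one_mem, Or.inl (by rw [one_mul, mul_one])⟩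

theorem nd_xi : Γ.Nd Γ.n0 Γ.xi := ⟨Γ.xi_mem, Or.inl Γ.xiz1⟩

end Grp

variable {F G V W : Type*} [Field F] [Group G] [AddCommGroup V] [Module F V] [AddCommGroup W] [Module F W]

section

variable (σ : G →* Module.End F V) (ρ : G →* Module.End F W)

/-- The value at the coset of `g`. -/
def vl (φ : V →ₗ[F] W) (g : G) (m : V) : W := ρ g (φ (σ g⁻¹ m))

/-- `φ` is equivariant on `P`. -/
structure Stage (Γ : Grp G) (P : Submodule F V) (φ : V →ₗ[F] W) : Prop where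
  inv : ∀ c ∈ Γ.C, ∀ m ∈ P, σ c m ∈ P
  eqv : ∀ c ∈ Γ.C, ∀ m ∈ P, ρ c (φ m) = φ (σ c m)
  tau : ∀ m ∈ P, σ Γ.t m ∈ P → ρ Γ.t (φ m) = φ (σ Γ.t m)

/-- `vl φ (c * t) m` is defined. -/
def Df (Γ : Grp G) (P : Submodule F V) (c : G) (m : V) : Prop := σ Γ.t⁻¹ (σ c⁻¹ m) ∈ P

/-- `m` is an eigenvector of all conjugates of `e` under `C`. -/
def Eig (Γ : Grp G) (m : V) : Prop := ∀ c ∈ Γ.C, σ Γ.e (σ c m) = σ c m ∨ σ Γ.e (σ c m) = - σ c m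

end

variable {σ : G →* Module.End F V} {ρ : G →* Module.End F W} {Γ : Grp G} {P : Submodule F V} {φ : V →ₗ[F] W}

theorem mul_apply' (a b : G) (m : V) : σ a (σ b m) = σ (a * b) m := by rw [map_mul]; rfl

theorem inv_apply' (a : G) (m : V) : σ a (σ a⁻¹ m) = m := by
  rw [mul_apply', mul_inv_cancel, map_one]; rfl

theorem inv_apply'' (a : G) (m : V) : σ a⁻¹ (σ a m) = m := by
  rw [mul_apply', inv_mul_cancel, map_one]; rfl

theorem inj' (a : G) {m m' : V} (h : σ a m = σ a m') : m = m' := by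
  rw [← inv_apply'' (σ := σ) a m, h, inv_apply'']

theorem vl_add (g : G) (m m' : V) : vl σ ρ φ g (m + m') = vl σ ρ φ g m + vl σ ρ φ g m' := by
  unfold vl; rw [map_add, map_add, map_add]

theorem vl_smul (g : G) (a : F) (m : V) : vl σ ρ φ g (a • m) = a • vl σ ρ φ g m := by
  unfold vl; rw [map_smul, map_smul, map_smul]

theorem vl_neg (g : G) (m : V) : vl σ ρ φ g (-m) = - vl σ ρ φ g m := by
  unfold vl; rw [map_neg, map_neg, map_neg]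

/-- Translation of values. -/
theorem vl_left (a g : G) (m : V) : ρ a (vl σ ρ φ g m) = vl σ ρ φ (a * g) (σ a m) := by
  unfold vl
  rw [mul_apply', mul_apply', mul_inv_rev, inv_mul_cancel_right]

theorem Eig.conj {m : V} (h : Eig σ Γ m) {c : G} (hc : c ∈ Γ.C) : Eig σ Γ (σ c m) := by
  intro c' hc'
  rw [mul_apply' (σ := σ) c' c]
  exact h _ (Γ.C.mul_mem hc' hc)

theorem Df.neg_iff {c : G} {m : V} : Df σ Γ P c (-m) ↔ Df σ Γ P c m := by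
  unfold Df; rw [map_neg, map_neg, Submodule.neg_mem_iff]

namespace Stage

variable (S : Stage σ ρ Γ P φ)

include S

theorem inv_iff {c : G} (hc : c ∈ Γ.C) {m : V} : σ c m ∈ P ↔ m ∈ P := by
  constructor
  · intro h
    have := S.inv _ (Γ.C.inv_mem hc) _ h
    rwa [inv_apply''] at this
  · exact S.inv c hc m

/-- The value depends only on the coset. -/
theorem vl_mul {g c : G} (hc : c ∈ Γ.C) {m : V} (h : σ g⁻¹ m ∈ P) : vl σ ρ φ (g * c) m = vl σ ρ φ g m := by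
  unfold vl
  rw [map_mul, mul_inv_rev, map_mul]
  show ρ g (ρ c (φ (σ c⁻¹ (σ g⁻¹ m)))) = _
  rw [S.eqv c hc _ (S.inv _ (Γ.C.inv_mem hc) _ h), inv_apply']

theorem vl_t {g : G} {m : V} (h : σ g⁻¹ m ∈ P) (h' : σ (g * Γ.t)⁻¹ m ∈ P) :
    vl σ ρ φ (g * Γ.t) m = vl σ ρ φ g m := by
  unfold vl
  rw [mul_inv_rev] at h' ⊢
  rw [← mul_apply'] at h' ⊢
  rw [map_mul]
  show ρ g (ρ Γ.t (φ (σ Γ.t⁻¹ (σ g⁻¹ m)))) = _
  rw [S.tau _ h' (by rw [inv_apply']; exact h), inv_apply']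

/-- If `m` is an eigenvector of `e` then `t m ∈ P` if `t⁻¹ m ∈ P`. -/
theorem t_mem {m : V} (hm : σ Γ.e m = m ∨ σ Γ.e m = - m) (h : σ Γ.t⁻¹ m ∈ P) : σ Γ.t m ∈ P := by
  have h1 : Γ.t = Γ.e⁻¹ * Γ.t⁻¹ * Γ.e := by rw [mul_assoc, ← Γ.te]; group
  rw [h1, ← mul_apply', ← mul_apply']
  apply S.inv _ (Γ.C.inv_mem Γ.e_mem)
  rcases hm with hm | hm <;> rw [hm]
  · exact h
  · rw [map_neg]; exact P.neg_mem h

/-- Replacing `c` by `c e`. -/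
theorem vl_e {c : G} (hc : c ∈ Γ.C) {m : V} (hm : Eig σ Γ m) (h : Df σ Γ P c m) :
    Df σ Γ P (c * Γ.e) m ∧ vl σ ρ φ (c * Γ.e * Γ.t) m = vl σ ρ φ (c * Γ.t) m := by
  have he := hm c⁻¹ (Γ.C.inv_mem hc)
  have hP : σ Γ.t (σ c⁻¹ m) ∈ P := S.t_mem he h
  have he' : σ Γ.e⁻¹ (σ c⁻¹ m) = σ c⁻¹ m ∨ σ Γ.e⁻¹ (σ c⁻¹ m) = - σ c⁻¹ m := by
    rcases he with he | he
    · left; conv_lhs => rw [← he]
      rw [inv_apply'']
    · right
      have := congrArg (σ Γ.e⁻¹) he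
      rw [inv_apply'', map_neg] at this
      rw [← neg_eq_iff_eq_neg, ← this]
  constructor
  · unfold Df
    rw [mul_inv_rev, ← mul_apply']
    rcases he' with h1 | h1 <;> rw [h1]
    · exact h
    · rw [map_neg]; exact P.neg_mem h
  · have h1 : c * Γ.e * Γ.t = c * Γ.t * Γ.t * Γ.e := by
      rw [mul_assoc, Γ.te, Γ.inv_t]; group
    have h2 : σ (c * Γ.t * Γ.t)⁻¹ m ∈ P := by
      have : (c * Γ.t * Γ.t)⁻¹ = Γ.t * c⁻¹ := by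
        rw [mul_assoc, ← Γ.inv_t]; group
      rw [this, ← mul_apply']; exact hP
    rw [h1, S.vl_mul Γ.e_mem h2, S.vl_t (by rw [mul_inv_rev, ← mul_apply']; exact h) h2]

/-- Replacing `c` by `c k` with `k` commuting with `z₁`. -/
theorem vl_k {c k : G} (hkz : k * Γ.z1 = Γ.z1 * k) {m : V} (h : Df σ Γ P c m) :
    Df σ Γ P (c * k) m ∧ vl σ ρ φ (c * k * Γ.t) m = vl σ ρ φ (c * Γ.t) m := by
  have hk' := Γ.conj_mem hkz
  have h1 : c * k * Γ.t = c * Γ.t * (Γ.t⁻¹ * k * Γ.t) := by group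
  constructor
  · unfold Df
    have h2 : σ Γ.t⁻¹ (σ (c * k)⁻¹ m) = σ (Γ.t⁻¹ * k * Γ.t)⁻¹ (σ Γ.t⁻¹ (σ c⁻¹ m)) := by
      rw [mul_apply', mul_apply', mul_apply']; congr 2; group
    rw [h2]
    exact S.inv _ (Γ.C.inv_mem hk') _ h
  · rw [h1, S.vl_mul hk' (by rw [mul_inv_rev, ← mul_apply']; exact h)]

/-- The value depends only on the node. -/
theorem vl_nd {x c c' : G} (h : Γ.Nd x c) (h' : Γ.Nd x c') {m : V} (hm : Eig σ Γ m) (hd : Df σ Γ P c m) :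
    Df σ Γ P c' m ∧ vl σ ρ φ (c' * Γ.t) m = vl σ ρ φ (c * Γ.t) m := by
  rcases h.cases h' with h1 | h1
  · have := S.vl_k h1 hd
    rwa [mul_inv_cancel_left] at this
  · have h2 := S.vl_e h.mem hm hd
    have h3 : Γ.e⁻¹ * (c⁻¹ * c') * Γ.z1 = Γ.z1 * (Γ.e⁻¹ * (c⁻¹ * c')) := by
      have h4 : Γ.e⁻¹ * (Γ.z1 * Γ.z) = Γ.z1 * Γ.e⁻¹ := by
        have : Γ.z1 * Γ.z = Γ.e * Γ.z1 * Γ.e⁻¹ := by rw [Γ.ez1]; group
        rw [this]; group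
      calc Γ.e⁻¹ * (c⁻¹ * c') * Γ.z1 = Γ.e⁻¹ * (c⁻¹ * c' * Γ.z1) := by group
        _ = Γ.e⁻¹ * (Γ.z1 * Γ.z) * (c⁻¹ * c') := by rw [h1]; group
        _ = _ := by rw [h4]; group
    have h5 := S.vl_k h3 h2.1
    have h6 : c * Γ.e * (Γ.e⁻¹ * (c⁻¹ * c')) = c' := by group
    rw [h6] at h5
    exact ⟨h5.1, h5.2.trans h2.2⟩

/-- The base edge. -/
theorem vl_xi {c : G} {m : V} (h : Df σ Γ P c m) (h' : Df σ Γ P (c * Γ.xi) m) :
    vl σ ρ φ (c * Γ.xi * Γ.t) m = vl σ ρ φ (c * Γ.t) m := by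
  set k := (Γ.t * Γ.d * Γ.t)⁻¹ * Γ.xi * Γ.t with hk
  have hkC : k ∈ Γ.C := by
    apply Γ.cent
    have e1 : Γ.n0 * (Γ.t * Γ.d * Γ.t) = Γ.t * Γ.d * Γ.t * Γ.z := by
      rw [mul_assoc (Γ.t * Γ.d) Γ.t Γ.z, Γ.tz, ← mul_assoc (Γ.t * Γ.d), Γ.td]
      simp only [mul_assoc]
    have e2 : (Γ.t * Γ.d * Γ.t)⁻¹ * Γ.n0 = Γ.z * (Γ.t * Γ.d * Γ.t)⁻¹ := by
      have : Γ.n0 = Γ.t * Γ.d * Γ.t * Γ.z * (Γ.t * Γ.d * Γ.t)⁻¹ := by rw [← e1]; group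
      rw [this]; group
    calc k * Γ.z = (Γ.t * Γ.d * Γ.t)⁻¹ * Γ.xi * (Γ.t * Γ.z) := by rw [hk]; group
      _ = (Γ.t * Γ.d * Γ.t)⁻¹ * (Γ.xi * Γ.z1) * Γ.t := by rw [Γ.tz]; group
      _ = (Γ.t * Γ.d * Γ.t)⁻¹ * Γ.n0 * (Γ.xi * Γ.t) := by rw [Γ.xiz1]; group
      _ = Γ.z * k := by rw [e2, hk]; group
  have h1 : c * Γ.xi * Γ.t = c * Γ.t * Γ.d * Γ.t * k := by rw [hk]; group
  have h2 : σ (c * Γ.t * Γ.d * Γ.t)⁻¹ m ∈ P := by
    have : (c * Γ.t * Γ.d * Γ.t)⁻¹ = k * (Γ.t⁻¹ * (c * Γ.xi)⁻¹) := by rw [hk]; group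
    rw [this, ← mul_apply']
    apply S.inv _ hkC
    rw [← mul_apply']; exact h'
  have h3 : σ (c * Γ.t)⁻¹ m ∈ P := by rw [mul_inv_rev, ← mul_apply']; exact h
  have h4 : σ (c * Γ.t * Γ.d)⁻¹ m ∈ P := by
    rw [mul_inv_rev, ← mul_apply']; exact S.inv _ (Γ.C.inv_mem Γ.d_mem) _ h3
  rw [h1, S.vl_mul hkC h2, S.vl_t h4 h2, S.vl_mul Γ.d_mem h3]

end Stage

section

variable (σ ρ)

/-- `v` is the value of `m` at the node `x`. -/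
def IsVal (Γ : Grp G) (P : Submodule F V) (φ : V →ₗ[F] W) (m : V) (x : G) (v : W) : Prop :=
  ∃ c, Γ.Nd x c ∧ Df σ Γ P c m ∧ v = vl σ ρ φ (c * Γ.t) m

/-- `m` has a value at the node `x`. -/
def Dfn (Γ : Grp G) (P : Submodule F V) (m : V) (x : G) : Prop := ∃ c, Γ.Nd x c ∧ Df σ Γ P c m

end

/-- A good edge. -/
def Good (Γ : Grp G) (a b : G) : Prop := ∃ w, Γ.Nd a w ∧ Γ.Nd b (w * Γ.xi)

/-- An edge between nodes at which `m` has values. -/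
def Edge (σ : G →* Module.End F V) (Γ : Grp G) (P : Submodule F V) (m : V) (a b : G) : Prop :=
  Good Γ a b ∧ Dfn σ Γ P m a ∧ Dfn σ Γ P m b

theorem IsVal.unique (S : Stage σ ρ Γ P φ) {m : V} (hm : Eig σ Γ m) {x : G} {v v' : W}
    (h : IsVal σ ρ Γ P φ m x v) (h' : IsVal σ ρ Γ P φ m x v') : v = v' := by
  obtain ⟨c, h1, h2, rfl⟩ := h
  obtain ⟨c', h1', h2', rfl⟩ := h'
  exact (S.vl_nd h1' h1 hm h2').2

theorem IsVal.edge (S : Stage σ ρ Γ P φ) {m : V} (hm : Eig σ Γ m) {a b : G} {v : W}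
    (h : IsVal σ ρ Γ P φ m a v) (hab : Edge σ Γ P m a b) : IsVal σ ρ Γ P φ m b v := by
  obtain ⟨c, h1, h2, rfl⟩ := h
  obtain ⟨⟨w, hw1, hw2⟩, -, c', h3, h4⟩ := hab
  have h5 := S.vl_nd h1 hw1 hm h2
  have h6 := S.vl_nd h3 hw2 hm h4
  refine ⟨w * Γ.xi, hw2, h6.1, ?_⟩
  rw [S.vl_xi h5.1 h6.1, h5.2]

theorem IsVal.path (S : Stage σ ρ Γ P φ) {m : V} (hm : Eig σ Γ m) {a b : G} {v : W}
    (h : IsVal σ ρ Γ P φ m a v) (hab : Relation.ReflTransGen (Edge σ Γ P m) a b) : IsVal σ ρ Γ P φ m b v := by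
  induction hab with
  | refl => exact h
  | tail _ h2 ih => exact ih.edge S hm h2

/-- The value is well defined at a node. -/
theorem IsVal.of_nd (S : Stage σ ρ Γ P φ) {m : V} (hm : Eig σ Γ m) {x c : G} {v : W}
    (h : IsVal σ ρ Γ P φ m x v) (hc : Γ.Nd x c) : Df σ Γ P c m ∧ v = vl σ ρ φ (c * Γ.t) m := by
  obtain ⟨c', h1, h2, rfl⟩ := h
  have := S.vl_nd h1 hc hm h2
  exact ⟨this.1, this.2.symm⟩

end Cfsg.Agent.H863.BStage
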