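import Mathlib
import Cfsg.Agent.BabyM.QAct
import Cfsg.Agent.H863.BStage
import Cfsg.Agent.H863.BPauli

/-!
# The model over a field: basic facts (helper863)
-/

set_option autoImplicit false

namespace Cfsg.Agent.H863.BMdl

open Cfsg.Agent.Monster.PauliBasic Cfsg.Agent.Monster.PauliRep Cfsg.Agent.Monster.PauliClif
open Cfsg.Agent.BabyM.QAct Cfsg.Agent.H863.BStage

/-- Facts about the action of `C = 2^{1+22}.Co2` on the model. -/
structure Mdl {n : ℕ} {ι : Type} [Fintype ι] [DecidableEq ι] (K : Coord n ι) (F : Type*) [Field F]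
    (G : Type*) [Group G] where
  σ : G →* Module.End F (ι → F)
  r : Pauli n →* G
  Γ : Grp G
  uz : B n
  v0 : B n
  e1 : Pauli n
  a0 : B n
  two : (2 : F) ≠ 0
  hz : Γ.z = r (Pauli.z n)
  hz1 : Γ.z1 = r ⟨0, 0, uz⟩
  hn0 : Γ.n0 = r ⟨0, 0, v0⟩
  he : Γ.e = r e1
  form_e : Pauli.form e1 ⟨0, 0, uz⟩ = 1
  uz_a0 : uz ⬝ᵥ a0 = 1
  v0_a0 : v0 ⬝ᵥ a0 = 1
  σ_q : ∀ x a, σ (r x) (Pi.single (K.ql a) 1) = sg F (x.s + x.b ⬝ᵥ a) • Pi.single (K.ql (a + x.a)) 1
  σ_l : ∀ x i, ¬ K.isq i → σ (r x) (Pi.single i 1) = sg F (Pauli.form x (K.c i)) • Pi.single i 1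
  r_mem : ∀ x, r x ∈ Γ.C
  nrm : ∀ c ∈ Γ.C, ∃ α : MulAut (Pauli n), ∀ x, c * r x = r (α x) * c
  perf : ∀ f : Γ.C →* Fˣ, (∀ x, f ⟨r x, r_mem x⟩ = 1) → f = 1
  c_X : ∀ c ∈ Γ.C, ∀ i, K.isX i → ∃ j, K.isX j ∧ ∃ s : ZMod 2,
    σ c (Pi.single i 1) = sg F s • Pi.single j 1

/-- Extensionality on unit vectors. -/
theorem ext1 {F ι W : Type*} [Field F] [Fintype ι] [DecidableEq ι] [AddCommGroup W] [Module F W]
    {f g : (ι → F) →ₗ[F] W} (h : ∀ i, f (Pi.single i 1) = g (Pi.single i 1)) : f = g := by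
  apply LinearMap.pi_ext
  intro i c
  have : (Pi.single i c : ι → F) = c • Pi.single i 1 := by
    rw [← Pi.single_smul', smul_eq_mul, mul_one]
  rw [this, map_smul, map_smul, h]

theorem expand {F ι : Type*} [Field F] [Fintype ι] [DecidableEq ι] (m : ι → F) :
    m = ∑ i, m i • (Pi.single i 1 : ι → F) := by
  funext j
  simp [Finset.sum_apply, Pi.single_apply]

/-- Coordinates of a linear map which is diagonal at the coordinate `i`. -/
theorem coord {F ι : Type*} [Field F] [Fintype ι] [DecidableEq ι] (T : (ι → F) →ₗ[F] (ι → F)) (i : ι) (s : F)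
    (h : ∀ j, T (Pi.single j 1) i = s * (Pi.single j 1 : ι → F) i) (m : ι → F) : T m i = s * m i := by
  have h1 : (LinearMap.proj i : (ι → F) →ₗ[F] F) ∘ₗ T = s • LinearMap.proj i := by
    apply ext1
    intro j
    exact h j
  exact LinearMap.congr_fun h1 m

namespace Mdl

variable {n : ℕ} {ι : Type} [Fintype ι] [DecidableEq ι] {K : Coord n ι} {F : Type*} [Field F]
  {G : Type*} [Group G] (M : Mdl K F G)

/-- The unit vectors. -/
abbrev e (_M : Mdl K F G) (i : ι) : ι → F := Pi.single i 1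

/-- `z₁`. -/
def z1 : Pauli n := ⟨0, 0, M.uz⟩

theorem z_l {i : ι} (hi : ¬ K.isq i) : M.σ M.Γ.z (M.e i) = M.e i := by
  rw [M.hz, M.σ_l _ _ hi, form_z_left, sg_zero, one_smul]

theorem z_q {i : ι} (hi : K.isq i) : M.σ M.Γ.z (M.e i) = - M.e i := by
  rw [← K.ql_qb i hi, M.hz, M.σ_q]
  simp [Pauli.z]

/-- The action of `z` in coordinates. -/
theorem z_apply_q (m : ι → F) {i : ι} (hi : K.isq i) : M.σ M.Γ.z m i = - m i := by
  rw [coord (M.σ M.Γ.z) i (-1) _ m, neg_one_mul]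
  intro j
  by_cases hj : K.isq j
  · rw [M.z_q hj, Pi.neg_apply, neg_one_mul]
  · rw [M.z_l hj]
    have h1 : i ≠ j := fun h => hj (h ▸ hi)
    have h2 : M.e j i = 0 := Pi.single_eq_of_ne h1 1
    rw [h2, show (Pi.single j 1 : ι → F) i = 0 from h2, mul_zero]

theorem z_apply_l (m : ι → F) {i : ι} (hi : ¬ K.isq i) : M.σ M.Γ.z m i = m i := by
  rw [coord (M.σ M.Γ.z) i 1 _ m, one_mul]
  intro j
  by_cases hj : K.isq j
  · rw [M.z_q hj, Pi.neg_apply]
    have h1 : i ≠ j := fun h => hi (h ▸ hj)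
    have h2 : M.e j i = 0 := Pi.single_eq_of_ne h1 1
    rw [h2, show (Pi.single j 1 : ι → F) i = 0 from h2, mul_zero, neg_zero]
  · rw [M.z_l hj, one_mul]

/-- The qubit part. -/
def S (_M : Mdl K F G) : Submodule F (ι → F) where
  carrier := {f | ∀ i, ¬ K.isq i → f i = 0}
  add_mem' := by
    intro f g hf hg i hi
    rw [Pi.add_apply, hf i hi, hg i hi, add_zero]
  zero_mem' := fun _ _ => rfl
  smul_mem' := by
    intro a f hf i hi
    rw [Pi.smul_apply, hf i hi, smul_zero]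

include M in
theorem two_cancel {x : F} (h : x = -x) : x = 0 := by
  have h2 := M.two
  have : (2 : F) * x = 0 := by linear_combination h
  exact (mul_eq_zero.1 this).resolve_left h2

theorem mem_S {m : ι → F} : m ∈ M.S ↔ M.σ M.Γ.z m = - m := by
  constructor
  · intro h
    funext i
    by_cases hi : K.isq i
    · rw [M.z_apply_q _ hi]; rfl
    · rw [M.z_apply_l _ hi, Pi.neg_apply, h i hi, neg_zero]
  · intro h i hi
    have h1 := congrFun h i
    rw [M.z_apply_l _ hi, Pi.neg_apply] at h1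
    exact M.two_cancel h1

theorem S_zero {m : ι → F} (h : M.σ M.Γ.z m = m) {i : ι} (hi : K.isq i) : m i = 0 := by
  have h1 := congrFun h i
  rw [M.z_apply_q _ hi] at h1
  exact M.two_cancel h1.symm

theorem app (a b : G) (m : ι → F) : M.σ a (M.σ b m) = M.σ (a * b) m := by rw [map_mul]; rfl

theorem S_inv {c : G} (hc : c ∈ M.Γ.C) {m : ι → F} (hm : m ∈ M.S) : M.σ c m ∈ M.S := by
  rw [mem_S] at hm ⊢
  rw [M.app, ← M.Γ.comm c hc, ← M.app, hm, map_neg]

theorem P_inv {c : G} (hc : c ∈ M.Γ.C) {m : ι → F} (hm : M.σ M.Γ.z m = m) : M.σ M.Γ.z (M.σ c m) = M.σ c m := by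
  rw [M.app, ← M.Γ.comm c hc, ← M.app, hm]

/-- The action of the `Z(b)` in coordinates. -/
theorem Zq_apply (b : B n) (m : ι → F) (a : B n) : M.σ (M.r ⟨0, 0, b⟩) m (K.ql a) = sg F (b ⬝ᵥ a) * m (K.ql a) := by
  apply coord
  intro j
  by_cases hj : K.isq j
  · rw [← K.ql_qb j hj, M.σ_q]
    simp only [zero_add, add_zero, Pi.smul_apply, smul_eq_mul]
    by_cases h : K.qb j = a
    · rw [h]
    · have : K.ql a ≠ K.ql (K.qb j) := fun h' => h (K.ql_injective h').symm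
      rw [Pi.single_eq_of_ne this, mul_zero, mul_zero]
  · rw [M.σ_l _ _ hj]
    have : K.ql a ≠ j := fun h => hj (h ▸ K.isq_ql a)
    rw [Pi.smul_apply, Pi.single_eq_of_ne this, smul_zero, mul_zero]

/-- The action of the Pauli group on the lanes in coordinates. -/
theorem r_apply (x : Pauli n) (m : ι → F) {i : ι} (hi : ¬ K.isq i) :
    M.σ (M.r x) m i = sg F (Pauli.form x (K.c i)) * m i := by
  apply coord
  intro j
  by_cases hj : K.isq j
  · rw [← K.ql_qb j hj, M.σ_q]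
    have h2 : ∀ a, i ≠ K.ql a := fun a h => hi (h ▸ K.isq_ql a)
    rw [Pi.smul_apply, Pi.single_eq_of_ne (h2 _), Pi.single_eq_of_ne (h2 _), smul_zero, mul_zero]
  · rw [M.σ_l _ _ hj, Pi.smul_apply, smul_eq_mul]
    by_cases h : i = j
    · rw [h]
    · rw [Pi.single_eq_of_ne h, mul_zero, mul_zero]

/-- Relations of `t`. -/
theorem zt : M.Γ.z * M.Γ.t = M.Γ.t * (M.Γ.z1 * M.Γ.z) := by
  have h := M.Γ.comm M.Γ.z1 M.Γ.z1_mem
  calc M.Γ.z * M.Γ.t = M.Γ.z * (M.Γ.z1 * M.Γ.z1) * M.Γ.t := by rw [M.Γ.z1_sq, mul_one]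
    _ = M.Γ.z * M.Γ.z1 * (M.Γ.z1 * M.Γ.t) := by group
    _ = M.Γ.z1 * M.Γ.z * (M.Γ.t * M.Γ.z) := by rw [h, M.Γ.tz]
    _ = M.Γ.z1 * M.Γ.z * M.Γ.t * M.Γ.z := by group
    _ = M.Γ.t * M.Γ.z1 * M.Γ.z := by rw [M.Γ.tz1]
    _ = _ := by group

end Mdl

end Cfsg.Agent.H863.BMdl
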