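import Mathlib
import Cfsg.Agent.H863.BMdl

/-!
# The map on the qubit part (helper863)
-/

set_option autoImplicit false

namespace Cfsg.Agent.H863.BOne

open Cfsg.Agent.Monster.PauliBasic Cfsg.Agent.Monster.PauliRep Cfsg.Agent.Monster.PauliClif
open Cfsg.Agent.BabyM.QAct Cfsg.Agent.H863.BStage Cfsg.Agent.H863.BMdl Cfsg.Agent.H863.BPauli

variable {n : ℕ} {ι : Type} [Fintype ι] [DecidableEq ι] {K : Coord n ι} {F : Type*} [Field F]
  {G : Type*} [Group G] (M : Mdl K F G) {W : Type*} [AddCommGroup W] [Module F W] (ρ : G →* Module.End F W)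

/-- The restriction to the Pauli group. -/
abbrev rP : Pauli n →* Module.End F W := ρ.comp M.r

/-- Common eigenspaces of `z` and `z₁`. -/
def eg (a b : F) : Submodule F W where
  carrier := {w | ρ M.Γ.z w = a • w ∧ ρ M.Γ.z1 w = b • w}
  add_mem' := by
    rintro x y ⟨hx, hx'⟩ ⟨hy, hy'⟩
    refine ⟨?_, ?_⟩
    · rw [map_add, hx, hy, smul_add]
    · rw [map_add, hx', hy', smul_add]
  zero_mem' := by refine ⟨?_, ?_⟩ <;> simp
  smul_mem' := by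
    rintro c x ⟨hx, hx'⟩
    refine ⟨?_, ?_⟩
    · rw [map_smul, hx, smul_comm]
    · rw [map_smul, hx', smul_comm]

variable {M ρ}

theorem rapp (a b : G) (m : W) : ρ a (ρ b m) = ρ (a * b) m := by rw [map_mul]; rfl

theorem rinj (a : G) : Function.Injective (ρ a) := by
  intro x y h
  have := congrArg (ρ a⁻¹) h
  rw [rapp, rapp, inv_mul_cancel, map_one] at this
  exact this

theorem eg_t {a b : F} {w : W} (hw : w ∈ eg M ρ a b) : ρ M.Γ.t w ∈ eg M ρ (a * b) a := by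
  refine ⟨?_, ?_⟩
  · rw [rapp, M.zt, ← rapp, ← rapp, hw.1, map_smul, hw.2, map_smul, map_smul, smul_smul]
  · rw [rapp, ← M.Γ.tz, ← rapp, hw.1, map_smul]

theorem finrank_eg_le [FiniteDimensional F W] (a b : F) :
    Module.finrank F (eg M ρ a b) ≤ Module.finrank F (eg M ρ (a * b) a) := by
  have h1 : (eg M ρ a b).map (ρ M.Γ.t) ≤ eg M ρ (a * b) a := by
    rintro _ ⟨w, hw, rfl⟩
    exact eg_t hw
  calc Module.finrank F (eg M ρ a b) = Module.finrank F ((eg M ρ a b).map (ρ M.Γ.t)) :=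
        (LinearEquiv.finrank_eq (Submodule.equivMapOfInjective _ (rinj M.Γ.t) _))
    _ ≤ _ := Submodule.finrank_mono h1

theorem eg_le_Wm (b : F) : eg M ρ (-1) b ≤ Wm (rP M ρ) := by
  intro w hw
  show ρ (M.r (Pauli.z n)) w = -w
  rw [← M.hz, hw.1, neg_one_smul]

theorem mem_Wm' {w : W} : w ∈ Wm (rP M ρ) ↔ ρ M.Γ.z w = - w := by
  rw [M.hz]; exact Iff.rfl

theorem Wm_le : Wm (rP M ρ) ≤ eg M ρ (-1) 1 ⊔ eg M ρ (-1) (-1) := by
  intro w hw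
  rw [mem_Wm'] at hw
  have h2 := M.two
  have hz1 : ρ M.Γ.z1 (ρ M.Γ.z1 w) = w := by rw [rapp, M.Γ.z1_sq, map_one]; rfl
  have hzz : ρ M.Γ.z (ρ M.Γ.z1 w) = - ρ M.Γ.z1 w := by
    rw [rapp, ← M.Γ.comm _ M.Γ.z1_mem, ← rapp, hw, map_neg]
  have h3 : w = (2 : F)⁻¹ • (w + ρ M.Γ.z1 w) + (2 : F)⁻¹ • (w - ρ M.Γ.z1 w) := by
    rw [← smul_add]
    have : w + ρ M.Γ.z1 w + (w - ρ M.Γ.z1 w) = (2 : F) • w := by rw [two_smul]; abel
    rw [this, smul_smul, inv_mul_cancel₀ h2, one_smul]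
  rw [h3]
  apply Submodule.add_mem_sup
  · apply Submodule.smul_mem
    refine ⟨?_, ?_⟩
    · rw [map_add, hw, hzz, neg_one_smul]; abel
    · rw [map_add, hz1, one_smul, add_comm]
  · apply Submodule.smul_mem
    refine ⟨?_, ?_⟩
    · rw [map_sub, hw, hzz, neg_one_smul]; abel
    · rw [map_sub, hz1, neg_one_smul]; abel

/-- The dimension bound. -/
theorem finrank_Wz_le [FiniteDimensional F W] (hdim : Module.finrank F W < 3 * 2 ^ n) :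
    Module.finrank F (Wz (rP M ρ) 0) ≤ 1 := by
  have h1 := finrank_Wm (ρ := rP M ρ) M.two
  have h2 : Module.finrank F (Wm (rP M ρ)) ≤ Module.finrank F (eg M ρ (-1) 1) + Module.finrank F (eg M ρ (-1) (-1)) :=
    (Submodule.finrank_mono Wm_le).trans (Submodule.finrank_add_le_finrank_add_finrank _ _)
  have h3 := finrank_eg_le (M := M) (ρ := ρ) (-1) 1
  have h4 := finrank_eg_le (M := M) (ρ := ρ) (-1) (-1)
  rw [mul_one] at h3
  rw [neg_mul_neg, one_mul] at h4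
  have h5 : Module.finrank F (Wm (rP M ρ)) + Module.finrank F (eg M ρ 1 (-1)) ≤ Module.finrank F W := by
    have h6 := Submodule.finrank_sup_add_finrank_inf_eq (Wm (rP M ρ)) (eg M ρ 1 (-1))
    have h7 : Wm (rP M ρ) ⊓ eg M ρ 1 (-1) = ⊥ := by
      rw [eq_bot_iff]
      rintro w ⟨hw1, hw2⟩
      rw [SetLike.mem_coe, mem_Wm'] at hw1
      have h8 := hw2.1
      rw [one_smul, hw1] at h8
      have h9 : (2 : F) • w = 0 := by
        rw [two_smul]; nth_rewrite 1 [← h8]; exact neg_add_cancel w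
      exact (smul_eq_zero.1 h9).resolve_left M.two
    rw [h7, finrank_bot, add_zero] at h6
    rw [← h6]
    exact Submodule.finrank_le _
  by_contra hc
  push Not at hc
  have h10 : 2 ^ n * 2 ≤ 2 ^ n * Module.finrank F (Wz (rP M ρ) 0) := Nat.mul_le_mul_left _ hc
  omega

/-- The base vector. -/
theorem exists_w₀ [FiniteDimensional F W] (hdim : Module.finrank F W < 3 * 2 ^ n) (hz : ρ M.Γ.z ≠ 1) :
    ∃ w₀ ∈ Wz (rP M ρ) 0, w₀ ≠ 0 ∧ ∀ w ∈ Wz (rP M ρ) 0, ∃ c : F, w = c • w₀ := by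
  have h1 : 0 < Module.finrank F (Wz (rP M ρ) 0) := by
    rw [Nat.pos_iff_ne_zero]
    intro h0
    have h1 := finrank_Wm (ρ := rP M ρ) M.two
    rw [h0, mul_zero] at h1
    have h2 : Wm (rP M ρ) = ⊥ := Submodule.finrank_eq_zero.1 h1
    apply hz
    apply LinearMap.ext
    intro w
    have h3 : w - ρ M.Γ.z w ∈ Wm (rP M ρ) := by
      rw [mem_Wm', map_sub, rapp, M.Γ.z_sq, map_one]
      show ρ M.Γ.z w - w = _
      abel
    rw [h2, Submodule.mem_bot, sub_eq_zero] at h3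
    exact h3.symm
  have h2 : Module.finrank F (Wz (rP M ρ) 0) = 1 := le_antisymm (finrank_Wz_le hdim) h1
  obtain ⟨v, hv, hall⟩ := finrank_eq_one_iff'.1 h2
  refine ⟨v, v.2, fun h => hv (Subtype.ext h), fun w hw => ?_⟩
  obtain ⟨c, hc⟩ := hall ⟨w, hw⟩
  exact ⟨c, by rw [← Submodule.coe_smul, hc]⟩

/-! ### The map -/

variable (M ρ) in
/-- The map `φ`. -/
noncomputable def phi (w₀ : W) : (ι → F) →ₗ[F] W := ph (rP M ρ) w₀ ∘ₗ
  { toFun := fun f e => f (K.ql e), map_add' := fun _ _ => rfl, map_smul' := fun _ _ => rfl }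

theorem phi_q (w₀ : W) (a : B n) : phi M ρ w₀ (Pi.single (K.ql a) 1) = ρ (M.r ⟨0, a, 0⟩) w₀ := by
  show ph (rP M ρ) w₀ (fun e => (Pi.single (K.ql a) 1 : ι → F) (K.ql e)) = _
  have : (fun e => (Pi.single (K.ql a) 1 : ι → F) (K.ql e)) = Pi.single a 1 := by
    funext e
    by_cases h : e = a
    · rw [h, Pi.single_eq_same, Pi.single_eq_same]
    · rw [Pi.single_eq_of_ne h, Pi.single_eq_of_ne (fun h' => h (K.ql_injective h'))]
  rw [this, ph_single, one_smul]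
  rfl

theorem phi_l (w₀ : W) {m : ι → F} (hm : ∀ i, K.isq i → m i = 0) : phi M ρ w₀ m = 0 := by
  show ph (rP M ρ) w₀ (fun e => m (K.ql e)) = 0
  have : (fun e => m (K.ql e)) = 0 := by
    funext e; exact hm _ (K.isq_ql e)
  rw [this, map_zero]

/-- `φ` vanishes on the fixed space of `z`. -/
theorem phi_P (w₀ : W) {m : ι → F} (hm : M.σ M.Γ.z m = m) : phi M ρ w₀ m = 0 :=
  phi_l w₀ fun _ hi => M.S_zero hm hi

theorem phi_mem {w₀ : W} (hw : w₀ ∈ Wz (rP M ρ) 0) (m : ι → F) : ρ M.Γ.z (phi M ρ w₀ m) = - phi M ρ w₀ m := by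
  rw [← mem_Wm']
  exact ph_mem hw _

theorem phi_inj {w₀ : W} (hw : w₀ ∈ Wz (rP M ρ) 0) (h0 : w₀ ≠ 0) {m : ι → F} (hm : m ∈ M.S)
    (h : phi M ρ w₀ m = 0) : m = 0 := by
  have h1 := ph_inj M.two hw h0 h
  funext i
  by_cases hi : K.isq i
  · rw [← K.ql_qb i hi]
    exact congrFun h1 (K.qb i)
  · exact hm i hi

theorem phi_surj {w₀ : W} (hl : ∀ w ∈ Wz (rP M ρ) 0, ∃ c : F, w = c • w₀) {w : W} (hw : ρ M.Γ.z w = - w) :
    ∃ m ∈ M.S, phi M ρ w₀ m = w := by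
  obtain ⟨f, hf⟩ := exists_ph M.two hl (mem_Wm'.2 hw)
  classical
  refine ⟨fun i => if K.isq i then f (K.qb i) else 0, fun i hi => if_neg hi, ?_⟩
  rw [hf]
  show ph (rP M ρ) w₀ _ = _
  congr 1
  funext e
  show (if K.isq (K.ql e) then f (K.qb (K.ql e)) else 0) = f e
  rw [if_pos (K.isq_ql e), K.qb_ql]

/-- Equivariance under the Pauli group. -/
theorem phi_r {w₀ : W} (hw : w₀ ∈ Wz (rP M ρ) 0) (x : Pauli n) (m : ι → F) :
    ρ (M.r x) (phi M ρ w₀ m) = phi M ρ w₀ (M.σ (M.r x) m) := by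
  have key : (ρ (M.r x)) ∘ₗ phi M ρ w₀ = phi M ρ w₀ ∘ₗ M.σ (M.r x) := by
    apply ext1
    intro i
    rw [LinearMap.comp_apply, LinearMap.comp_apply]
    by_cases hi : K.isq i
    · rw [← K.ql_qb i hi, M.σ_q, map_smul, phi_q, phi_q]
      have h1 := ph_rho hw x (Pi.single (K.qb i) 1)
      rw [rho_single, ph_single, ph_single, one_smul, mul_one] at h1
      exact h1
    · rw [M.σ_l _ _ hi, map_smul, phi_l w₀ (m := Pi.single i 1), map_zero, smul_zero]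
      intro j hj
      have : j ≠ i := fun h => hi (h ▸ hj)
      rw [Pi.single_eq_of_ne this]
  exact LinearMap.congr_fun key m

/-! ### Equivariance under `C` -/

variable (M ρ) in
/-- The transported map. -/
noncomputable def tr (w₀ : W) (c : G) : (ι → F) →ₗ[F] W := (ρ c) ∘ₗ phi M ρ w₀ ∘ₗ M.σ c⁻¹

theorem tr_apply (w₀ : W) (c : G) (m : ι → F) : tr M ρ w₀ c m = ρ c (phi M ρ w₀ (M.σ c⁻¹ m)) := rfl

theorem tr_P (w₀ : W) {c : G} (hc : c ∈ M.Γ.C) {m : ι → F} (hm : M.σ M.Γ.z m = m) : tr M ρ w₀ c m = 0 := by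
  rw [tr_apply, phi_P w₀ (M.P_inv (M.Γ.C.inv_mem hc) hm), map_zero]

theorem tr_r {w₀ : W} (hw : w₀ ∈ Wz (rP M ρ) 0) {c : G} (hc : c ∈ M.Γ.C) (x : Pauli n) (m : ι → F) :
    ρ (M.r x) (tr M ρ w₀ c m) = tr M ρ w₀ c (M.σ (M.r x) m) := by
  obtain ⟨α, hα⟩ := M.nrm c hc
  obtain ⟨y, hy⟩ := α.surjective x
  have h1 := hα y
  rw [hy] at h1
  rw [tr_apply, tr_apply, rapp, ← h1, ← rapp, phi_r hw, M.app, M.app]
  congr 3
  have h2 : M.r y = c⁻¹ * M.r x * c := by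
    rw [mul_assoc, ← h1]; group
  rw [h2]; group

/-- The unit vectors of the qubit part. -/
theorem σ_X (a : B n) : M.σ (M.r ⟨0, a, 0⟩) (Pi.single (K.ql 0) 1) = Pi.single (K.ql a) 1 := by
  rw [M.σ_q]; simp

theorem tr_q {w₀ : W} (hw : w₀ ∈ Wz (rP M ρ) 0) (hl : ∀ w ∈ Wz (rP M ρ) 0, ∃ c : F, w = c • w₀) {c : G}
    (hc : c ∈ M.Γ.C) : ∃ l : F, tr M ρ w₀ c = l • phi M ρ w₀ := by
  have h1 : tr M ρ w₀ c (Pi.single (K.ql 0) 1) ∈ Wz (rP M ρ) 0 := by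
    refine ⟨?_, fun v => ?_⟩
    · show ρ (M.r _) _ = _
      rw [tr_r hw hc, ← M.hz, M.z_q (K.isq_ql 0), map_neg]
    · show ρ (M.r _) _ = _
      rw [tr_r hw hc, M.σ_q]
      simp
  obtain ⟨l, hl'⟩ := hl _ h1
  refine ⟨l, ext1 fun i => ?_⟩
  rw [LinearMap.smul_apply]
  by_cases hi : K.isq i
  · rw [← K.ql_qb i hi, phi_q, ← map_smul, ← hl', tr_r hw hc, σ_X]
  · rw [tr_P w₀ hc (M.z_l hi), phi_P w₀ (M.z_l hi), smul_zero]

theorem phi_ne {w₀ : W} (h0 : w₀ ≠ 0) (a : B n) : phi M ρ w₀ (Pi.single (K.ql a) 1) ≠ 0 := by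
  rw [phi_q]
  intro h
  exact h0 (rinj _ (h.trans (map_zero _).symm))

/-- **`φ` is `C`-equivariant.** -/
theorem phi_C {w₀ : W} (hw : w₀ ∈ Wz (rP M ρ) 0) (h0 : w₀ ≠ 0)
    (hl : ∀ w ∈ Wz (rP M ρ) 0, ∃ c : F, w = c • w₀) {c : G} (hc : c ∈ M.Γ.C) :
    tr M ρ w₀ c = phi M ρ w₀ := by
  choose l hl' using fun c : M.Γ.C => tr_q hw hl c.2
  have huniq : ∀ a b : F, a • phi M ρ w₀ = b • phi M ρ w₀ → a = b := by
    intro a b hab
    have h1 := LinearMap.congr_fun hab (Pi.single (K.ql 0) 1)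
    rw [LinearMap.smul_apply, LinearMap.smul_apply] at h1
    exact smul_left_injective F (phi_ne h0 0) h1
  have hone : l 1 = 1 := by
    apply huniq
    rw [← hl', one_smul]
    apply LinearMap.ext
    intro m
    rw [tr_apply]
    simp
  have hmul : ∀ a b, l (a * b) = l a * l b := by
    intro a b
    apply huniq
    rw [← hl']
    apply LinearMap.ext
    intro m
    rw [LinearMap.smul_apply, tr_apply]
    have h1 := LinearMap.congr_fun (hl' b) (M.σ (a : G)⁻¹ m)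
    have h2 := LinearMap.congr_fun (hl' a) m
    rw [LinearMap.smul_apply, tr_apply] at h1 h2
    rw [Subgroup.coe_mul, ← rapp, mul_inv_rev, ← M.app, h1, map_smul, h2, smul_smul, mul_comm]
  let f : M.Γ.C →* F :=
    { toFun := l, map_one' := hone, map_mul' := hmul }
  have hf := M.perf f.toHomUnits (by
    intro x
    apply Units.ext
    rw [MonoidHom.coe_toHomUnits, Units.val_one]
    show l ⟨M.r x, M.r_mem x⟩ = 1
    apply huniq
    rw [← hl', one_smul]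
    apply LinearMap.ext
    intro m
    rw [tr_apply, phi_r hw, M.app, mul_inv_cancel, map_one]
    rfl)
  have h1 : l ⟨c, hc⟩ = 1 := by
    have h2 := congrArg (fun g : M.Γ.C →* Fˣ => ((g ⟨c, hc⟩ : Fˣ) : F)) hf
    simp only [MonoidHom.coe_toHomUnits, MonoidHom.one_apply, Units.val_one] at h2
    exact h2
  have h3 := hl' ⟨c, hc⟩
  rw [h1, one_smul] at h3
  exact h3

theorem phi_C' {w₀ : W} (hw : w₀ ∈ Wz (rP M ρ) 0) (h0 : w₀ ≠ 0)
    (hl : ∀ w ∈ Wz (rP M ρ) 0, ∃ c : F, w = c • w₀) {c : G} (hc : c ∈ M.Γ.C) (m : ι → F) :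
    ρ c (phi M ρ w₀ m) = phi M ρ w₀ (M.σ c m) := by
  have h1 := LinearMap.congr_fun (phi_C hw h0 hl hc) (M.σ c m)
  rw [tr_apply, M.app, inv_mul_cancel, map_one] at h1
  exact h1

/-! ### Compatibility with `t` -/

section tau

variable {w₀ : W} (hC : ∀ c ∈ M.Γ.C, ∀ m, ρ c (phi M ρ w₀ m) = phi M ρ w₀ (M.σ c m))

include hC

theorem trt_r {x : Pauli n} (hx : M.r x * M.Γ.z1 = M.Γ.z1 * M.r x) (m : ι → F) :
    ρ (M.r x) (tr M ρ w₀ M.Γ.t m) = tr M ρ w₀ M.Γ.t (M.σ (M.r x) m) := by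
  have h1 := M.Γ.conj_mem hx
  rw [tr_apply, tr_apply, rapp]
  have h2 : M.r x * M.Γ.t = M.Γ.t * (M.Γ.t⁻¹ * M.r x * M.Γ.t) := by group
  rw [h2, ← rapp, hC _ h1, M.app, M.app]
  congr 3
  group

omit hC in
theorem Zcomm (v : B n) : M.r ⟨0, 0, v⟩ * M.Γ.z1 = M.Γ.z1 * M.r ⟨0, 0, v⟩ := by
  rw [M.hz1, ← map_mul, ← map_mul]
  congr 1
  refine Pauli.ext ?_ ?_ ?_
  · simp
  · simp
  · exact add_comm _ _

omit hC in
theorem Xcomm {b : B n} (hb : M.uz ⬝ᵥ b = 0) : M.r ⟨0, b, 0⟩ * M.Γ.z1 = M.Γ.z1 * M.r ⟨0, b, 0⟩ := by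
  rw [M.hz1, ← map_mul, ← map_mul]
  congr 1
  refine Pauli.ext ?_ ?_ ?_
  · simp [hb]
  · simp
  · simp

theorem exists_kappa (hl : ∀ w ∈ Wz (rP M ρ) 0, ∃ c : F, w = c • w₀) :
    ∃ k : F, ∀ m ∈ M.S, M.σ M.Γ.z1 m = - m → tr M ρ w₀ M.Γ.t m = k • phi M ρ w₀ m := by
  have h1 : tr M ρ w₀ M.Γ.t (Pi.single (K.ql M.a0) 1) ∈ Wz (rP M ρ) M.a0 := by
    refine ⟨?_, fun v => ?_⟩
    · show ρ (M.r _) _ = _
      rw [trt_r hC, ← M.hz, M.z_q (K.isq_ql _), map_neg]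
      rw [← M.hz]; exact (M.Γ.comm _ M.Γ.z1_mem).symm
    · show ρ (M.r _) _ = _
      rw [trt_r hC (Zcomm v), M.σ_q]
      simp
  obtain ⟨k, hk⟩ := exists_smul hl h1
  have h2 : ∀ a, M.uz ⬝ᵥ a = 1 → tr M ρ w₀ M.Γ.t (Pi.single (K.ql a) 1) = k • phi M ρ w₀ (Pi.single (K.ql a) 1) := by
    intro a ha
    have h3 : M.uz ⬝ᵥ (a + M.a0) = 0 := by
      rw [dotProduct_add, ha, M.uz_a0]; decide
    have h4 : M.σ (M.r ⟨0, a + M.a0, 0⟩) (Pi.single (K.ql M.a0) 1) = Pi.single (K.ql a) 1 := by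
      rw [M.σ_q]
      have : M.a0 + (a + M.a0) = a := by rw [add_comm, add_add_cancel]
      simp [this]
    rw [← h4, ← trt_r hC (Xcomm h3), hk, ← hC _ (M.r_mem _), phi_q]
    rw [map_smul]
    rfl
  refine ⟨k, fun m hm hz1 => ?_⟩
  have h3 : ∀ i, m i • tr M ρ w₀ M.Γ.t (Pi.single i 1) = m i • (k • phi M ρ w₀ (Pi.single i 1)) := by
    intro i
    by_cases hi : K.isq i
    · rcases zmod2_cases (M.uz ⬝ᵥ K.qb i) with h | h
      · have h4 := congrFun hz1 i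
        rw [← K.ql_qb i hi, M.hz1, M.Zq_apply, h, sg_zero, one_mul, Pi.neg_apply, K.ql_qb i hi] at h4
        rw [M.two_cancel h4, zero_smul, zero_smul]
      · have h5 := h2 _ h
        rw [K.ql_qb i hi] at h5
        rw [h5]
    · rw [hm i hi, zero_smul, zero_smul]
  conv_lhs => rw [expand m]
  conv_rhs => rw [expand m]
  rw [map_sum, map_sum, Finset.smul_sum]
  apply Finset.sum_congr rfl
  intro i _
  rw [map_smul, map_smul, h3, smul_comm]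

theorem kappa_eq (hw : w₀ ∈ Wz (rP M ρ) 0) (h0 : w₀ ≠ 0) {k : F}
    (hk : ∀ m ∈ M.S, M.σ M.Γ.z1 m = - m → tr M ρ w₀ M.Γ.t m = k • phi M ρ w₀ m) : k = 1 := by
  set m : ι → F := Pi.single (K.ql M.a0) 1 with hm
  have hmS : M.σ M.Γ.z m = - m := M.z_q (K.isq_ql _)
  have hm1 : M.σ M.Γ.z1 m = - m := by
    rw [M.hz1, hm, M.σ_q]
    simp [M.uz_a0]
  have hm0 : M.σ M.Γ.n0 m = - m := by
    rw [M.hn0, hm, M.σ_q]
    simp [M.v0_a0]
  have hk0 : k ≠ 0 := by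
    rintro rfl
    have h1 := hk m (M.mem_S.2 hmS) hm1
    rw [zero_smul, tr_apply] at h1
    have h2 : phi M ρ w₀ (M.σ M.Γ.t⁻¹ m) = 0 := rinj M.Γ.t (h1.trans (map_zero _).symm)
    have h3 : M.σ M.Γ.t⁻¹ m ∈ M.S := by
      rw [M.mem_S, M.app]
      have : M.Γ.z * M.Γ.t⁻¹ = M.Γ.t⁻¹ * M.Γ.z1 := by
        rw [eq_inv_mul_iff_mul_eq, ← mul_assoc, M.Γ.tz]; group
      rw [this, ← M.app, hm1, map_neg]
    have h4 := phi_inj hw h0 h3 h2
    have h5 : m = 0 := by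
      have := congrArg (M.σ M.Γ.t) h4
      rw [M.app, mul_inv_cancel, map_one, map_zero] at this
      exact this
    have h6 := congrFun h5 (K.ql M.a0)
    rw [hm, Pi.single_eq_same] at h6
    exact one_ne_zero h6
  -- the value at `xi t`
  have hB : vl M.σ ρ (phi M ρ w₀) (M.Γ.xi * M.Γ.t) m = k • phi M ρ w₀ m := by
    set m1 := M.σ M.Γ.xi⁻¹ m with hm1'
    have h1 : M.σ M.Γ.z m1 = - m1 := by
      rw [hm1', M.app, ← M.Γ.comm _ (M.Γ.C.inv_mem M.Γ.xi_mem), ← M.app, hmS, map_neg]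
    have h2 : M.σ M.Γ.z1 m1 = - m1 := by
      rw [hm1', M.app]
      have : M.Γ.z1 * M.Γ.xi⁻¹ = M.Γ.xi⁻¹ * M.Γ.n0 := by
        rw [eq_inv_mul_iff_mul_eq, ← mul_assoc, M.Γ.xiz1]; group
      rw [this, ← M.app, hm0, map_neg]
    have h3 := hk m1 (M.mem_S.2 h1) h2
    rw [tr_apply] at h3
    unfold vl
    rw [mul_inv_rev, ← rapp, ← M.app, h3, map_smul, hC _ M.Γ.xi_mem, hm1', M.app, mul_inv_cancel, map_one]
    rfl
  have hD : vl M.σ ρ (phi M ρ w₀) (M.Γ.t * M.Γ.d * M.Γ.t) m = k • k • phi M ρ w₀ m := by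
    set m2 := M.σ (M.Γ.t * M.Γ.d)⁻¹ m with hm2
    have h1 : M.σ M.Γ.z m2 = - m2 := by
      rw [hm2, M.app]
      have : M.Γ.z * (M.Γ.t * M.Γ.d)⁻¹ = (M.Γ.t * M.Γ.d)⁻¹ * M.Γ.z1 := by
        rw [eq_inv_mul_iff_mul_eq, ← mul_assoc, mul_assoc M.Γ.t, M.Γ.comm _ M.Γ.d_mem, ← mul_assoc, M.Γ.tz]
        group
      rw [this, ← M.app, hm1, map_neg]
    have h2 : M.σ M.Γ.z1 m2 = - m2 := by
      rw [hm2, M.app]
      have : M.Γ.z1 * (M.Γ.t * M.Γ.d)⁻¹ = (M.Γ.t * M.Γ.d)⁻¹ * M.Γ.n0 := by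
        rw [eq_inv_mul_iff_mul_eq, ← mul_assoc, M.Γ.td]; group
      rw [this, ← M.app, hm0, map_neg]
    have h3 := hk m2 (M.mem_S.2 h1) h2
    have h4 := hk m (M.mem_S.2 hmS) hm1
    rw [tr_apply] at h3 h4
    unfold vl
    rw [mul_inv_rev, ← rapp, ← M.app, h3, map_smul, ← rapp, hC _ M.Γ.d_mem]
    have h5 : M.σ M.Γ.d m2 = M.σ M.Γ.t⁻¹ m := by
      rw [hm2, M.app]; congr 2; group
    rw [h5, h4]
  have hE : vl M.σ ρ (phi M ρ w₀) (M.Γ.xi * M.Γ.t) m = vl M.σ ρ (phi M ρ w₀) (M.Γ.t * M.Γ.d * M.Γ.t) m := by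
    set q := (M.Γ.t * M.Γ.d * M.Γ.t)⁻¹ * M.Γ.xi * M.Γ.t with hq
    have hqC : q ∈ M.Γ.C := by
      apply M.Γ.cent
      have e1 : M.Γ.n0 * (M.Γ.t * M.Γ.d * M.Γ.t) = M.Γ.t * M.Γ.d * M.Γ.t * M.Γ.z := by
        rw [mul_assoc (M.Γ.t * M.Γ.d) M.Γ.t M.Γ.z, M.Γ.tz, ← mul_assoc (M.Γ.t * M.Γ.d), M.Γ.td]
        simp only [mul_assoc]
      have e2 : (M.Γ.t * M.Γ.d * M.Γ.t)⁻¹ * M.Γ.n0 = M.Γ.z * (M.Γ.t * M.Γ.d * M.Γ.t)⁻¹ := by
        have : M.Γ.n0 = M.Γ.t * M.Γ.d * M.Γ.t * M.Γ.z * (M.Γ.t * M.Γ.d * M.Γ.t)⁻¹ := by rw [← e1]; group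
        rw [this]; group
      calc q * M.Γ.z = (M.Γ.t * M.Γ.d * M.Γ.t)⁻¹ * M.Γ.xi * (M.Γ.t * M.Γ.z) := by rw [hq]; group
        _ = (M.Γ.t * M.Γ.d * M.Γ.t)⁻¹ * (M.Γ.xi * M.Γ.z1) * M.Γ.t := by rw [M.Γ.tz]; group
        _ = (M.Γ.t * M.Γ.d * M.Γ.t)⁻¹ * M.Γ.n0 * (M.Γ.xi * M.Γ.t) := by rw [M.Γ.xiz1]; group
        _ = M.Γ.z * q := by rw [e2, hq]; group
    have h1 : M.Γ.xi * M.Γ.t = M.Γ.t * M.Γ.d * M.Γ.t * q := by rw [hq]; group
    rw [h1]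
    unfold vl
    rw [← rapp, hC _ hqC, M.app]
    congr 3
    group
  rw [hB, hD] at hE
  have hne : phi M ρ w₀ m ≠ 0 := phi_ne h0 _
  rw [smul_smul] at hE
  have h7 := smul_left_injective F hne hE
  have h8 : k * (k - 1) = 0 := by linear_combination -h7
  rcases mul_eq_zero.1 h8 with h9 | h9
  · exact absurd h9 hk0
  · exact sub_eq_zero.1 h9

end tau

/-- **The first stage.** -/
theorem stage_one [FiniteDimensional F W] (hdim : Module.finrank F W < 3 * 2 ^ n) (hz : ρ M.Γ.z ≠ 1) :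
    ∃ φ : (ι → F) →ₗ[F] W, Stage M.σ ρ M.Γ M.S φ ∧ (∀ c ∈ M.Γ.C, ∀ m, ρ c (φ m) = φ (M.σ c m)) ∧
      (∀ m, M.σ M.Γ.z m = m → φ m = 0) ∧ (∀ m ∈ M.S, φ m = 0 → m = 0) ∧
      (∀ w, ρ M.Γ.z w = - w → ∃ m ∈ M.S, φ m = w) := by
  obtain ⟨w₀, hw, h0, hl⟩ := exists_w₀ (M := M) (ρ := ρ) hdim hz
  have hC : ∀ c ∈ M.Γ.C, ∀ m, ρ c (phi M ρ w₀ m) = phi M ρ w₀ (M.σ c m) :=
    fun c hc m => phi_C' hw h0 hl hc m
  obtain ⟨k, hk⟩ := exists_kappa hC hl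
  have hk1 := kappa_eq hC hw h0 hk
  subst hk1
  refine ⟨phi M ρ w₀, ⟨fun c hc m hm => M.S_inv hc hm, fun c hc m _ => hC c hc m, fun m hm ht => ?_⟩, hC,
    fun m hm => phi_P w₀ hm, fun m hm h => phi_inj hw h0 hm h, fun w hw' => phi_surj hl hw'⟩
  have h1 : M.σ M.Γ.z1 (M.σ M.Γ.t m) = - M.σ M.Γ.t m := by
    rw [M.app, ← M.Γ.tz, ← M.app, M.mem_S.1 hm, map_neg]
  have h2 := hk _ ht h1
  rw [one_smul, tr_apply, M.app, inv_mul_cancel, map_one] at h2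
  exact h2

end Cfsg.Agent.H863.BOne
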