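import Mathlib
import Cfsg.Agent.H863.BE

/-!
# Compatibility with `t` (helper863)
-/

set_option autoImplicit false

namespace Cfsg.Agent.H863.BT

open Cfsg.Agent.Monster.PauliBasic Cfsg.Agent.Monster.PauliRep Cfsg.Agent.Monster.PauliClif
open Cfsg.Agent.BabyM.QAct Cfsg.Agent.H863.BStage Cfsg.Agent.H863.BMdl Cfsg.Agent.H863.BPauli Cfsg.Agent.H863.BOne
open Cfsg.Agent.H863.BE

section

variable {n : ℕ} {ι : Type} [Fintype ι] [DecidableEq ι] {K : Coord n ι} {F : Type*} [Field F]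
  {G : Type*} [Group G] (M : Mdl K F G)

/-- The facts about the lanes and `t`. -/
structure TDat (J : Type) where
  bA : J → ι
  bB : J → ι
  bC : J → ι
  bI : ι
  hA : ∀ j, K.isU (bA j)
  hI : K.isU bI
  U_cases : ∀ i, K.isU i → i = bI ∨ ∃ j, i = bA j
  A_inj : Function.Injective bA
  A_ne : ∀ j, bA j ≠ bI
  hB : ∀ j, K.isX (bB j)
  hC : ∀ j, K.isX (bC j)
  B_inj : Function.Injective bB
  C_inj : Function.Injective bC
  BC : ∀ j k, bB j ≠ bC k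
  X_cases : ∀ i, K.isX i → Pauli.form M.z1 (K.c i) = 1 ∨ (∃ j, i = bB j) ∨ (∃ j, i = bC j) ∨
    ∃ c ∈ M.Γ.C, ∃ x, c * M.Γ.z1 = M.r x * c ∧ M.Γ.t * M.r x = M.r x * M.Γ.t ∧ Pauli.form x (K.c i) = 1
  c_inj : ∀ i j, K.isX i → K.isX j → ab (K.c i) = ab (K.c j) → i = j
  fB : ∀ j, Pauli.form M.z1 (K.c (bB j)) = 0
  fe : ∀ j, Pauli.form M.e1 (K.c (bB j)) = 0
  cC : ∀ j, ab (K.c (bC j)) = ab (K.c (bB j)) + ab M.z1
  t_BC : ∀ j, M.σ M.Γ.t (Pi.single (bB j) 1 + Pi.single (bC j) 1) = Pi.single (bB j) 1 - Pi.single (bC j) 1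
  t_CA : ∀ j, M.σ M.Γ.t (Pi.single (bB j) 1 - Pi.single (bC j) 1) = - Pi.single (bA j) 1
  t_I : M.σ M.Γ.t (Pi.single bI 1) = Pi.single bI 1
  s : J → G
  s_mem : ∀ j, s j ∈ M.Γ.C
  s_z1 : ∀ j, s j * M.Γ.z1 = M.Γ.z1 * s j
  s_B : ∀ j, ∃ a : F, M.σ (s j) (Pi.single (bB j) 1 - Pi.single (bC j) 1) =
      a • (Pi.single (bB j) 1 - Pi.single (bC j) 1 : ι → F) ∧
    M.σ (s j) (Pi.single (bB j) 1 + Pi.single (bC j) 1) =
      (-a) • (Pi.single (bB j) 1 + Pi.single (bC j) 1 : ι → F) ∧ a ≠ 0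
  w0 : ∃ c y, M.Γ.Nd (M.r y) c ∧ Pauli.form y M.z1 = 1
  z1_not : ∀ i, K.isX i → ab (K.c i) ≠ ab M.z1

end

section

variable {n : ℕ} {ι : Type} [Fintype ι] [DecidableEq ι] {K : Coord n ι} {F : Type*} [Field F]
  {G : Type*} [Group G] {M : Mdl K F G}

theorem form_mul_right {n : ℕ} (x v w : Pauli n) : Pauli.form x (v * w) = Pauli.form x v + Pauli.form x w := by
  rw [form_comm, form_mul_left, form_comm v, form_comm w]

theorem hz1' : M.Γ.z1 = M.r M.z1 := M.hz1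

theorem zt' : M.Γ.z * M.Γ.t⁻¹ = M.Γ.t⁻¹ * M.Γ.z1 := by
  rw [eq_inv_mul_iff_mul_eq, ← mul_assoc, M.Γ.tz]; group

theorem z1t' : M.Γ.z1 * M.Γ.t⁻¹ = M.Γ.t⁻¹ * (M.Γ.z1 * M.Γ.z) := by
  rw [eq_inv_mul_iff_mul_eq, ← mul_assoc, M.Γ.tz1]; group

/-- The vectors fixed by `z` and negated by `z₁`. -/
structure InN (m : ι → F) : Prop where
  z : M.σ M.Γ.z m = m
  z1 : M.σ M.Γ.z1 m = - m

theorem InN.sub {m m' : ι → F} (h : InN (M := M) m) (h' : InN (M := M) m') : InN (M := M) (m - m') :=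
  ⟨by rw [map_sub, h.z, h'.z], by rw [map_sub, h.z1, h'.z1]; abel⟩

theorem InN.smul {m : ι → F} (h : InN (M := M) m) (a : F) : InN (M := M) (a • m) :=
  ⟨by rw [map_smul, h.z], by rw [map_smul, h.z1, smul_neg]⟩

theorem InN.r {m : ι → F} (h : InN (M := M) m) (x : Pauli n) : InN (M := M) (M.σ (M.r x) m) := by
  refine ⟨M.P_inv (M.r_mem x) h.z, ?_⟩
  rw [M.app]
  rcases zmod2_cases (Pauli.form M.z1 x) with h1 | h1
  · have h2 : M.Γ.z1 * M.r x = M.r x * M.Γ.z1 := by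
      rw [hz1', ← map_mul, ← map_mul, (Pauli.commute_iff _ _).2 h1]
    rw [h2, ← M.app, h.z1, map_neg]
  · have h2 : M.Γ.z1 * M.r x = M.r x * M.Γ.z1 * M.Γ.z := by
      rw [hz1', M.hz, ← map_mul, ← map_mul, ← map_mul, Pauli.mul_eq_mul_mul_form, h1, Pauli.mul_z, ← Pauli.z_mul]
      rfl
    rw [h2, ← M.app, h.z, ← M.app, h.z1, map_neg]

/-- Support of the vectors of `N`. -/
theorem InN.supp {m : ι → F} (h : InN (M := M) m) {i : ι} (hi : ¬ (K.isX i ∧ Pauli.form M.z1 (K.c i) = 1)) :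
    m i = 0 := by
  by_cases hq : K.isq i
  · exact M.S_zero h.z hq
  · have h1 := congrFun h.z1 i
    rw [hz1', M.r_apply _ _ hq, Pi.neg_apply] at h1
    rcases zmod2_cases (Pauli.form M.z1 (K.c i)) with h2 | h2
    · rw [h2, sg_zero, one_mul] at h1
      exact M.two_cancel h1
    · exfalso
      apply hi
      refine ⟨⟨hq, fun h3 => ?_⟩, h2⟩
      have h4 := form_congr M.z1 (w := K.c i) (w' := 1) h3
      rw [form_comm M.z1 1, form_one_left, h2] at h4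
      exact absurd h4 (by decide)

/-- `X₃`. -/
theorem inN_t {f : ι → F} (hf : f ∈ M.S) (h1 : M.σ M.Γ.z1 f = - f) : InN (M := M) (M.σ M.Γ.t f) := by
  rw [M.mem_S] at hf
  constructor
  · rw [M.app, M.zt, ← M.app, ← M.app, hf, map_neg, h1, neg_neg]
  · rw [M.app, ← M.Γ.tz, ← M.app, hf, map_neg]

theorem InN.tinv {m : ι → F} (h : InN (M := M) m) :
    M.σ M.Γ.t⁻¹ m ∈ M.S ∧ M.σ M.Γ.z1 (M.σ M.Γ.t⁻¹ m) = - M.σ M.Γ.t⁻¹ m := by
  rw [M.mem_S]
  constructor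
  · rw [M.app, zt', ← M.app, h.z1, map_neg]
  · rw [M.app, z1t', ← M.app, ← M.app, h.z, h.z1, map_neg]

theorem InN.t {m : ι → F} (h : InN (M := M) m) : M.σ M.Γ.t m ∈ M.S := by
  rw [M.mem_S, M.app, M.zt, ← M.app, ← M.app, h.z, h.z1, map_neg]

/-- Coordinates at the `23`-part vanish for vectors negated by some element of the Pauli group. -/
theorem U_zero {m : ι → F} {x : Pauli n} (h : M.σ (M.r x) m = - m) {i : ι} (hi : K.isU i) : m i = 0 := by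
  have h1 := congrFun h i
  rw [M.r_apply _ _ hi.1, Pi.neg_apply] at h1
  have h2 := form_congr x (w := K.c i) (w' := 1) hi.2
  rw [h2, form_comm, form_one_left, sg_zero, one_mul] at h1
  exact M.two_cancel h1

end

variable {n : ℕ} {ι : Type} [Fintype ι] [DecidableEq ι] {K : Coord n ι} {F : Type*} [Field F]
  {G : Type*} [Group G] {M : Mdl K F G} {A : Cert M} {W : Type*} [AddCommGroup W] [Module F W]
  {ρ : G →* Module.End F W} {φ : (ι → F) →ₗ[F] W} {J : Type} (T : TDat M J)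

/-- The results of the first stage. -/
structure One (M : Mdl K F G) (ρ : G →* Module.End F W) (φ : (ι → F) →ₗ[F] W) : Prop where
  st : Stage M.σ ρ M.Γ M.S φ
  C : ∀ c ∈ M.Γ.C, ∀ m, ρ c (φ m) = φ (M.σ c m)
  P : ∀ m, M.σ M.Γ.z m = m → φ m = 0
  inj : ∀ m ∈ M.S, φ m = 0 → m = 0
  surj : ∀ w, ρ M.Γ.z w = - w → ∃ m ∈ M.S, φ m = w

variable (O : One M ρ φ)

include O

/-- `φY` on `N`. -/
theorem phiY_N {m : ι → F} (h : InN (M := M) m) : phiY A ρ φ m = ρ M.Γ.t (φ (M.σ M.Γ.t⁻¹ m)) := by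
  have h1 : ∀ i, phiY A ρ φ (m i • Pi.single i 1) = ρ M.Γ.t (φ (M.σ M.Γ.t⁻¹ (m i • Pi.single i 1))) := by
    intro i
    by_cases hi : K.isX i ∧ Pauli.form M.z1 (K.c i) = 1
    · rw [map_smul, map_smul, map_smul, map_smul, phiY_X O.P hi.1, A.first i hi.1 hi.2, one_mul]
      rfl
    · rw [h.supp hi, zero_smul, map_zero, map_zero, map_zero, map_zero]
  conv_lhs => rw [expand m]
  conv_rhs => rw [expand m]
  rw [map_sum, map_sum, map_sum, map_sum]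
  exact Finset.sum_congr rfl fun i _ => h1 i

theorem phiY_C' {c : G} (hc : c ∈ M.Γ.C) (m : ι → F) : ρ c (phiY A ρ φ m) = phiY A ρ φ (M.σ c m) :=
  phiY_C O.st O.C O.P hc m

theorem phiY_N_inj {m : ι → F} (h : InN (M := M) m) (h0 : phiY A ρ φ m = 0) : m = 0 := by
  rw [phiY_N O h] at h0
  have h1 : φ (M.σ M.Γ.t⁻¹ m) = 0 := rinj M.Γ.t (h0.trans (map_zero _).symm)
  have h2 := O.inj _ h.tinv.1 h1
  have h3 := congrArg (M.σ M.Γ.t) h2
  rw [M.app, mul_inv_cancel, map_one, map_zero] at h3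
  exact h3

/-- `φY` does not vanish on unit vectors of lanes. -/
theorem phiY_ne {i : ι} (hi : K.isX i) : phiY A ρ φ (Pi.single i 1) ≠ 0 := by
  intro h
  have hnd := A.nd i hi
  have h1 : InN (M := M) (M.σ (A.nc i)⁻¹ (Pi.single i 1)) := by
    refine ⟨M.P_inv (M.Γ.C.inv_mem hnd.mem) (M.z_l hi.1), ?_⟩
    have h2 := (df_iff M).1 (df_X M hnd hi (A.form i hi))
    have h3 : M.Γ.z1 * (A.nc i)⁻¹ = (A.nc i)⁻¹ * (A.nc i * M.Γ.z1 * (A.nc i)⁻¹) := by group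
    rw [M.app, h3, ← M.app, h2, map_neg]
  have h4 : phiY A ρ φ (M.σ (A.nc i)⁻¹ (Pi.single i 1)) = 0 := by
    rw [← phiY_C' O (M.Γ.C.inv_mem hnd.mem), h, map_zero]
  have h5 := phiY_N_inj O h1 h4
  have h6 := congrArg (M.σ (A.nc i)) h5
  rw [M.app, mul_inv_cancel, map_one, map_zero] at h6
  have h7 := congrFun h6 i
  rw [show (1 : Module.End F (ι → F)) (Pi.single i 1) i = (Pi.single i 1 : ι → F) i from rfl,
    Pi.single_eq_same] at h7
  exact one_ne_zero h7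

/-- **Weight spaces.** -/
theorem weight {k y : Pauli n} {c : G} (hc : M.Γ.Nd (M.r y) c) (hy : Pauli.form y k = 1) {w : W}
    (hw : ∀ x, ρ (M.r x) w = sg F (Pauli.form x k) • w) :
    ∃ m : ι → F, w = phiY A ρ φ m ∧ ∀ i, ¬ (K.isX i ∧ ab (K.c i) = ab k) → m i = 0 := by
  have hcm := hc.mem
  have hzw : ρ M.Γ.z w = w := by rw [M.hz, hw, form_z_left, sg_zero, one_smul]
  set w' := ρ c⁻¹ w with hw'
  have hzw' : ρ M.Γ.z w' = w' := by
    rw [hw', rapp, ← M.Γ.comm _ (M.Γ.C.inv_mem hcm), ← rapp, hzw]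
  have hz1w' : ρ M.Γ.z1 w' = - w' := by
    have h1 : M.Γ.z1 * c⁻¹ = c⁻¹ * (c * M.Γ.z1 * c⁻¹) := by group
    rw [hw', rapp, h1, ← rapp]
    have h2 : ρ (c * M.Γ.z1 * c⁻¹) w = - w := by
      rcases hc.2 with h3 | h3
      · rw [h3, mul_inv_cancel_right, hw, hy, sg_one, neg_one_smul]
      · rw [h3, mul_inv_cancel_right, ← rapp, hzw, hw, hy, sg_one, neg_one_smul]
    rw [h2, map_neg]
  set u := ρ M.Γ.t⁻¹ w' with hu
  have hzu : ρ M.Γ.z u = - u := by rw [hu, rapp, zt', ← rapp, hz1w', map_neg]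
  have hz1u : ρ M.Γ.z1 u = - u := by rw [hu, rapp, z1t', ← rapp, ← rapp, hzw', hz1w', map_neg]
  obtain ⟨f, hf, hfu⟩ := O.surj u hzu
  have hf1 : M.σ M.Γ.z1 f = - f := by
    have h1 : M.σ M.Γ.z1 f + f ∈ M.S := M.S.add_mem (M.S_inv M.Γ.z1_mem hf) hf
    have h2 : φ (M.σ M.Γ.z1 f + f) = 0 := by
      rw [map_add, ← O.C _ M.Γ.z1_mem, hfu, hz1u, neg_add_cancel]
    exact eq_neg_of_add_eq_zero_left (O.inj _ h1 h2)
  have hN := inN_t hf hf1
  have h1 : phiY A ρ φ (M.σ M.Γ.t f) = w' := by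
    rw [phiY_N O hN, M.app, inv_mul_cancel, map_one]
    show ρ M.Γ.t (φ f) = w'
    rw [hfu, hu, rapp, mul_inv_cancel, map_one]; rfl
  set m := M.σ c (M.σ M.Γ.t f) with hm
  have h2 : phiY A ρ φ m = w := by
    rw [hm, ← phiY_C' O hcm, h1, hw', rapp, mul_inv_cancel, map_one]; rfl
  refine ⟨m, h2.symm, fun i hi => ?_⟩
  have hmw : ∀ x, M.σ (M.r x) m = sg F (Pauli.form x k) • m := by
    intro x
    obtain ⟨α, hα⟩ := M.nrm c hcm
    obtain ⟨x', hx'⟩ := α.surjective x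
    have h3 := hα x'
    rw [hx'] at h3
    have h4 : InN (M := M) (M.σ (M.r x') (M.σ M.Γ.t f) - sg F (Pauli.form x k) • M.σ M.Γ.t f) :=
      (hN.r x').sub (hN.smul _)
    have h5 : phiY A ρ φ (M.σ (M.r x') (M.σ M.Γ.t f) - sg F (Pauli.form x k) • M.σ M.Γ.t f) = 0 := by
      rw [map_sub, map_smul, ← phiY_C' O (M.r_mem x'), h1]
      have h6 : ρ c (ρ (M.r x') w' - sg F (Pauli.form x k) • w') = 0 := by
        rw [map_sub, map_smul, rapp, h3, ← rapp, hw', rapp c, mul_inv_cancel, map_one]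
        show ρ (M.r x) w - _ • w = 0
        rw [hw, sub_self]
      exact rinj (ρ := ρ) c (h6.trans (map_zero _).symm)
    have h6 := phiY_N_inj O h4 h5
    have h7 := congrArg (M.σ c) (sub_eq_zero.1 h6)
    rw [map_smul, M.app, h3, ← M.app] at h7
    exact h7
  by_cases hq : K.isq i
  · exact M.S_zero (by rw [M.hz, hmw, form_z_left, sg_zero, one_smul]) hq
  · by_contra hmi
    have h3 : ∀ x, Pauli.form x (K.c i) = Pauli.form x k := by
      intro x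
      have h4 := congrFun (hmw x) i
      rw [M.r_apply _ _ hq, Pi.smul_apply, smul_eq_mul] at h4
      exact sg_injective M.two (mul_right_cancel₀ hmi h4)
    have h4 : ab (K.c i) = ab k := by
      by_contra h5
      have h6 : ab (K.c i * k) ≠ 0 := by
        intro h7
        apply h5
        have h8 : ab (K.c i) + ab k = 0 := h7
        have h9 : ab k + ab k = 0 := Prod.ext (add_self _) (add_self _)
        calc ab (K.c i) = ab (K.c i) + (ab k + ab k) := by rw [h9, add_zero]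
          _ = ab k := by rw [← add_assoc, h8, zero_add]
      obtain ⟨x, hx⟩ := exists_form_eq_one h6
      rw [form_mul_right, h3 x, zmod2_add_self] at hx
      exact absurd hx (by decide)
    have h5 : ab (K.c i) ≠ 0 := by
      intro h6
      have h7 := form_congr y (w := K.c i) (w' := 1) h6
      rw [h3 y, hy, form_comm, form_one_left] at h7
      exact absurd h7 (by decide)
    exact hi ⟨⟨hq, h5⟩, h4⟩

/-! ### Compatibility on the parts -/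

/-- The part `X₃`. -/
theorem tau_X3 {f : ι → F} (hf : f ∈ M.S) (h1 : M.σ M.Γ.z1 f = - f) :
    ρ M.Γ.t (phiY A ρ φ f) = phiY A ρ φ (M.σ M.Γ.t f) := by
  rw [phiY_N O (inN_t hf h1), phiY_q hf, M.app, inv_mul_cancel, map_one]; rfl

/-- The part `X₂`. -/
theorem tau_X2 {f : ι → F} (hf : f ∈ M.S) (h1 : M.σ M.Γ.z1 f = f) :
    ρ M.Γ.t (phiY A ρ φ f) = phiY A ρ φ (M.σ M.Γ.t f) := by
  have h2 : M.σ M.Γ.t f ∈ M.S := by
    rw [M.mem_S, M.app, M.zt, ← M.app, ← M.app, M.mem_S.1 hf, map_neg, h1, map_neg]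
  rw [phiY_q hf, phiY_q h2, O.st.tau f hf h2]

/-- The part `X₁`. -/
theorem tau_X1 {m : ι → F} (h : InN (M := M) m) :
    ρ M.Γ.t (phiY A ρ φ m) = phiY A ρ φ (M.σ M.Γ.t m) := by
  have h2 := h.t
  have h3 : M.σ M.Γ.t (M.σ M.Γ.t m) = M.σ M.Γ.t⁻¹ m := by rw [M.app, M.Γ.inv_t]
  have h4 := O.st.tau _ h2 (by rw [h3]; exact h.tinv.1)
  rw [h3] at h4
  rw [phiY_N O h, phiY_q h2, ← h4, rapp, rapp]
  rw [M.Γ.t3, map_one]; rfl

/-- `φY` at nodes. -/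
theorem phiY_node {c : G} (hc : c ∈ M.Γ.C) {x : Pauli n} (hx : c * M.Γ.z1 = M.r x * c) {m : ι → F}
    (hz : M.σ M.Γ.z m = m) (hm : M.σ (M.r x) m = - m) : phiY A ρ φ m = vl M.σ ρ φ (c * M.Γ.t) m := by
  have h1 : InN (M := M) (M.σ c⁻¹ m) := by
    refine ⟨M.P_inv (M.Γ.C.inv_mem hc) hz, ?_⟩
    have h3 : M.Γ.z1 * c⁻¹ = c⁻¹ * M.r x := by
      rw [eq_inv_mul_iff_mul_eq, ← mul_assoc, hx, mul_inv_cancel_right]
    rw [M.app, h3, ← M.app, hm, map_neg]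
  have h2 := phiY_N (A := A) O h1
  have h3 : phiY A ρ φ m = ρ c (phiY A ρ φ (M.σ c⁻¹ m)) := by
    rw [phiY_C' O hc, M.app, mul_inv_cancel, map_one]; rfl
  rw [h3, h2]
  unfold vl
  rw [rapp, mul_inv_rev, ← M.app]

/-- The lanes negated by a conjugate of `z₁` commuting with `t`. -/
theorem tau_E {i : ι} (hi : K.isX i) (h0 : Pauli.form M.z1 (K.c i) = 0) {c : G} (hc : c ∈ M.Γ.C) {x : Pauli n}
    (hx : c * M.Γ.z1 = M.r x * c) (htx : M.Γ.t * M.r x = M.r x * M.Γ.t) (hf : Pauli.form x (K.c i) = 1) :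
    ρ M.Γ.t (phiY A ρ φ (Pi.single i 1)) = phiY A ρ φ (M.σ M.Γ.t (Pi.single i 1)) := by
  have hz : M.σ M.Γ.z (Pi.single i 1) = Pi.single i 1 := M.z_l hi.1
  have hz1 : M.σ M.Γ.z1 (Pi.single i 1) = Pi.single i 1 := by
    rw [hz1', M.σ_l _ _ hi.1, h0, sg_zero, one_smul]
  have hxm : M.σ (M.r x) (Pi.single i 1) = - Pi.single i 1 := by
    rw [M.σ_l _ _ hi.1, hf, sg_one, neg_one_smul]
  have h1 : M.σ M.Γ.z (M.σ M.Γ.t (Pi.single i 1)) = M.σ M.Γ.t (Pi.single i 1) := by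
    rw [M.app, M.zt, ← M.app, ← M.app, hz, hz1]
  have h2 : M.σ (M.r x) (M.σ M.Γ.t (Pi.single i 1)) = - M.σ M.Γ.t (Pi.single i 1) := by
    rw [M.app, ← htx, ← M.app, hxm, map_neg]
  rw [phiY_node O hc hx hz hxm, phiY_node O hc hx h1 h2, vl_left]
  set k := (c * M.Γ.t)⁻¹ * M.Γ.t * (c * M.Γ.t) with hk
  have hkC : k ∈ M.Γ.C := by
    apply M.Γ.cent
    have e1 : c * M.Γ.t * M.Γ.z = M.r x * (c * M.Γ.t) := by
      rw [mul_assoc, M.Γ.tz, ← mul_assoc, hx, mul_assoc]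
    have e2 : M.Γ.z * (c * M.Γ.t)⁻¹ = (c * M.Γ.t)⁻¹ * M.r x := by
      rw [eq_inv_mul_iff_mul_eq, ← mul_assoc, e1, mul_inv_cancel_right]
    calc k * M.Γ.z = (c * M.Γ.t)⁻¹ * M.Γ.t * (c * M.Γ.t * M.Γ.z) := by rw [hk]; simp only [mul_assoc]
      _ = (c * M.Γ.t)⁻¹ * (M.Γ.t * M.r x) * (c * M.Γ.t) := by rw [e1]; simp only [mul_assoc]
      _ = (c * M.Γ.t)⁻¹ * M.r x * (M.Γ.t * (c * M.Γ.t)) := by rw [htx]; simp only [mul_assoc]
      _ = M.Γ.z * k := by rw [← e2, hk]; simp only [mul_assoc]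
  have h3 : M.Γ.t * (c * M.Γ.t) = c * M.Γ.t * k := by rw [hk]; group
  rw [h3]
  unfold vl
  rw [← rapp, O.C _ hkC, M.app, mul_inv_rev, mul_inv_cancel_left]

section T2

omit [AddCommGroup W] [Module F W] O

variable {T} (j : J)

theorem z_B : M.σ M.Γ.z (Pi.single (T.bB j) 1) = Pi.single (T.bB j) 1 := M.z_l (T.hB j).1

theorem z_C : M.σ M.Γ.z (Pi.single (T.bC j) 1) = Pi.single (T.bC j) 1 := M.z_l (T.hC j).1

theorem form_C (x : Pauli n) : Pauli.form x (K.c (T.bC j)) = Pauli.form x (K.c (T.bB j)) + Pauli.form x M.z1 := by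
  rw [← form_mul_right]
  apply form_congr
  rw [T.cC j]
  rfl

theorem r_B (x : Pauli n) : M.σ (M.r x) (Pi.single (T.bB j) 1) =
    sg F (Pauli.form x (K.c (T.bB j))) • Pi.single (T.bB j) 1 := M.σ_l _ _ (T.hB j).1

theorem r_C (x : Pauli n) : M.σ (M.r x) (Pi.single (T.bC j) 1) =
    (sg F (Pauli.form x (K.c (T.bB j))) * sg F (Pauli.form x M.z1)) • Pi.single (T.bC j) 1 := by
  rw [M.σ_l _ _ (T.hC j).1, form_C, sg_add]

theorem e_B : M.σ M.Γ.e (Pi.single (T.bB j) 1) = Pi.single (T.bB j) 1 := by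
  rw [M.he, r_B, T.fe, sg_zero, one_smul]

theorem e_C : M.σ M.Γ.e (Pi.single (T.bC j) 1) = - Pi.single (T.bC j) 1 := by
  rw [M.he, r_C, T.fe, sg_zero, one_mul]
  have : Pauli.form M.e1 M.z1 = 1 := M.form_e
  rw [this, sg_one, neg_one_smul]

end T2

end Cfsg.Agent.H863.BT
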