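import Mathlib
import Cfsg.Agent.BabyM.KFact
import Cfsg.Agent.BabyM.KRowData

/-!
# Conjugation of the Pauli group modulo its centre on codes (helper863)
-/

set_option autoImplicit false

namespace Cfsg.Agent.H863.BCode

open Cfsg.Agent.Lib.PermNet hiding tb tb_eq
open Cfsg.Agent.Monster Cfsg.Agent.Monster.VecEngine Cfsg.Agent.Monster.VecSpace
open Cfsg.Agent.Monster.PauliBasic Cfsg.Agent.Monster.PauliRep Cfsg.Agent.Monster.PauliClif Cfsg.Agent.Monster.PauliBits
open Cfsg.Agent.BabyM.KTabData Cfsg.Agent.BabyM.QAct Cfsg.Agent.BabyM.QData Cfsg.Agent.BabyM.QData.Good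
open Cfsg.Agent.BabyM.Conc Cfsg.Agent.BabyM.KTab Cfsg.Agent.BabyM.KRow Cfsg.Agent.BabyM.KRowData Cfsg.Agent.BabyM.KQ
open Cfsg.Agent.BabyM

/-! ### Codes -/

theorem ab_dec_xor (x y : ℕ) : ab (dec 11 (x ^^^ y)) = ab (dec 11 x) + ab (dec 11 y) := by
  refine Prod.ext ?_ ?_
  · funext i; exact bit_xor _ _ _
  · funext i; exact bit_xor _ _ _

theorem bit_mask (x k : ℕ) (hk : k < 22) : bit (x &&& 0x3fffff) k = bit x k := by
  rw [bit_and]
  have h : bit 0x3fffff k = 1 := by
    rw [bit_eq_one_iff]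
    interval_cases k <;> rfl
  rw [h, mul_one]

theorem ab_dec_mask (x : ℕ) : ab (dec 11 (x &&& 0x3fffff)) = ab (dec 11 x) := by
  refine Prod.ext ?_ ?_
  · funext i; exact bit_mask _ _ (by omega)
  · funext i; exact bit_mask _ _ (by omega)

/-- Linear evaluation of a code. -/
noncomputable def lnf (img : ℕ → ℕ) (m : ℕ) (l : List ℕ) : ℕ → ℕ :=
  List.rec (motive := fun _ => ℕ → ℕ) (fun acc => acc)
    (fun k _ ih acc => seq (Bool.rec acc (Nat.xor acc (img k)) (tb m k)) ih) l

theorem lnf_sound {α : MulAut (Pauli 11)} {img : ℕ → ℕ}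
    (hα : ∀ k < 22, α (dec 11 (2 ^ k)) = dec 11 (img k)) (m : ℕ) (l : List ℕ) (hl : ∀ k ∈ l, k < 22) (acc acc' : ℕ)
    (h : quo α (ab (dec 11 acc)) = ab (dec 11 acc')) :
    quo α (ab (dec 11 (lnf (fun k => 2 ^ k) m l acc))) = ab (dec 11 (lnf img m l acc')) := by
  induction l generalizing acc acc' with
  | nil => exact h
  | cons k l ih =>
    show quo α (ab (dec 11 (seq (Bool.rec acc (Nat.xor acc (2 ^ k)) (tb m k)) (lnf (fun k => 2 ^ k) m l)))) =
      ab (dec 11 (seq (Bool.rec acc' (Nat.xor acc' (img k)) (tb m k)) (lnf img m l)))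
    rw [seq_eq, seq_eq]
    apply ih (fun k' hk' => hl k' (List.mem_cons_of_mem _ hk'))
    cases tb m k with
    | false => exact h
    | true =>
      show quo α (ab (dec 11 (acc ^^^ 2 ^ k))) = ab (dec 11 (acc' ^^^ img k))
      rw [ab_dec_xor, ab_dec_xor, quo_add, h, quo_ab, hα k (hl k (by simp))]

theorem lnf_bit (m : ℕ) (l : List ℕ) (acc k : ℕ) :
    bit (lnf (fun k => 2 ^ k) m l acc) k = bit acc k + (l.map fun j => if j = k then bit m k else 0).sum := by
  induction l generalizing acc with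
  | nil => show bit acc k = bit acc k + 0; rw [add_zero]
  | cons j l ih =>
    show bit (seq (Bool.rec acc (Nat.xor acc (2 ^ j)) (tb m j)) (lnf (fun k => 2 ^ k) m l)) k = _
    rw [seq_eq, ih, List.map_cons, List.sum_cons, ← add_assoc]
    congr 1
    rw [tb_eq]
    by_cases hjk : j = k
    · subst hjk
      rw [if_pos rfl]
      cases h : m.testBit j with
      | false =>
        have h0 : bit m j = 0 := by unfold bit; rw [h]; rfl
        rw [h0, add_zero]
      | true =>
        show bit (acc ^^^ 2 ^ j) j = _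
        have h0 : bit m j = 1 := (bit_eq_one_iff _ _).2 h
        have h1 : bit (2 ^ j) j = 1 := by rw [bit_eq_one_iff, Nat.testBit_two_pow_self]
        rw [bit_xor, h0, h1]
    · rw [if_neg hjk, add_zero]
      cases h : m.testBit j with
      | false => rfl
      | true =>
        show bit (acc ^^^ 2 ^ j) k = _
        have h1 : bit (2 ^ j) k = 0 := by
          unfold bit
          rw [Nat.testBit_two_pow]
          simp [hjk]
        rw [bit_xor, h1, add_zero]

theorem pos_sum (k : ℕ) (hk : k < 22) (a : ZMod 2) : (pos.map fun j => if j = k then a else 0).sum = a := by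
  interval_cases k <;> simp [pos]

theorem lnf_id (m : ℕ) : ab (dec 11 (lnf (fun k => 2 ^ k) m pos 0)) = ab (dec 11 m) := by
  have h : ∀ k < 22, bit (lnf (fun k => 2 ^ k) m pos 0) k = bit m k := by
    intro k hk
    rw [lnf_bit, pos_sum k hk, bit_zero, zero_add]
  refine Prod.ext ?_ ?_
  · funext i; exact h _ (by omega)
  · funext i; exact h _ (by omega)

/-- The image of a code under a letter with images `I`. -/
noncomputable def ln (I x : ℕ) : ℕ := Nat.land (lnf (im I) x pos 0) 0x3fffff

/-! ### Conjugation -/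

/-- `g` conjugates the class `x` to the class `y`. -/
def Cj (g : V ≃ₗ[ℚ] V) (x y : ℕ) : Prop :=
  ∀ p : Pauli 11, ab p = ab (dec 11 x) → ∃ q, g * Cd.R p = Cd.R q * g ∧ ab q = ab (dec 11 y)

theorem Cj.comp {g h : V ≃ₗ[ℚ] V} {x y w : ℕ} (h1 : Cj g x y) (h2 : Cj h y w) : Cj (h * g) x w := by
  intro p hp
  obtain ⟨q, hq1, hq2⟩ := h1 p hp
  obtain ⟨s, hs1, hs2⟩ := h2 q hq2
  exact ⟨s, by rw [mul_assoc, hq1, ← mul_assoc, hs1, mul_assoc], hs2⟩

theorem Cj.one (x : ℕ) : Cj 1 x x := fun p hp => ⟨p, by rw [one_mul, mul_one], hp⟩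

theorem Cj_of_rel {l : Ltr} {I : ℕ} (hrel : ∀ k < 22, E l * Cd.R (dec 11 (2 ^ k)) = Cd.R (dec 11 (im I k)) * E l)
    (x : ℕ) : Cj (E l) x (ln I x) := by
  obtain ⟨α, hα⟩ := KCore.exists_aut Cd.R Cd.R_injective (E l) closure_gens (by
    rintro x ⟨k, hk, rfl⟩
    exact ⟨_, hrel k hk⟩)
  have hk : ∀ k < 22, α (dec 11 (2 ^ k)) = dec 11 (im I k) := by
    intro k hk
    apply Cd.R_injective
    exact mul_right_cancel ((hα _).symm.trans (hrel k hk))
  intro p hp
  refine ⟨α p, hα p, ?_⟩
  have h0 : quo α (ab (dec 11 0)) = ab (dec 11 0) := by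
    rw [dec_zero, quo_ab, map_one]
  have h1 := lnf_sound hk x pos (by decide) 0 0 h0
  rw [lnf_id, ← hp, quo_ab] at h1
  rw [h1]
  exact (ab_dec_mask _).symm

/-- The images of the Pauli generators. -/
noncomputable def Ic : Ltr → ℕ
  | .y1 => I_y1
  | .y2 => I_y2
  | .y3 => I_y3
  | .y4 => I_y4
  | .y5 => I_y5
  | .y6 => I_y6
  | .y7 => I_y7
  | .y8 => I_y8
  | .y9 => I_y9
  | .y10 => I_y10
  | .p => I_p
  | .h => I_h
  | .xi => I_xi
  | _ => 0

/-- The letters of the certificate. -/
def inW : Ltr → Bool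
  | .y1 => true
  | .y2 => true
  | .y3 => true
  | .y4 => true
  | .y5 => true
  | .y6 => true
  | .y7 => true
  | .y8 => true
  | .y9 => true
  | .y10 => true
  | .p => true
  | .h => true
  | .xi => true
  | _ => false

theorem isC_of_inW {l : Ltr} (h : inW l = true) : l.isC = true := by
  cases l <;> first | rfl | (exact absurd (show false = true from h) (by simp))

theorem rel {l : Ltr} (h : inW l = true) :
    ∀ k < 22, E l * Cd.R (dec 11 (2 ^ k)) = Cd.R (dec 11 (im (Ic l) k)) * E l := by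
  cases l
  case y1 => exact KRelY1.rel_y1
  case y2 => exact KRelY1.rel_y2
  case y3 => exact KRelY1.rel_y3
  case y4 => exact KRelY1.rel_y4
  case y5 => exact KRelY1.rel_y5
  case y6 => exact KRelY2.rel_y6
  case y7 => exact KRelY2.rel_y7
  case y8 => exact KRelY2.rel_y8
  case y9 => exact KRelY2.rel_y9
  case y10 => exact KRelY2.rel_y10
  case p => exact KRelP.rel_p
  case h => exact KRelP.rel_h
  case xi => exact KRelXi.rel_xi
  all_goals exact absurd (show false = true from h) (by simp)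

theorem Cj_letter {l : Ltr} (h : inW l = true) (x : ℕ) : Cj (E l) x (ln (Ic l) x) := Cj_of_rel (rel h) x

/-- The image of a code under a word. -/
noncomputable def lw (v : List Ltr) : ℕ → ℕ :=
  List.rec (motive := fun _ => ℕ → ℕ) (fun x => x) (fun l _ ih x => seq (ln (Ic l) x) ih) v

/-- All letters of the word are letters of the certificate. -/
def allW (v : List Ltr) : Bool :=
  List.rec (motive := fun _ => Bool) true (fun l _ ih => and (inW l) ih) v

theorem Cj_word (v : List Ltr) (h : allW v = true) (x : ℕ) : Cj (W v) x (lw v x) := by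
  induction v generalizing x with
  | nil => exact Cj.one x
  | cons l v ih =>
    have h' : and (inW l) (allW v) = true := h
    rw [Bool.and_eq_true] at h'
    rw [W_cons]
    show Cj _ x (seq (ln (Ic l) x) (lw v))
    rw [seq_eq]
    exact (Cj_letter h'.1 x).comp (ih h'.2 _)

theorem W_mem_C (v : List Ltr) (h : allW v = true) : W v ∈ C := by
  induction v with
  | nil => exact C.one_mem
  | cons l v ih =>
    have h' : and (inW l) (allW v) = true := h
    rw [Bool.and_eq_true] at h'
    rw [W_cons]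
    exact C.mul_mem (ih h'.2) (E_mem_C (isC_of_inW h'.1))

/-! ### The form on codes -/

/-- The form of two codes. -/
noncomputable def fm (x y : ℕ) : Bool := xor (pr x (Nat.shiftRight y 11)) (pr y (Nat.shiftRight x 11))

theorem fm_eq (x y : ℕ) : Pauli.form (dec 11 x) (dec 11 y) = bz (fm x y) := by
  unfold fm Pauli.form
  rw [bz_xor, pr_eq', pr_eq', dec_a, dec_a, dec_b, dec_b]
  rfl

theorem form_of_fm {x y : ℕ} (h : fm x y = true) : Pauli.form (dec 11 x) (dec 11 y) = 1 := by
  rw [fm_eq, h]; rfl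

theorem fm_of_form {x y : ℕ} (h : Pauli.form (dec 11 x) (dec 11 y) = 1) : fm x y = true := by
  rw [fm_eq] at h
  cases h2 : fm x y with
  | true => rfl
  | false => rw [h2] at h; exact absurd h (by decide)

end Cfsg.Agent.H863.BCode
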