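import Mathlib
import Cfsg.Agent.Monster.VecSpace

/-!
# Reduction of rational matrices with denominators powers of two to another field (helper863)
-/

set_option autoImplicit false

namespace Cfsg.Agent.H863.BRed

open Cfsg.Agent.Lib.PermNet Cfsg.Agent.Monster.VecEngine Cfsg.Agent.Monster.VecSpace

variable {ι : Type} {F : Type*} [Field F]

/-- An integer vector as a vector over `F`. -/
def up (F : Type*) [Field F] (x : ι → ℤ) : ι → F := fun i => (x i : F)

/-- `b` is the reduction of `a`. -/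
def Red (a : Module.End ℚ (ι → ℚ)) (b : Module.End F (ι → F)) : Prop :=
  ∀ x : ι → ℤ, ∃ (k : ℕ) (y : ι → ℤ), (2 : ℚ) ^ k • a (up ℚ x) = up ℚ y ∧ (2 : F) ^ k • b (up F x) = up F y

theorem up_inj {x y : ι → ℤ} (h : up ℚ x = up ℚ y) : x = y := by
  funext i
  have h1 : ((x i : ℤ) : ℚ) = (y i : ℚ) := congrFun h i
  exact_mod_cast h1

theorem up_smul (k : ℕ) (x : ι → ℤ) : up F (fun i => 2 ^ k * x i) = (2 : F) ^ k • up F x := by
  funext i
  show (((2 ^ k * x i : ℤ)) : F) = (2 : F) ^ k * (x i : F)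
  push_cast
  rfl

theorem up_single [DecidableEq ι] (i : ι) (a : ℤ) : up F (Pi.single i a) = Pi.single i (a : F) := by
  funext j
  show ((Pi.single i a : ι → ℤ) j : F) = (Pi.single i (a : F) : ι → F) j
  by_cases h : j = i
  · subst h; rw [Pi.single_eq_same, Pi.single_eq_same]
  · rw [Pi.single_eq_of_ne h, Pi.single_eq_of_ne h, Int.cast_zero]

theorem up_add (x y : ι → ℤ) : up F (x + y) = up F x + up F y := by
  funext i
  show ((x i + y i : ℤ) : F) = _
  push_cast; rfl

theorem up_sub (x y : ι → ℤ) : up F (x - y) = up F x - up F y := by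
  funext i
  show ((x i - y i : ℤ) : F) = _
  push_cast; rfl

theorem up_neg (x : ι → ℤ) : up F (-x) = - up F x := by
  funext i
  show ((- x i : ℤ) : F) = _
  push_cast; rfl

theorem up_zsmul (a : ℤ) (x : ι → ℤ) : up F (a • x) = (a : F) • up F x := by
  funext i
  show ((a * x i : ℤ) : F) = (a : F) * (x i : F)
  push_cast; rfl

theorem Red.mul {a a' : Module.End ℚ (ι → ℚ)} {b b' : Module.End F (ι → F)} (h : Red a b) (h' : Red a' b') :
    Red (a * a') (b * b') := by
  intro x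
  obtain ⟨k, y, h1, h2⟩ := h' x
  obtain ⟨l, w, h3, h4⟩ := h y
  refine ⟨l + k, w, ?_, ?_⟩
  · rw [pow_add, mul_smul, ← h3, ← h1, map_smul]; rfl
  · rw [pow_add, mul_smul, ← h4, ← h2, map_smul]; rfl

theorem Red.one : Red (1 : Module.End ℚ (ι → ℚ)) (1 : Module.End F (ι → F)) := by
  intro x
  exact ⟨0, x, by rw [pow_zero, one_smul]; rfl, by rw [pow_zero, one_smul]; rfl⟩

theorem Red.pow {a : Module.End ℚ (ι → ℚ)} {b : Module.End F (ι → F)} (h : Red a b) (n : ℕ) :
    Red (a ^ n) (b ^ n) := by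
  induction n with
  | zero => rw [pow_zero, pow_zero]; exact Red.one
  | succ n ih => rw [pow_succ, pow_succ]; exact ih.mul h

/-- Transfer of an identity. -/
theorem Red.transfer (h2 : (2 : F) ≠ 0) {a : Module.End ℚ (ι → ℚ)} {b : Module.End F (ι → F)} (h : Red a b)
    {x y : ι → ℤ} (hxy : a (up ℚ x) = up ℚ y) : b (up F x) = up F y := by
  obtain ⟨k, w, h1, h3⟩ := h x
  rw [hxy, ← up_smul] at h1
  have h4 := up_inj h1
  rw [← h4, up_smul] at h3
  exact smul_right_injective _ (pow_ne_zero k h2) h3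

theorem Red.unique [Fintype ι] [DecidableEq ι] (h2 : (2 : F) ≠ 0) {a : Module.End ℚ (ι → ℚ)}
    {b b' : Module.End F (ι → F)} (h : Red a b) (h' : Red a b') : b = b' := by
  apply LinearMap.pi_ext'
  intro i
  apply LinearMap.ext_ring
  show b (Pi.single i 1) = b' (Pi.single i 1)
  have h0 : (Pi.single i 1 : ι → F) = up F (Pi.single i 1) := by rw [up_single, Int.cast_one]
  rw [h0]
  obtain ⟨k, y, h1, h3⟩ := h (Pi.single i 1)
  obtain ⟨l, w, h4, h5⟩ := h' (Pi.single i 1)
  have h6 : up ℚ (fun j => 2 ^ l * y j) = up ℚ (fun j => 2 ^ k * w j) := by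
    rw [up_smul, up_smul, ← h1, ← h4, smul_smul, smul_smul, mul_comm]
  have h7 := up_inj h6
  have h8 := congrArg (up F) h7
  rw [up_smul, up_smul, ← h3, ← h5, smul_smul, smul_smul, mul_comm] at h8
  exact smul_right_injective _ (mul_ne_zero (pow_ne_zero k h2) (pow_ne_zero l h2)) h8

/-! ### Programs -/

/-- Reduction for programs on all lanes. -/
theorem red_sem (h2 : (2 : F) ≠ 0) (P : Prog) (x : ℕ → ℤ) :
    ∃ (k : ℕ) (y : ℕ → ℤ), (2 : ℚ) ^ k • sem ℚ P (up ℚ x) = up ℚ y ∧ (2 : F) ^ k • sem F P (up F x) = up F y := by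
  induction P generalizing x with
  | nil => exact ⟨0, x, by rw [pow_zero, one_smul]; rfl, by rw [pow_zero, one_smul]; rfl⟩
  | perm N P ih => exact ih (fun i => x (N.perm i))
  | neg M P ih =>
    have h1 : lneg ℚ M (up ℚ x) = up ℚ (fun i => if M.testBit i then - x i else x i) := by
      funext i
      show (if M.testBit i then - (x i : ℚ) else (x i : ℚ)) = ((if M.testBit i then - x i else x i : ℤ) : ℚ)
      split_ifs <;> push_cast <;> rfl
    have h3 : lneg F M (up F x) = up F (fun i => if M.testBit i then - x i else x i) := by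
      funext i
      show (if M.testBit i then - (x i : F) else (x i : F)) = ((if M.testBit i then - x i else x i : ℤ) : F)
      split_ifs <;> push_cast <;> rfl
    obtain ⟨k, y, h4, h5⟩ := ih (fun i => if M.testBit i then - x i else x i)
    refine ⟨k, y, ?_, ?_⟩
    · show (2 : ℚ) ^ k • sem ℚ P (lneg ℚ M (up ℚ x)) = _
      rw [h1]; exact h4
    · show (2 : F) ^ k • sem F P (lneg F M (up F x)) = _
      rw [h3]; exact h5
  | dbl M P ih =>
    have h0 : ldbl ℚ M (up ℚ x) = up ℚ (fun i => if M.testBit i then 2 * x i else x i) := by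
      funext i
      show (if M.testBit i then 2 * (x i : ℚ) else (x i : ℚ)) = ((if M.testBit i then 2 * x i else x i : ℤ) : ℚ)
      split_ifs <;> push_cast <;> rfl
    have h3 : ldbl F M (up F x) = up F (fun i => if M.testBit i then 2 * x i else x i) := by
      funext i
      show (if M.testBit i then 2 * (x i : F) else (x i : F)) = ((if M.testBit i then 2 * x i else x i : ℤ) : F)
      split_ifs <;> push_cast <;> rfl
    obtain ⟨k, y, h4, h5⟩ := ih (fun i => if M.testBit i then 2 * x i else x i)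
    refine ⟨k, y, ?_, ?_⟩
    · show (2 : ℚ) ^ k • sem ℚ P (ldbl ℚ M (up ℚ x)) = _
      rw [h0]; exact h4
    · show (2 : F) ^ k • sem F P (ldbl F M (up F x)) = _
      rw [h3]; exact h5
  | half P ih =>
    obtain ⟨k, y, h4, h5⟩ := ih x
    refine ⟨k + 1, y, ?_, ?_⟩
    · show (2 : ℚ) ^ (k + 1) • sem ℚ P ((2 : ℚ)⁻¹ • up ℚ x) = _
      rw [map_smul, smul_smul, pow_succ, mul_assoc, mul_inv_cancel₀ (by norm_num : (2 : ℚ) ≠ 0), mul_one, h4]
    · show (2 : F) ^ (k + 1) • sem F P ((2 : F)⁻¹ • up F x) = _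
      rw [map_smul, smul_smul, pow_succ, mul_assoc, mul_inv_cancel₀ h2, mul_one, h5]
  | bfly M d P ih =>
    set x' : ℕ → ℤ := fun i => if M.testBit i then x i + x (i + d) else
      if d ≤ i ∧ M.testBit (i - d) then x (i - d) - x i else x i with hx'
    have h0 : lbfly ℚ M d (up ℚ x) = up ℚ x' := by
      funext i
      show (if M.testBit i then (x i : ℚ) + (x (i + d) : ℚ) else
        if d ≤ i ∧ M.testBit (i - d) then (x (i - d) : ℚ) - (x i : ℚ) else (x i : ℚ)) = ((x' i : ℤ) : ℚ)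
      rw [hx']
      dsimp only
      split_ifs <;> push_cast <;> rfl
    have h3 : lbfly F M d (up F x) = up F x' := by
      funext i
      show (if M.testBit i then (x i : F) + (x (i + d) : F) else
        if d ≤ i ∧ M.testBit (i - d) then (x (i - d) : F) - (x i : F) else (x i : F)) = ((x' i : ℤ) : F)
      rw [hx']
      dsimp only
      split_ifs <;> push_cast <;> rfl
    obtain ⟨k, y, h4, h5⟩ := ih x'
    refine ⟨k, y, ?_, ?_⟩
    · show (2 : ℚ) ^ k • sem ℚ P (lbfly ℚ M d (up ℚ x)) = _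
      rw [h0]; exact h4
    · show (2 : F) ^ k • sem F P (lbfly F M d (up F x)) = _
      rw [h3]; exact h5

/-- Reduction for programs on the lanes of a mask. -/
theorem red_semU (h2 : (2 : F) ≠ 0) (U : ℕ) (P : Prog) :
    Red (semU ℚ U P : Module.End ℚ (Lane U → ℚ)) (semU F U P : Module.End F (Lane U → F)) := by
  intro x
  set x' : ℕ → ℤ := fun i => if h : U.testBit i = true then x ⟨i, h⟩ else 0 with hx'
  have h0 : ext ℚ U (up ℚ x) = up ℚ x' := by
    funext i
    show (if h : U.testBit i = true then ((x ⟨i, h⟩ : ℤ) : ℚ) else 0) = ((x' i : ℤ) : ℚ)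
    rw [hx']
    dsimp only
    split_ifs <;> simp
  have h1 : ext F U (up F x) = up F x' := by
    funext i
    show (if h : U.testBit i = true then ((x ⟨i, h⟩ : ℤ) : F) else 0) = ((x' i : ℤ) : F)
    rw [hx']
    dsimp only
    split_ifs <;> simp
  obtain ⟨k, y, h4, h5⟩ := red_sem h2 P x'
  refine ⟨k, fun i => y i.1, ?_, ?_⟩
  · funext i
    show (2 : ℚ) ^ k * sem ℚ P (ext ℚ U (up ℚ x)) i.1 = (y i.1 : ℚ)
    rw [h0]
    exact congrFun h4 i.1
  · funext i
    show (2 : F) ^ k * sem F P (ext F U (up F x)) i.1 = (y i.1 : F)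
    rw [h1]
    exact congrFun h5 i.1

/-! ### The representation -/

/-- A finite group of rational matrices generated by elements with a reduction. -/
theorem exists_red {ι : Type} {H : Subgroup ((ι → ℚ) ≃ₗ[ℚ] (ι → ℚ))} (hfin : ∀ g ∈ H, IsOfFinOrder g)
    {S : Set ((ι → ℚ) ≃ₗ[ℚ] (ι → ℚ))} (hS : H = Subgroup.closure S)
    (hr : ∀ s ∈ S, ∃ b : Module.End F (ι → F), Red (s : (ι → ℚ) →ₗ[ℚ] (ι → ℚ)) b) :
    ∀ g ∈ H, ∃ b : Module.End F (ι → F), Red (g : (ι → ℚ) →ₗ[ℚ] (ι → ℚ)) b := by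
  intro g hg
  rw [hS] at hg
  induction hg using Subgroup.closure_induction with
  | mem s hs => exact hr s hs
  | one => exact ⟨1, Red.one⟩
  | mul a b _ _ ha hb =>
    obtain ⟨a', ha'⟩ := ha
    obtain ⟨b', hb'⟩ := hb
    exact ⟨a' * b', ha'.mul hb'⟩
  | inv a ha' ih =>
    obtain ⟨a', hr'⟩ := ih
    have h1 := hfin a (by rw [hS]; exact ha')
    have h2 : a⁻¹ = a ^ (orderOf a - 1) := by
      rw [inv_eq_iff_mul_eq_one, ← pow_succ', Nat.sub_add_cancel h1.orderOf_pos, pow_orderOf_eq_one]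
    refine ⟨a' ^ (orderOf a - 1), ?_⟩
    have h3 : ((a⁻¹ : (ι → ℚ) ≃ₗ[ℚ] (ι → ℚ)) : (ι → ℚ) →ₗ[ℚ] (ι → ℚ)) =
        ((a : (ι → ℚ) →ₗ[ℚ] (ι → ℚ)) : Module.End ℚ (ι → ℚ)) ^ (orderOf a - 1) := by
      rw [h2]
      generalize orderOf a - 1 = k
      induction k with
      | zero => rw [pow_zero, pow_zero]; rfl
      | succ k ih =>
        rw [pow_succ, pow_succ, ← ih]; rfl
    rw [h3]
    exact hr'.pow _

/-- The reduction of a group. -/
theorem exists_rep {ι : Type} [Fintype ι] [DecidableEq ι] (h2 : (2 : F) ≠ 0)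
    {H : Subgroup ((ι → ℚ) ≃ₗ[ℚ] (ι → ℚ))}
    (hr : ∀ g ∈ H, ∃ b : Module.End F (ι → F), Red (g : (ι → ℚ) →ₗ[ℚ] (ι → ℚ)) b) :
    ∃ σ : H →* Module.End F (ι → F), ∀ g : H, Red ((g : (ι → ℚ) ≃ₗ[ℚ] (ι → ℚ)) : (ι → ℚ) →ₗ[ℚ] (ι → ℚ)) (σ g) := by
  choose b hb using fun g : H => hr g.1 g.2
  refine ⟨{ toFun := b, map_one' := ?_, map_mul' := ?_ }, hb⟩
  · exact (hb 1).unique h2 Red.one
  · intro x y
    exact (hb (x * y)).unique h2 ((hb x).mul (hb y))

end Cfsg.Agent.H863.BRed
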