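import Mathlib
import Cfsg.Agent.H863.BCheck

/-!
# The data of the routes (helper863; generated)
-/

set_option autoImplicit false
set_option maxRecDepth 20000

namespace Cfsg.Agent.H863.BData

open Cfsg.Agent.BabyM.Conc Cfsg.Agent.BabyM.KTab Cfsg.Agent.H863.BCheck

/-- The numbers of the base nodes of the lanes. -/
def FT : ℕ := 0x66676766667666776667660000000000666767666676667766676600000000000000000000000000000000000000000000000001111111111111111333333333333333333333333333333332222222222222222111111111111111122222222222222222222222222222222333333333333333311111111111111113333333333333333222222222222222233333333333333331111111111111111111111111111111133333333333333331111111111111111444444444444444411111111111111113333333333333333333333333333333311111111111111111111111111111111222222222222222222222222222222222222222222222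2223333333333333333111111111111111144444444444444441111111111111111333333333333333344444444444444442222222222222222111111111111111133333333333333331111111111111111111111111111111122222222222222222222222222222222222222222222222211111111111111112222222222222222111111111111111122222222222222222222222222222222333333333333333311111111111111114444444444444444111111111111111111111111111111114444444444444444333333333333333311111111111111111111111111111111111111111111111111111111111111111111111111111111222222222222222222222222222222222222222222222222222222222222222211111111111111112222222222222222111111111111111155555555555555553333333333333333333333333333333311111111111111114444444444444444111111111111111111111111111111111111111111111111333333333333333311111111111111114444444444444444222222222222222244444444444444441111111111111111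

/-- The codes of the base nodes. -/
def LT : ℕ := 0xafe551d78980001fe00024f00020800035a000127000400

/-- The code of the base node number `k`. -/
noncomputable def Lc (k : ℕ) : ℕ := fld LT 24 0x3fffff k

/-- The number of the base node of a lane. -/
noncomputable def ft (i : ℕ) : ℕ := fld FT 4 7 i

/-- The words of the base nodes. -/
def Lw : ℕ → List Ltr
  | 0 => []
  | 1 => [.xi, .y2, .h, .xi, .y5, .xi, .h, .xi, .y1]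
  | 2 => [.xi, .y2, .p, .h, .p, .h, .p, .h, .p]
  | 3 => [.xi, .y2, .h, .xi, .y1, .xi, .h, .p]
  | 4 => [.xi, .h, .xi, .y4, .y6, .xi]
  | 5 => [.xi, .y2, .p, .p, .xi, .y3, .xi]
  | 6 => [.xi, .p, .xi, .y1, .p, .xi, .y3, .y10, .xi, .h]
  | 7 => [.xi, .p, .xi, .p, .p, .y2, .h]
  | _ => []

/-- The routes of the letter `y1`. -/
def R_y1 : RTab :=
  .cons 0 0x400 .nil <|
  .cons 9 0x527 (.cons 0x127 [.p, .p, .p, .p, .p, .h, .p, .p, .p, .h, .p, .p, .h, .xi, .y2, .h, .xi, .y5, .xi, .h, .xi] .nil) <|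
  .cons 18 0x35a .nil <|
  .cons 27 0x208 .nil <|
  .cons 36 0x64f (.cons 0x24f [.y2, .xi, .h, .xi, .y1, .y10, .xi] .nil) <|
  .cons 54 0x1d783e (.cons 0x1d7965 [.p, .h, .p, .p, .p, .h, .p, .p, .p, .p, .h, .p, .xi, .p, .xi, .y2, .p, .xi, .y3, .y10, .xi, .h] (.cons 0x1d7898 [.y2, .p, .p, .p, .p, .p, .h, .p, .p, .p, .p, .p, .xi, .p, .xi, .y10, .h, .xi, .y1, .y10, .xi, .h] .nil)) <|
  .cons 45 0x1fe .nil <|
  .cons 63 0xafb93 (.cons 0xaf880 [.y2, .p, .p, .p, .p, .p, .h, .p, .p, .p, .h, .p, .p, .xi, .p, .xi, .p, .p, .y3, .h] (.cons 0xafe55 [.y2, .h, .p, .p, .p, .p, .h, .p, .p, .p, .h, .p, .p, .xi, .y2, .p, .xi, .y3, .p, .p, .h] .nil)) <|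
  .nil

/-- The routes of the letter `y2`. -/
def R_y2 : RTab :=
  .cons 0 0x400 .nil <|
  .cons 9 0x527 (.cons 0x127 [.p, .p, .p, .p, .p, .h, .p, .p, .p, .h, .p, .p, .h, .xi, .y2, .h, .xi, .y5, .xi, .h, .xi] .nil) <|
  .cons 18 0x75a (.cons 0x35a [.y2, .xi, .p, .h, .p, .h, .p, .h, .p] .nil) <|
  .cons 27 0x208 .nil <|
  .cons 36 0x64f (.cons 0x24f [.y2, .xi, .h, .xi, .y1, .y10, .xi] .nil) <|
  .cons 54 0x1d7be9 (.cons 0x1d786e [.y2, .p, .p, .p, .p, .p, .p, .p, .p, .p, .p, .h, .xi, .y2, .p, .xi, .h, .xi, .y1, .y10, .xi, .h] (.cons 0x1d7898 [.p, .h, .p, .p, .p, .h, .p, .p, .p, .p, .h, .p, .xi, .p, .xi, .y1, .p, .xi, .y10, .xi, .p, .p] .nil)) <|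
  .cons 45 0x5fe (.cons 0x1fe [.y2, .xi, .p, .p, .xi, .y3, .xi] .nil) <|
  .cons 63 0xafc80 (.cons 0xaf913 [.h, .xi, .p, .xi, .p, .p, .h] (.cons 0xafe55 [.y2, .p, .p, .p, .p, .p, .h, .p, .p, .p, .h, .p, .p, .h, .xi, .h, .xi, .p, .p, .p, .h] .nil)) <|
  .nil

/-- The routes of the letter `y3`. -/
def R_y3 : RTab :=
  .cons 0 0x400 .nil <|
  .cons 9 0x527 (.cons 0x127 [.p, .p, .p, .p, .p, .h, .p, .p, .p, .h, .p, .p, .h, .xi, .y2, .h, .xi, .y5, .xi, .h, .xi] .nil) <|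
  .cons 18 0x35a .nil <|
  .cons 27 0x208 .nil <|
  .cons 36 0x64f (.cons 0x24f [.y2, .xi, .h, .xi, .y1, .y10, .xi] .nil) <|
  .cons 54 0x1d7fb9 (.cons 0x1d786e [.p, .h, .p, .p, .h, .p, .p, .p, .h, .xi, .p, .h, .xi, .h, .xi, .y10, .xi, .p, .p] (.cons 0x1d7898 [.p, .h, .p, .p, .p, .h, .p, .p, .p, .p, .h, .p, .xi, .p, .xi, .y1, .p, .xi, .y10, .xi, .p, .p] .nil)) <|
  .cons 45 0x5fe (.cons 0x1fe [.y2, .xi, .p, .p, .xi, .y3, .xi] .nil) <|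
  .cons 63 0xafd46 (.cons 0xaf880 [.y2, .xi, .p, .xi, .y3, .p, .p, .h] (.cons 0xafe55 [.y2, .h, .p, .p, .p, .p, .h, .p, .p, .p, .h, .p, .p, .xi, .y2, .p, .xi, .y3, .p, .p, .h] .nil)) <|
  .nil

/-- The routes of the letter `y4`. -/
def R_y4 : RTab :=
  .cons 0 0x400 .nil <|
  .cons 9 0x127 .nil <|
  .cons 18 0x75a (.cons 0x35a [.y2, .xi, .p, .h, .p, .h, .p, .h, .p] .nil) <|
  .cons 27 0x608 (.cons 0x208 [.y2, .xi, .h, .xi, .y1, .xi, .h, .p] .nil) <|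
  .cons 36 0x64f (.cons 0x24f [.y2, .xi, .h, .xi, .y1, .y10, .xi] .nil) <|
  .cons 54 0x1d7cc8 (.cons 0x1d7898 [.y2, .p, .p, .p, .p, .p, .h, .p, .p, .p, .p, .p, .xi, .p, .xi, .y4, .p, .xi, .y3, .y10, .xi, .h] .nil) <|
  .cons 45 0x5fe (.cons 0x1fe [.y2, .xi, .p, .p, .xi, .y3, .xi] .nil) <|
  .cons 63 0xafe55 .nil <|
  .nil

/-- The routes of the letter `y5`. -/
def R_y5 : RTab :=
  .cons 0 0x400 .nil <|
  .cons 9 0x127 .nil <|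
  .cons 18 0x75a (.cons 0x35a [.y2, .xi, .p, .h, .p, .h, .p, .h, .p] .nil) <|
  .cons 27 0x208 .nil <|
  .cons 36 0x24f .nil <|
  .cons 54 0x1d7eb2 (.cons 0x1d786e [.h, .p, .p, .p, .h, .p, .xi, .p, .xi, .p, .xi, .y9, .p, .xi, .h] (.cons 0x1d7898 [.p, .h, .p, .p, .p, .h, .p, .p, .p, .p, .h, .p, .xi, .p, .xi, .y1, .p, .xi, .y10, .xi, .p, .p] .nil)) <|
  .cons 45 0x5fe (.cons 0x1fe [.y2, .xi, .p, .p, .xi, .y3, .xi] .nil) <|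
  .cons 63 0xafb93 (.cons 0xaf880 [.y2, .p, .p, .p, .p, .p, .h, .p, .p, .p, .h, .p, .p, .xi, .p, .xi, .p, .p, .y3, .h] (.cons 0xafe55 [.y2, .h, .p, .p, .p, .p, .h, .p, .p, .p, .h, .p, .p, .xi, .y2, .p, .xi, .y3, .p, .p, .h] .nil)) <|
  .nil

/-- The routes of the letter `y6`. -/
def R_y6 : RTab :=
  .cons 0 0x400 .nil <|
  .cons 9 0x527 (.cons 0x127 [.p, .p, .p, .p, .p, .h, .p, .p, .p, .h, .p, .p, .h, .xi, .y2, .h, .xi, .y5, .xi, .h, .xi] .nil) <|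
  .cons 18 0x35a .nil <|
  .cons 27 0x208 .nil <|
  .cons 36 0x24f .nil <|
  .cons 54 0x1d7f4f (.cons 0x1d786e [.h, .p, .p, .p, .p, .h, .p, .p, .p, .p, .p, .xi, .p, .xi, .p, .y5, .xi, .y10, .xi, .p, .p] (.cons 0x1d7898 [.p, .h, .p, .p, .p, .h, .p, .p, .p, .p, .h, .p, .xi, .p, .xi, .y1, .p, .xi, .y10, .xi, .p, .p] .nil)) <|
  .cons 45 0x5fe (.cons 0x1fe [.y2, .xi, .p, .p, .xi, .y3, .xi] .nil) <|
  .cons 63 0xaf8d5 (.cons 0xafe55 [.y2, .p, .h, .p, .p, .h, .p, .p, .p, .p, .h, .p, .p, .xi, .p, .xi, .y4, .p, .p, .h] .nil) <|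
  .nil

/-- The routes of the letter `y7`. -/
def R_y7 : RTab :=
  .cons 0 0x400 .nil <|
  .cons 9 0x127 .nil <|
  .cons 18 0x75a (.cons 0x35a [.y2, .xi, .p, .h, .p, .h, .p, .h, .p] .nil) <|
  .cons 27 0x208 .nil <|
  .cons 36 0x64f (.cons 0x24f [.y2, .xi, .h, .xi, .y1, .y10, .xi] .nil) <|
  .cons 54 0x1d7ab2 (.cons 0x1d7898 [.p, .h, .p, .p, .h, .p, .p, .xi, .p, .xi, .p, .p, .p, .xi, .h, .y8, .xi] .nil) <|
  .cons 45 0x5fe (.cons 0x1fe [.y2, .xi, .p, .p, .xi, .y3, .xi] .nil) <|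
  .cons 63 0xafd46 (.cons 0xaf880 [.y2, .xi, .p, .xi, .y3, .p, .p, .h] (.cons 0xafe55 [.y2, .h, .p, .p, .p, .p, .h, .p, .p, .p, .h, .p, .p, .xi, .y2, .p, .xi, .y3, .p, .p, .h] .nil)) <|
  .nil

/-- The routes of the letter `y8`. -/
def R_y8 : RTab :=
  .cons 0 0x400 .nil <|
  .cons 9 0x127 .nil <|
  .cons 18 0x35a .nil <|
  .cons 27 0x208 .nil <|
  .cons 36 0x24f .nil <|
  .cons 54 0x1d7fb9 (.cons 0x1d786e [.p, .h, .p, .p, .h, .p, .p, .p, .h, .xi, .p, .h, .xi, .h, .xi, .y10, .xi, .p, .p] (.cons 0x1d7898 [.p, .h, .p, .p, .p, .h, .p, .p, .p, .p, .h, .p, .xi, .p, .xi, .y1, .p, .xi, .y10, .xi, .p, .p] .nil)) <|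
  .cons 45 0x5fe (.cons 0x1fe [.y2, .xi, .p, .p, .xi, .y3, .xi] .nil) <|
  .cons 63 0xaff66 (.cons 0xaf880 [.y2, .p, .h, .p, .p, .h, .p, .p, .p, .p, .p, .p, .xi, .p, .xi, .y1, .y3, .p, .p, .h] (.cons 0xafe55 [.y2, .h, .p, .p, .p, .p, .h, .p, .p, .p, .h, .p, .p, .xi, .y2, .p, .xi, .y3, .p, .p, .h] .nil)) <|
  .nil

/-- The routes of the letter `y9`. -/
def R_y9 : RTab :=
  .cons 0 0x400 .nil <|
  .cons 9 0x527 (.cons 0x127 [.p, .p, .p, .p, .p, .h, .p, .p, .p, .h, .p, .p, .h, .xi, .y2, .h, .xi, .y5, .xi, .h, .xi] .nil) <|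
  .cons 18 0x75a (.cons 0x35a [.y2, .xi, .p, .h, .p, .h, .p, .h, .p] .nil) <|
  .cons 27 0x208 .nil <|
  .cons 36 0x24f .nil <|
  .cons 54 0x1d783e (.cons 0x1d7965 [.p, .h, .p, .p, .p, .h, .p, .p, .p, .p, .h, .p, .xi, .p, .xi, .y2, .p, .xi, .y3, .y10, .xi, .h] (.cons 0x1d7898 [.y2, .p, .p, .p, .p, .p, .h, .p, .p, .p, .p, .p, .xi, .p, .xi, .y10, .h, .xi, .y1, .y10, .xi, .h] .nil)) <|
  .cons 45 0x5fe (.cons 0x1fe [.y2, .xi, .p, .p, .xi, .y3, .xi] .nil) <|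
  .cons 63 0xafc80 (.cons 0xaf913 [.h, .xi, .p, .xi, .p, .p, .h] (.cons 0xafe55 [.y2, .p, .p, .p, .p, .p, .h, .p, .p, .p, .h, .p, .p, .h, .xi, .h, .xi, .p, .p, .p, .h] .nil)) <|
  .nil

/-- The routes of the letter `y10`. -/
def R_y10 : RTab :=
  .cons 0 0x400 .nil <|
  .cons 9 0x127 .nil <|
  .cons 18 0x75a (.cons 0x35a [.y2, .xi, .p, .h, .p, .h, .p, .h, .p] .nil) <|
  .cons 27 0x608 (.cons 0x208 [.y2, .xi, .h, .xi, .y1, .xi, .h, .p] .nil) <|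
  .cons 36 0x64f (.cons 0x24f [.y2, .xi, .h, .xi, .y1, .y10, .xi] .nil) <|
  .cons 54 0x1d7c6e (.cons 0x1d7a44 [.y2, .p, .h, .p, .p, .h, .p, .p, .p, .p, .h, .p, .p, .xi, .p, .xi, .p, .y2, .xi, .y3, .y10, .xi, .h] (.cons 0x1d7898 [.p, .p, .p, .p, .p, .h, .p, .p, .p, .p, .p, .h, .xi, .p, .xi, .p, .xi, .y3, .y10, .xi, .h] .nil)) <|
  .cons 45 0x1fe .nil <|
  .cons 63 0xaff33 (.cons 0xaf880 [.y2, .h, .p, .p, .p, .p, .h, .p, .p, .p, .p, .p, .xi, .y2, .p, .xi, .p, .y4, .p, .h] (.cons 0xafe55 [.y2, .h, .p, .p, .p, .p, .h, .p, .p, .p, .h, .p, .p, .xi, .y2, .p, .xi, .y3, .p, .p, .h] .nil)) <|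
  .nil

/-- The routes of the letter `p`. -/
def R_p : RTab :=
  .cons 0 0x400 .nil <|
  .cons 9 0x275 (.cons 0x133 [.h, .p, .h, .p, .p, .p, .h, .p, .p, .p, .xi, .h, .xi, .y4, .p, .xi] (.cons 0x127 [.h, .p, .h, .p, .p, .p, .p, .p, .p, .p, .xi, .y2, .h, .p, .h] .nil)) <|
  .cons 9 0x275 (.cons 0x2eb [.y2, .h, .xi, .h, .xi, .y4, .p, .xi] (.cons 0x127 [.h, .p, .h, .p, .p, .p, .p, .p, .p, .p, .xi, .y2, .h, .p] .nil)) <|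
  .cons 17 0x30 (.cons 0x41 [.y2, .p, .h, .p, .p, .p, .h, .p, .p, .p, .p, .h, .p, .xi, .p, .xi, .y3, .xi, .h, .xi, .y5, .xi] (.cons 0x127 [.p, .h, .p, .h, .p, .h, .p, .h, .p, .p, .p, .p, .xi, .h, .p, .xi, .y1, .h] .nil)) <|
  .cons 17 0x30 (.cons 0x2f [.y2, .h, .p, .h, .p, .p, .p, .h, .p, .p, .p, .p, .xi, .p, .xi, .y3, .xi, .h, .xi, .y5, .xi] (.cons 0x127 [.y2, .h, .p, .p, .p, .h, .p, .h, .p, .h, .p, .xi, .h, .p, .h, .xi, .y10, .xi, .h] .nil)) <|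
  .cons 11 0x275 (.cons 0x9e [.h, .xi, .h, .xi, .y4, .p, .xi] (.cons 0x208 [.p, .p, .p, .p, .p, .h, .p, .p, .p, .p, .p, .h, .xi, .h, .xi, .y5, .xi, .p] .nil)) <|
  .cons 11 0x275 (.cons 0x27c [.y2, .p, .p, .p, .p, .p, .h, .p, .p, .p, .h, .p, .p, .h, .xi, .h, .xi, .y4, .p, .xi] (.cons 0x208 [.y2, .p, .p, .p, .p, .p, .h, .p, .p, .p, .p, .p, .h, .xi, .y2, .p] .nil)) <|
  .cons 12 0x275 (.cons 0x104 [.y2, .p, .h, .p, .p, .h, .p, .p, .p, .p, .p, .xi, .h, .xi, .y4, .p, .xi] (.cons 0x24f [.y2, .h, .p, .p, .p, .p, .h, .p, .xi, .p, .h, .p, .p, .p, .h, .xi, .y5, .xi] .nil)) <|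
  .cons 12 0x275 (.cons 0x4b [.p, .h, .p, .p, .h, .p, .p, .p, .h, .p, .p, .xi, .h, .xi, .y4, .p, .xi] (.cons 0x24f [.y2, .p, .p, .p, .p, .h, .p, .p, .p, .p, .xi, .h, .p, .xi, .y1, .p] .nil)) <|
  .cons 26 0x2da (.cons 0x60 [.y2, .h, .p, .h, .p, .h, .p, .h, .xi, .y2, .h, .xi, .y1, .xi, .h, .p, .p] (.cons 0x35a [.p, .h, .p, .h, .p, .xi, .p, .p, .xi, .y10, .xi, .h] .nil)) <|
  .cons 26 0x2da (.cons 0x5b2 [.y2, .h, .p, .h, .p, .h, .p, .p, .h, .xi, .y2, .h, .xi, .y1, .xi, .h, .p, .p] (.cons 0x1aa [.y2, .p, .h, .p, .h, .p, .h, .p, .h, .p, .p, .p, .p, .xi, .y2, .h, .xi, .y10, .xi, .p, .h] (.cons 0x35a [.y2, .h, .p, .h, .p, .p, .h, .p, .h, .p, .p, .h, .xi, .h, .p, .h, .xi, .y9, .xi, .p] .nil))) <|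
  .cons 26 0x2da (.cons 0x21a [.h, .p, .h, .p, .p, .h, .p, .p, .p, .h, .xi, .y2, .h, .xi, .y1, .xi, .h, .p, .p] (.cons 0x35a [.p, .h, .p, .h, .p, .h, .p, .xi, .h, .xi, .y1, .xi, .h, .xi, .y2] .nil)) <|
  .cons 18 0x30 (.cons 0xa [.y2, .p, .h, .p, .h, .p, .h, .p, .h, .p, .p, .p, .h, .xi, .p, .xi, .y3, .xi, .h, .xi, .y5, .xi] (.cons 0x35a [.h, .p, .p, .p, .h, .p, .h, .p, .p, .h, .xi, .p, .h, .p, .p, .p, .xi, .y9, .xi] .nil)) <|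
  .cons 18 0x30 (.cons 0x71 [.p, .h, .p, .p, .p, .h, .p, .p, .p, .p, .h, .p, .xi, .p, .xi, .y3, .xi, .h, .xi, .y5, .xi] (.cons 0x35a [.h, .p, .p, .p, .h, .p, .p, .p, .h, .xi, .p, .p, .p, .h, .xi, .y9, .xi] .nil)) <|
  .cons 25 0x2da (.cons 0x14 [.y2, .p, .p, .h, .p, .p, .h, .p, .xi, .y2, .h, .xi, .y1, .xi, .h, .p, .p] (.cons 0x127 [.y2, .h, .p, .p, .p, .h, .p, .h, .p, .h, .p, .xi, .h, .p, .h, .xi, .y5, .xi] .nil)) <|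
  .cons 25 0x2da (.cons 0x166 [.p, .h, .p, .p, .p, .p, .p, .h, .p, .h, .p, .xi, .y2, .h, .xi, .y1, .xi, .h, .p, .p] (.cons 0x127 [.y2, .p, .h, .p, .p, .h, .p, .p, .h, .p, .xi, .h, .p, .xi, .y1, .p, .p, .h] .nil)) <|
  .cons 10 0x275 (.cons 0x2eb [.y2, .h, .xi, .h, .xi, .y4, .p, .xi] (.cons 0x35a [.y2, .p, .h, .p, .h, .p, .xi, .y2, .h, .p] .nil)) <|
  .cons 19 0x30 (.cons 0x208 [.y2, .h, .p, .h, .p, .h, .p, .h, .xi, .p, .xi, .y3, .xi, .h, .xi, .y5, .xi] .nil) <|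
  .cons 33 0xea (.cons 0x127 [.p, .p, .p, .p, .p, .h, .p, .p, .p, .h, .p, .p, .h, .xi, .y2] .nil) <|
  .cons 27 0x2da (.cons 0x208 [.h, .p, .h, .p, .p, .p, .h, .p, .p, .p, .p, .xi, .y2, .h, .xi, .y1, .xi, .h, .p, .p] .nil) <|
  .cons 34 0xea (.cons 0x35a [.h, .p, .h, .p, .p, .h, .p, .h, .p, .p, .h, .xi, .y2] .nil) <|
  .cons 54 0x1f8a59 (.cons 0xa0a2a [.y2, .h, .p, .h, .p, .h, .xi, .p, .xi, .y4, .h, .p, .p, .h] (.cons 0x19592d [.p, .p, .p, .p, .h, .p, .h, .p, .p, .p, .h, .xi, .p, .p, .xi, .h, .p, .h] (.cons 0x1d7898 [.y2, .h, .p, .p, .p, .h, .p, .h, .p, .p, .p, .xi, .p, .p, .xi, .y1, .p, .xi, .y5, .xi] .nil))) <|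
  .cons 54 0x1f8a59 (.cons 0x158713 [.y2, .p, .p, .p, .p, .h, .p, .h, .p, .p, .p, .xi, .p, .xi, .y4, .h, .p, .p, .h] (.cons 0x1150a8 [.p, .h, .p, .h, .p, .h, .p, .h, .p, .h, .xi, .p, .p, .xi, .p, .y2, .xi, .p, .xi, .p, .y1] (.cons 0x1d7898 [.h, .p, .p, .p, .p, .p, .p, .p, .p, .xi, .p, .h, .p, .xi, .y2, .p, .y4, .xi, .h] .nil))) <|
  .cons 54 0x1f8a59 (.cons 0x48dab [.h, .p, .h, .p, .h, .p, .h, .xi, .p, .xi, .y4, .h, .p, .p, .h] (.cons 0xc2d2b [.h, .p, .h, .p, .p, .p, .p, .p, .xi, .p, .xi, .p, .p, .y3, .xi, .p, .y4, .h] (.cons 0x1d7898 [.p, .p, .h, .p, .p, .p, .h, .p, .p, .xi, .y2, .p, .xi, .p, .p, .xi, .h, .p, .h] .nil))) <|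
  .cons 13 0x275 (.cons 0x1ef [.y2, .p, .p, .p, .h, .p, .p, .h, .p, .h, .xi, .h, .xi, .y4, .p, .xi] (.cons 0x1fe [.y2, .h, .p, .h, .p, .p, .h, .p, .h, .p, .p, .h, .xi, .p, .p, .xi, .y1, .y10, .xi, .p, .h] .nil)) <|
  .cons 35 0xea (.cons 0x208 [.y2, .h, .p, .h, .p, .h, .p, .h, .xi, .y2] .nil) <|
  .cons 44 0x3ed (.cons 0x1bb [.y2, .p, .p, .p, .h, .p, .p, .h, .p, .h, .p, .xi, .y2, .p, .p, .xi, .y3, .xi, .p] (.cons 0x24f [.p, .p, .p, .p, .p, .h, .p, .p, .p, .p, .p, .h, .xi, .y2, .p, .p, .h, .p, .p, .h] .nil)) <|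
  .cons 55 0x1f8a59 (.cons 0x88aa [.y2, .h, .p, .h, .xi, .p, .xi, .y4, .h, .p, .p, .h] (.cons 0xafe55 [.p, .h, .p, .h, .p, .p, .p, .p, .h, .xi, .p, .p, .xi, .y10, .p, .xi, .h, .y5, .xi, .p] .nil)) <|
  .cons 55 0x1f8a59 (.cons 0xa0a2a [.y2, .h, .p, .h, .p, .h, .xi, .p, .xi, .y4, .h, .p, .p, .h] (.cons 0xafe55 [.y2, .p, .h, .p, .p, .h, .p, .p, .p, .p, .p, .p, .xi, .p, .p, .xi, .h, .p, .h] .nil)) <|
  .cons 62 0x1775a1 (.cons 0x42103 [.y2, .h, .p, .p, .p, .h, .p, .h, .p, .p, .h, .xi, .p, .xi, .p, .p, .y2, .h, .p] (.cons 0x1d7898 [.p, .p, .p, .p, .p, .h, .p, .h, .p, .xi, .p, .p, .xi, .p, .y2, .xi, .h, .p, .xi, .p] .nil)) <|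
  .cons 62 0x1775a1 (.cons 0x157406 [.y2, .h, .p, .p, .p, .h, .p, .h, .p, .p, .xi, .p, .xi, .p, .p, .y2, .h, .p] (.cons 0x1d7898 [.p, .p, .p, .p, .p, .h, .p, .p, .p, .p, .p, .xi, .h, .p, .h, .xi, .y8, .p, .h, .xi, .h] .nil)) <|
  .nil

/-- The routes of the letter `h`. -/
def R_h : RTab :=
  .cons 0 0x400 .nil <|
  .cons 9 0x127 .nil <|
  .cons 18 0xa (.cons 0x35a [.h, .p, .p, .p, .h, .p, .h, .p, .p, .h, .xi, .p, .h, .p, .p, .p, .xi, .y9, .xi] .nil) <|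
  .cons 19 0xa (.cons 0x578 [.y2, .h, .p, .h, .p, .h, .p, .h, .p, .h, .xi, .p, .h, .p, .p, .p, .xi, .y9, .xi] (.cons 0x2e2 [.y2, .p, .p, .p, .p, .p, .p, .p, .p, .p, .p, .h, .xi, .y2, .h, .p, .h, .xi, .y10, .xi, .p] (.cons 0x208 [.p, .p, .p, .p, .p, .h, .p, .p, .p, .p, .p, .h, .xi, .h, .xi, .y10, .xi, .p] .nil))) <|
  .cons 19 0xa (.cons 0x30 [.y2, .p, .h, .p, .p, .p, .h, .p, .p, .p, .p, .h, .p, .xi, .p, .h, .p, .p, .p, .xi, .y9, .xi] (.cons 0x208 [.y2, .h, .p, .h, .p, .h, .p, .h, .xi, .p, .xi, .y3, .xi, .h, .xi, .y5, .xi] .nil)) <|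
  .cons 26 0xc0 (.cons 0x120 [.y2, .h, .p, .h, .p, .h, .p, .h, .xi, .y2, .h, .p, .h, .p, .h, .p] (.cons 0x35a [.y2, .p, .p, .h, .p, .p, .h, .p, .xi, .y2, .p, .h, .p, .xi, .y10, .xi, .p] .nil)) <|
  .cons 26 0xc0 (.cons 0x10f8be [.p, .p, .p, .p, .p, .h, .p, .p, .p, .h, .p, .p, .p, .xi, .y2, .h, .p, .h, .p, .h, .p] (.cons 0x35a [.y2, .p, .p, .p, .p, .p, .h, .p, .p, .p, .p, .p, .xi, .y2, .p, .xi, .y3, .h, .p, .p, .p, .h] .nil)) <|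
  .cons 26 0xc0 (.cons 0x10fe64 [.p, .p, .p, .p, .h, .p, .h, .p, .h, .xi, .y2, .h, .p, .h, .p, .h, .p] (.cons 0x460 [.y2, .h, .xi, .p, .xi, .y10, .h, .p, .p, .p, .h] (.cons 0x35a [.y2, .p, .p, .p, .p, .h, .p, .p, .p, .h, .p, .xi, .y2, .p, .p, .xi, .y10, .xi, .h] .nil))) <|
  .cons 26 0xc0 (.cons 0x21a [.y2, .h, .p, .h, .p, .p, .h, .p, .p, .p, .h, .xi, .y2, .h, .p, .h, .p, .h, .p] (.cons 0x35a [.p, .h, .p, .h, .p, .h, .p, .xi, .h, .xi, .y1, .xi, .h, .xi, .y2] .nil)) <|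
  .cons 27 0xc0 (.cons 0x208 [.h, .p, .h, .p, .h, .p, .p, .h, .xi, .y2, .h, .p, .h, .p, .h, .p] .nil) <|
  .cons 20 0xa (.cons 0x4b [.y2, .p, .p, .p, .p, .h, .p, .p, .p, .h, .p, .xi, .p, .h, .p, .p, .p, .xi, .y9, .xi] (.cons 0x24f [.y2, .p, .p, .p, .p, .h, .p, .p, .p, .p, .xi, .h, .p, .xi, .y1, .p] .nil)) <|
  .cons 20 0xa (.cons 0x139 [.y2, .h, .p, .p, .p, .h, .p, .p, .p, .h, .xi, .p, .h, .p, .p, .p, .xi, .y9, .xi] (.cons 0x24f [.y2, .h, .p, .h, .p, .p, .p, .h, .p, .p, .p, .xi, .h, .xi, .p, .y2, .xi, .p] .nil)) <|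
  .cons 28 0xc0 (.cons 0x172 [.h, .p, .h, .p, .p, .h, .p, .h, .p, .p, .h, .xi, .y2, .h, .p, .h, .p, .h, .p] (.cons 0x24f [.p, .h, .p, .p, .p, .h, .p, .p, .p, .p, .h, .p, .xi, .y2, .h] .nil)) <|
  .cons 28 0xc0 (.cons 0x204 [.y2, .h, .p, .h, .p, .p, .p, .h, .xi, .y2, .h, .p, .h, .p, .h, .p] (.cons 0x24f [.p, .h, .p, .p, .h, .p, .p, .p, .p, .h, .p, .p, .xi, .p, .p, .p, .xi, .y1, .xi, .h, .p] .nil)) <|
  .cons 34 0x3d7 (.cons 0xea [.p, .h, .p, .p, .p, .h, .p, .p, .p, .p, .h, .p, .xi, .h, .xi, .y4, .y6, .xi, .h] (.cons 0x35a [.h, .p, .h, .p, .p, .h, .p, .h, .p, .p, .h, .xi, .y2] .nil)) <|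
  .cons 34 0x3d7 (.cons 0x15b [.p, .h, .p, .h, .p, .h, .p, .h, .p, .p, .p, .h, .xi, .h, .xi, .y4, .y6, .xi, .h] (.cons 0x35a [.p, .p, .h, .p, .p, .p, .h, .p, .p, .h, .xi, .h, .p, .xi, .y1, .p, .h] .nil)) <|
  .cons 35 0x3d7 (.cons 0xea [.p, .h, .p, .p, .p, .h, .p, .p, .p, .p, .h, .p, .xi, .h, .xi, .y4, .y6, .xi, .h] (.cons 0x208 [.y2, .h, .p, .h, .p, .h, .p, .h, .xi, .y2] .nil)) <|
  .cons 35 0x3d7 (.cons 0x266 [.p, .h, .p, .h, .p, .xi, .h, .xi, .y4, .y6, .xi, .h] (.cons 0x208 [.y2, .p, .p, .p, .p, .h, .p, .p, .p, .h, .p, .xi, .y2, .p, .p, .xi, .y1, .xi, .p, .p] .nil)) <|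
  .cons 36 0x3d7 (.cons 0x787 [.y2, .h, .p, .xi, .h, .xi, .y4, .y6, .xi, .h] (.cons 0x585 [.y2, .p, .h, .p, .h, .p, .h, .p, .h, .p, .p, .p, .xi, .h, .p, .xi, .h, .p, .h] (.cons 0x24f [.h, .p, .h, .p, .p, .h, .p, .h, .p, .p, .h, .xi, .p, .h, .xi, .y9, .xi, .p] .nil))) <|
  .cons 54 0x7da50 (.cons 0x4501f [.y2, .p, .p, .p, .p, .p, .h, .p, .xi, .p, .xi, .y1, .p, .xi, .y3, .y10, .xi] (.cons 0x1d7898 [.y2, .p, .h, .p, .h, .p, .h, .p, .p, .p, .xi, .p, .p, .xi, .y2, .p, .xi, .y7, .p, .y4, .xi] .nil)) <|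
  .cons 54 0x7da50 (.cons 0x11aad [.p, .p, .p, .p, .p, .p, .p, .xi, .p, .xi, .y1, .p, .xi, .y3, .y10, .xi] (.cons 0x1d7898 [.y2, .p, .p, .h, .p, .xi, .h, .p, .h, .p, .xi, .p, .xi, .h, .xi, .y5] .nil)) <|
  .cons 45 0x2ae (.cons 0x32b [.h, .p, .h, .p, .p, .p, .p, .p, .p, .p, .xi, .y2, .p, .p, .xi, .y3, .xi, .h] (.cons 0x1fe [.p, .p, .p, .p, .p, .h, .p, .p, .p, .h, .p, .p, .h, .xi, .y2, .p, .p, .h, .p] .nil)) <|
  .cons 55 0x7da50 (.cons 0x297ad [.y2, .h, .p, .h, .p, .p, .p, .h, .xi, .p, .xi, .y1, .p, .xi, .y3, .y10, .xi] (.cons 0xafaa0 [.y2, .p, .h, .p, .p, .h, .p, .p, .p, .h, .p, .xi, .p, .p, .xi, .p, .y5, .xi, .y6, .h, .xi, .h] (.cons 0xafe55 [.p, .xi, .p, .h, .xi, .y4, .h, .p, .h] .nil))) <|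
  .cons 62 0x1cbea5 (.cons 0x18339e [.h, .p, .h, .p, .h, .p, .xi, .p, .xi, .p, .p, .y2] (.cons 0x1d7993 [.h, .p, .h, .p, .p, .p, .p, .xi, .p, .p, .xi, .p, .y5, .xi, .y6, .h, .xi, .y9] (.cons 0x1d7898 [.y2, .p, .h, .p, .p, .h, .p, .p, .p, .p, .p, .p, .xi, .p, .xi, .y3, .h, .xi, .y4, .y6, .xi, .h] .nil))) <|
  .cons 63 0x1cbea5 (.cons 0x8a34c [.y2, .p, .p, .p, .p, .h, .p, .h, .p, .p, .p, .h, .xi, .p, .xi, .p, .p, .y2] (.cons 0xafe55 [.y2, .p, .h, .p, .p, .h, .xi, .p, .h, .p, .xi, .p, .xi, .y5] .nil)) <|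
  .nil

/-- The routes of the letter `xi`. -/
def R_xi : RTab :=
  .cons 0 0x4ea (.cons 0x400 [.xi] .nil) <|
  .cons 1 0x4ea (.cons 0x127 [.y2, .p, .h, .p, .p, .h, .p, .p, .p, .p, .h, .p, .p, .xi] .nil) <|
  .cons 8 0x127 (.cons 0x400 [.y2, .p, .p, .p, .p, .p, .h, .p, .p, .p, .h, .p, .p, .h, .xi, .y2, .h, .xi, .y5, .xi, .h, .xi, .y1] .nil) <|
  .cons 9 0x127 .nil <|
  .cons 18 0x35a .nil <|
  .cons 27 0x208 .nil <|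
  .cons 2 0x4ea (.cons 0x35a [.y2, .p, .h, .p, .h, .p, .h, .p, .xi] .nil) <|
  .cons 16 0x35a (.cons 0x400 [.xi, .y2, .p, .h, .p, .h, .p, .h, .p] .nil) <|
  .cons 3 0x4ea (.cons 0x208 [.y2, .h, .p, .h, .p, .h, .p, .h, .xi] .nil) <|
  .cons 4 0x4ea (.cons 0x1cd [.y2, .p, .p, .p, .p, .p, .h, .p, .p, .p, .h, .p, .p, .h, .xi] (.cons 0x24f [.p, .p, .p, .p, .p, .p, .p, .p, .p, .p, .h, .xi, .h, .xi, .y5, .xi, .h] .nil)) <|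
  .cons 24 0x208 (.cons 0x400 [.xi, .y2, .h, .xi, .y1, .xi, .h, .p] .nil) <|
  .cons 32 0x1eff03 (.cons 0x1cd [.p, .p, .p, .p, .p, .h, .p, .p, .p, .h, .p, .p, .h, .xi, .h, .xi, .y4, .y6] (.cons 0x400 [.xi, .h, .xi, .y5, .xi, .h] .nil)) <|
  .cons 36 0x1eff03 (.cons 0x1ef8d4 [.y2, .p, .p, .p, .p, .p, .p, .p, .p, .p, .p, .h, .xi, .h, .xi, .y4, .y6] (.cons 0x24f [.y2, .p, .p, .p, .p, .p, .p, .p, .p, .p, .p, .xi, .h, .xi] .nil)) <|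
  .cons 38 0x1eff03 (.cons 0x8786c [.y2, .h, .p, .p, .p, .p, .xi, .h, .xi, .y4, .y6] (.cons 0x1d7965 [.h, .p, .p, .p, .p, .h, .p, .h, .p, .xi, .h, .p, .xi, .p, .xi, .h, .y10, .xi] (.cons 0x1d7898 [.y2, .p, .p, .p, .p, .p, .h, .p, .p, .p, .p, .p, .xi, .p, .xi, .y10, .h, .xi, .y1, .y10, .xi, .h] .nil))) <|
  .cons 38 0x1eff03 (.cons 0x146b34 [.h, .p, .p, .p, .h, .p, .h, .p, .h, .p, .xi, .h, .xi, .y4, .y6] (.cons 0x1d7ab2 [.y2, .p, .h, .p, .h, .p, .p, .h, .p, .h, .xi, .p, .p, .h, .p, .p, .xi, .y1] (.cons 0x1d7898 [.p, .h, .p, .p, .h, .p, .p, .xi, .p, .xi, .p, .p, .p, .xi, .h, .y8, .xi] .nil))) <|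
  .cons 52 0x3853e (.cons 0x885b1 [.y2, .h, .p, .p, .p, .p, .h, .p, .p, .p, .p, .xi, .p, .p, .xi, .y2, .h, .xi, .y1, .y10, .xi, .h] (.cons 0x18a5f9 [.p, .p, .h, .p, .p, .h, .xi, .p, .xi, .y1, .p, .xi, .y10, .xi, .p, .p, .xi] (.cons 0x24f [.y2, .p, .h, .p, .p, .h, .p, .h, .p, .p, .p, .xi, .h, .p, .xi, .p, .xi, .h, .y10] .nil))) <|
  .cons 52 0x3853e (.cons 0x210cf [.y2, .p, .p, .h, .xi, .p, .p, .xi, .y2, .h, .xi, .y1, .y10, .xi, .h] (.cons 0x7bc [.p, .h, .p, .p, .h, .p, .p, .p, .p, .h, .p, .p, .xi, .p, .xi, .p, .y2, .p, .p, .xi, .h] (.cons 0x24f [.y2, .p, .h, .p, .h, .p, .h, .p, .h, .p, .p, .p, .h, .xi, .p, .h, .p, .h, .p, .h] .nil))) <|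
  .cons 39 0x1eff03 (.cons 0x2edb6 [.y2, .p, .h, .p, .p, .p, .h, .p, .xi, .h, .xi, .y4, .y6] (.cons 0xafe55 [.y2, .p, .p, .p, .p, .p, .p, .p, .xi, .y2, .p, .h, .p, .xi, .y1, .y3, .h, .xi] .nil)) <|
  .cons 45 0x114e08 (.cons 0x60028 [.y2, .h, .p, .h, .p, .p, .p, .p, .xi, .y2, .p, .p, .xi, .y3] (.cons 0x1fe [.y2, .h, .p, .h, .p, .p, .p, .h, .p, .xi, .p, .xi, .y3, .h, .p, .h, .xi, .y2] .nil)) <|
  .cons 60 0x2b6ed5 (.cons 0x18a28f [.y2, .p, .p, .p, .h, .p, .p, .h, .p, .h, .p, .xi, .p, .xi, .y3, .h, .xi, .y4, .y7] (.cons 0x24f [.y2, .p, .h, .p, .p, .p, .h, .p, .p, .p, .p, .p, .h, .xi, .p, .h, .p, .xi, .h, .y4, .xi, .y5] .nil)) <|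
  .cons 46 0x114e08 (.cons 0xb07a9 [.p, .p, .p, .p, .p, .h, .p, .h, .xi, .y2, .p, .p, .xi, .y3] (.cons 0x96505 [.y2, .p, .p, .p, .p, .h, .p, .h, .xi, .h, .p, .xi, .p, .p, .h, .p, .xi] (.cons 0x1d7898 [.y2, .p, .p, .p, .h, .p, .p, .p, .h, .p, .p, .p, .xi, .h, .p, .h, .xi, .p, .y5, .h] .nil))) <|
  .cons 47 0x114e08 (.cons 0x24d51 [.y2, .h, .p, .h, .p, .p, .h, .p, .xi, .y2, .p, .p, .xi, .y3] (.cons 0x8dc7f [.h, .p, .h, .p, .p, .h, .p, .h, .p, .xi, .p, .h, .p, .xi, .p, .y4, .p, .xi, .y9] (.cons 0xafe55 [.p, .p, .p, .h, .p, .p, .h, .p, .xi, .p, .h, .p, .xi, .p, .y8, .p, .xi, .y2] .nil))) <|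
  .cons 53 0x3853e (.cons 0x21318 [.p, .h, .xi, .p, .p, .xi, .y2, .h, .xi, .y1, .y10, .xi, .h] (.cons 0xedc61 [.y2, .h, .p, .h, .p, .p, .p, .h, .p, .p, .p, .xi, .p, .h, .xi, .p, .y2, .p, .xi, .y2, .h] (.cons 0x1fe [.h, .xi, .y2, .p, .xi, .p, .p, .p, .xi, .y1, .xi] .nil))) <|
  .cons 54 0x3853e (.cons 0x21c867 [.y2, .p, .p, .h, .p, .p, .p, .h, .xi, .p, .p, .xi, .y2, .h, .xi, .y1, .y10, .xi, .h] (.cons 0x1d7898 [.y2, .h, .p, .p, .p, .p, .h, .p, .p, .p, .h, .p, .p, .xi, .p, .p, .xi, .y2, .y7, .h, .xi, .y8, .h] .nil)) <|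
  .cons 54 0x3853e (.cons 0x27e1f3 [.y2, .p, .h, .p, .p, .p, .p, .h, .xi, .p, .p, .xi, .y2, .h, .xi, .y1, .y10, .xi, .h] (.cons 0x80d23 [.p, .h, .p, .p, .h, .p, .h, .p, .p, .h, .p, .xi, .p, .p, .xi, .p, .p, .h, .xi, .y10, .p] (.cons 0x1d7898 [.p, .p, .h, .p, .p, .p, .h, .p, .p, .p, .xi, .p, .p, .xi, .h, .xi, .y1, .xi, .h, .y9, .p] .nil))) <|
  .cons 61 0x2b6ed5 (.cons 0x24de1a [.y2, .p, .p, .p, .p, .p, .h, .p, .p, .p, .h, .p, .p, .xi, .p, .xi, .y3, .h, .xi, .y4, .y7] (.cons 0x8daaa [.y2, .h, .p, .p, .p, .h, .p, .h, .p, .h, .xi, .y2, .p, .xi, .p, .p, .h, .y10, .xi] (.cons 0x1fe [.p, .p, .p, .p, .p, .h, .p, .p, .p, .h, .p, .p, .xi, .p, .h, .p, .xi, .y4, .p, .p, .xi, .y10] .nil))) <|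
  .nil

end Cfsg.Agent.H863.BData
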