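import Mathlib
import Cfsg.Agent.H863.BInst

/-!
# Small vectors (helper863)
-/

set_option autoImplicit false

namespace Cfsg.Agent.H863.BVec

open Cfsg.Agent.Monster Cfsg.Agent.Monster.VecEngine Cfsg.Agent.Monster.VecSpace
open Cfsg.Agent.BabyM.Conc Cfsg.Agent.BabyM.KTab Cfsg.Agent.BabyM.KRow
open Cfsg.Agent.BabyM
open Cfsg.Agent.H863.BRed Cfsg.Agent.H863.BRep

/-- The integer vector of planes. -/
def zv (P : Pl) : Lane U → ℤ := fun i => val P i.1

/-- `e_i` -/
def p1 (i : ℕ) : Pl := .cons (Nat.shiftLeft 1 i) (.sgn 0)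

/-- `-e_i` -/
def m1 (i : ℕ) : Pl := .sgn (Nat.shiftLeft 1 i)

/-- `e_i + e_j` -/
def p11 (i j : ℕ) : Pl := .cons (Nat.lor (Nat.shiftLeft 1 i) (Nat.shiftLeft 1 j)) (.sgn 0)

/-- `e_i - e_j` -/
def p1m (i j : ℕ) : Pl := .cons (Nat.lor (Nat.shiftLeft 1 i) (Nat.shiftLeft 1 j)) (.sgn (Nat.shiftLeft 1 j))

/-- `-e_i - e_j` -/
def m11 (i j : ℕ) : Pl := .sgn (Nat.lor (Nat.shiftLeft 1 i) (Nat.shiftLeft 1 j))

/-- `-2 e_i` -/
def m2 (i : ℕ) : Pl := .cons 0 (.sgn (Nat.shiftLeft 1 i))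

/-- `2 e_i` -/
def p2 (i : ℕ) : Pl := .cons 0 (.cons (Nat.shiftLeft 1 i) (.sgn 0))

theorem bt_zero' (k : ℕ) : bt 0 k = 0 := by simp [bt]

theorem bt_lor {i j : ℕ} (h : i ≠ j) (k : ℕ) :
    bt (Nat.lor (Nat.shiftLeft 1 i) (Nat.shiftLeft 1 j)) k = (if k = i then 1 else 0) + if k = j then 1 else 0 := by
  rw [← bt_one_shiftLeft, ← bt_one_shiftLeft]
  have h1 := bt_one_shiftLeft i k
  have h2 := bt_one_shiftLeft j k
  have h3 : (Nat.lor (Nat.shiftLeft 1 i) (Nat.shiftLeft 1 j)).testBit k =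
      ((Nat.shiftLeft 1 i).testBit k || (Nat.shiftLeft 1 j).testBit k) := Nat.testBit_or _ _ _
  unfold bt at h1 h2 ⊢
  rw [h3]
  have h4 : ¬ ((Nat.shiftLeft 1 i).testBit k = true ∧ (Nat.shiftLeft 1 j).testBit k = true) := by
    rintro ⟨h5, h6⟩
    rw [if_pos h5] at h1
    rw [if_pos h6] at h2
    by_cases hi : k = i
    · subst hi
      rw [if_neg h] at h2
      exact absurd h2 (by norm_num)
    · rw [if_neg hi] at h1
      exact absurd h1 (by norm_num)
  cases h5 : (Nat.shiftLeft 1 i).testBit k <;> cases h6 : (Nat.shiftLeft 1 j).testBit k <;> simp_all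

theorem single_z (i k : Lane U) : (Pi.single i (1 : ℤ) : Lane U → ℤ) k = if k.1 = i.1 then 1 else 0 := by
  by_cases h : k = i
  · subst h; rw [Pi.single_eq_same, if_pos rfl]
  · rw [Pi.single_eq_of_ne h, if_neg (fun h' => h (Subtype.ext h'))]

theorem zv_p1 (i : Lane U) : zv (p1 i.1) = Pi.single i 1 := by
  funext k
  rw [single_z]
  show bt (Nat.shiftLeft 1 i.1) k.1 + 2 * - bt 0 k.1 = _
  rw [bt_zero', bt_one_shiftLeft]
  ring

theorem zv_m1 (i : Lane U) : zv (m1 i.1) = - Pi.single i 1 := by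
  funext k
  rw [Pi.neg_apply, single_z]
  show - bt (Nat.shiftLeft 1 i.1) k.1 = _
  rw [bt_one_shiftLeft]

theorem zv_p11 (i j : Lane U) (h : i.1 ≠ j.1) : zv (p11 i.1 j.1) = Pi.single i 1 + Pi.single j 1 := by
  funext k
  rw [Pi.add_apply, single_z, single_z]
  show bt (Nat.lor (Nat.shiftLeft 1 i.1) (Nat.shiftLeft 1 j.1)) k.1 + 2 * - bt 0 k.1 = _
  rw [bt_zero', bt_lor h]
  ring

theorem zv_p1m (i j : Lane U) (h : i.1 ≠ j.1) : zv (p1m i.1 j.1) = Pi.single i 1 - Pi.single j 1 := by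
  funext k
  rw [Pi.sub_apply, single_z, single_z]
  show bt (Nat.lor (Nat.shiftLeft 1 i.1) (Nat.shiftLeft 1 j.1)) k.1 + 2 * - bt (Nat.shiftLeft 1 j.1) k.1 = _
  rw [bt_one_shiftLeft, bt_lor h]
  ring

theorem zv_m11 (i j : Lane U) (h : i.1 ≠ j.1) : zv (m11 i.1 j.1) = - (Pi.single i 1 + Pi.single j 1) := by
  funext k
  rw [Pi.neg_apply, Pi.add_apply, single_z, single_z]
  show - bt (Nat.lor (Nat.shiftLeft 1 i.1) (Nat.shiftLeft 1 j.1)) k.1 = _
  rw [bt_lor h]

theorem zv_m2 (i : Lane U) : zv (m2 i.1) = (-2 : ℤ) • Pi.single i 1 := by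
  funext k
  rw [Pi.smul_apply, single_z]
  show bt 0 k.1 + 2 * - bt (Nat.shiftLeft 1 i.1) k.1 = _
  rw [bt_zero', bt_one_shiftLeft, smul_eq_mul]
  ring

theorem zv_p2 (i : Lane U) : zv (p2 i.1) = (2 : ℤ) • Pi.single i 1 := by
  funext k
  rw [Pi.smul_apply, single_z]
  show bt 0 k.1 + 2 * (bt (Nat.shiftLeft 1 i.1) k.1 + 2 * - bt 0 k.1) = _
  rw [bt_zero', bt_one_shiftLeft, smul_eq_mul]
  ring

section

variable {F : Type*} [Field F] (h2 : (2 : F) ≠ 0)

/-- Vector identities over `F` from kernel computations. -/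
theorem tr_check (l : Ltr) {x y : Pl} (h : check [l.prog] x [] y = true) :
    sigma h2 (gE l) (up F (zv x)) = up F (zv y) := by
  apply tr h2
  have h4 := W_eq_of_check (v₁ := [l]) (v₂ := []) (x₁ := x) (x₂ := y) h
  rw [W_single, W_nil] at h4
  exact h4

variable (F)

theorem up_one (i : Lane U) : up F (Pi.single i (1 : ℤ)) = Pi.single i 1 := by rw [up_single, Int.cast_one]

theorem up_p1 (i : Lane U) : up F (zv (p1 i.1)) = Pi.single i 1 := by rw [zv_p1, up_one]

theorem up_m1 (i : Lane U) : up F (zv (m1 i.1)) = - Pi.single i 1 := by rw [zv_m1, up_neg, up_one]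

theorem up_p11 (i j : Lane U) (h : i.1 ≠ j.1) : up F (zv (p11 i.1 j.1)) = Pi.single i 1 + Pi.single j 1 := by
  rw [zv_p11 i j h, up_add, up_one, up_one]

theorem up_p1m (i j : Lane U) (h : i.1 ≠ j.1) : up F (zv (p1m i.1 j.1)) = Pi.single i 1 - Pi.single j 1 := by
  rw [zv_p1m i j h, up_sub, up_one, up_one]

theorem up_m11 (i j : Lane U) (h : i.1 ≠ j.1) :
    up F (zv (m11 i.1 j.1)) = - (Pi.single i 1 + Pi.single j 1) := by
  rw [zv_m11 i j h, up_neg, up_add, up_one, up_one]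

theorem up_m2 (i : Lane U) : up F (zv (m2 i.1)) = (-2 : F) • Pi.single i 1 := by
  rw [zv_m2, up_zsmul, up_one]
  push_cast
  rfl

theorem up_p2 (i : Lane U) : up F (zv (p2 i.1)) = (2 : F) • Pi.single i 1 := by
  rw [zv_p2, up_zsmul, up_one]
  push_cast
  rfl

end

/-! ### The lanes -/

theorem maskA : Nat.land (Nat.shiftRight U 1344) 0x7fffff = 0x7fffff := by decide +kernel

theorem maskB : Nat.land (Nat.shiftRight U 1281) 0x3fffff = 0x3fffff := by decide +kernel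

theorem maskC : Nat.land (Nat.shiftRight U 1313) 0x3fffff = 0x3fffff := by decide +kernel

theorem bit23 {e : ℕ} (h : e < 23) : (0x7fffff : ℕ).testBit e = true := by
  have : (0x7fffff : ℕ) = 2 ^ 23 - 1 := by norm_num
  rw [this, Nat.testBit_two_pow_sub_one]
  exact decide_eq_true h

theorem bit22 {e : ℕ} (h : e < 22) : (0x3fffff : ℕ).testBit e = true := by
  have : (0x3fffff : ℕ) = 2 ^ 22 - 1 := by norm_num
  rw [this, Nat.testBit_two_pow_sub_one]
  exact decide_eq_true h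

/-- The lane of `I`. -/
def bI : Lane U := ⟨1344, testBit_of_mask (s := 1344) (e := 0) maskA (bit23 (by norm_num))⟩

/-- The lane of `A_j`. -/
def bA (j : Fin 22) : Lane U := ⟨1344 + (j.1 + 1), testBit_of_mask maskA (bit23 (by omega))⟩

/-- The lane of `B_j`. -/
def bB (j : Fin 22) : Lane U := ⟨1281 + j.1, testBit_of_mask maskB (bit22 j.2)⟩

/-- The lane of `C_j`. -/
def bC (j : Fin 22) : Lane U := ⟨1313 + j.1, testBit_of_mask maskC (bit22 j.2)⟩

/-- A check for all `j < 22`. -/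
noncomputable def all22 (p : ℕ → Bool) : Bool := allN 5 (fun j => Bool.rec true (p j) (Nat.blt j 22)) 0

theorem all22_spec {p : ℕ → Bool} (h : all22 p = true) (j : Fin 22) : p j.1 = true := by
  have h1 := allN_spec h (Nat.zero_le j.1) (by have := j.2; omega)
  have h3 : Nat.blt j.1 22 = true := by
    have := j.2
    simp [Nat.blt]
  simp only [h3] at h1
  exact h1

/-- The letters exchanging `B_j` and `C_j`. -/
def sL : ℕ → Ltr
  | 5 => .y2
  | 6 => .y3
  | 8 => .y2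
  | 9 => .y3
  | 11 => .y2
  | 13 => .y2
  | 14 => .y3
  | 15 => .y4
  | 16 => .y5
  | 17 => .y6
  | 18 => .y7
  | 19 => .y8
  | 20 => .y9
  | 21 => .y10
  | _ => .y1

theorem chk_t_BC : all22 (fun j => check [Ltr.prog .tau] (p11 (Nat.add 1281 j) (Nat.add 1313 j)) []
    (p1m (Nat.add 1281 j) (Nat.add 1313 j))) = true := by decide +kernel

theorem chk_t_CA : all22 (fun j => check [Ltr.prog .tau] (p1m (Nat.add 1281 j) (Nat.add 1313 j)) []
    (m1 (Nat.add 1344 (Nat.add j 1)))) = true := by decide +kernel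

theorem chk_t_I : check [Ltr.prog .tau] (p1 1344) [] (p1 1344) = true := by decide +kernel

theorem chk_s_BC : all22 (fun j => check [Ltr.prog (sL j)] (p1 (Nat.add 1281 j)) []
    (p1 (Nat.add 1313 j))) = true := by decide +kernel

theorem chk_s_CB : all22 (fun j => check [Ltr.prog (sL j)] (p1 (Nat.add 1313 j)) []
    (p1 (Nat.add 1281 j))) = true := by decide +kernel

theorem chk_xi_A : check [Ltr.prog .xi] (p11 1345 1346) [] (m2 1344) = true := by decide +kernel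

theorem chk_xi_I : check [Ltr.prog .xi] (p2 1344) [] (m11 1345 1346) = true := by decide +kernel

end Cfsg.Agent.H863.BVec
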