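import Mathlib
import Cfsg.Agent.BM.KHAll
import Cfsg.Agent.H863.BFin

/-!
# The representations of degree 4371 of the Baby Monster as matrix representations (helper863)
-/

set_option autoImplicit false

namespace Cfsg.Agent.H863.BGL

open Cfsg Cfsg.Agent.Monster.VecEngine Cfsg.Agent.Monster.VecSpace
open Cfsg.Agent.BabyM.Conc
open Cfsg.Agent.BabyM
open Cfsg.Agent.H863.BRep

/-- The isomorphism. -/
noncomputable def iso : Spor.BabyMonster ≃* G := BM.KHAll.iso

variable {F : Type*} [Field F] {n : Type} [Fintype n] [DecidableEq n]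

/-- The linear representation of a matrix representation. -/
noncomputable def lin (ρ : Spor.BabyMonster →* GL n F) : G →* Module.End F (n → F) :=
  (Units.coeHom _).comp ((Matrix.GeneralLinearGroup.toLin (n := n) (R := F)).toMonoidHom.comp
    (ρ.comp iso.symm.toMonoidHom))

theorem lin_apply (ρ : Spor.BabyMonster →* GL n F) (g : Spor.BabyMonster) (v : n → F) :
    lin ρ (iso g) v = (ρ g : Matrix n n F).mulVec v := by
  show (Matrix.GeneralLinearGroup.toLin (ρ (iso.symm (iso g))) : Module.End F (n → F)) v = _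
  rw [MulEquiv.symm_apply_apply]
  rfl

theorem lin_injective {ρ : Spor.BabyMonster →* GL n F} (hρ : Function.Injective ρ) :
    Function.Injective (lin ρ) := by
  intro a b h
  have h1 : (Matrix.GeneralLinearGroup.toLin (ρ (iso.symm a)) : Module.End F (n → F)) =
      (Matrix.GeneralLinearGroup.toLin (ρ (iso.symm b)) : Module.End F (n → F)) := h
  exact iso.symm.injective (hρ (Matrix.GeneralLinearGroup.toLin.injective (Units.ext h1)))

section

variable (hn : Fintype.card n = 4371)

include hn

/-- Every faithful representation is the reduced one. -/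
theorem equiv (h2 : (2 : F) ≠ 0) {ρ : Spor.BabyMonster →* GL n F} (hρ : Function.Injective ρ) :
    ∃ e : (Lane U → F) ≃ₗ[F] (n → F), ∀ g m,
      (ρ g : Matrix n n F).mulVec (e m) = e (sigma h2 (iso g) m) := by
  obtain ⟨e, he⟩ := BFin.unique h2 (lin ρ) (by rw [Module.finrank_fintype_fun_eq_card, hn])
    (lin_injective hρ)
  exact ⟨e, fun g m => by rw [← lin_apply, he]⟩

/-- Existence. -/
theorem exists_rep (h2 : (2 : F) ≠ 0) : ∃ ρ : Spor.BabyMonster →* GL n F, Function.Injective ρ := by
  let e₀ : Lane U ≃ n := Fintype.equivOfCardEq (card_lane.trans hn.symm)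
  let L : (Lane U → F) ≃ₗ[F] (n → F) := LinearEquiv.funCongrLeft F F e₀.symm
  let σ₁ : G →* Module.End F (n → F) :=
    (L.conjRingEquiv : Module.End F (Lane U → F) →* Module.End F (n → F)).comp (sigma h2)
  let ρ : Spor.BabyMonster →* GL n F :=
    (Matrix.GeneralLinearGroup.toLin (n := n) (R := F)).symm.toMonoidHom.comp
      (σ₁.toHomUnits.comp iso.toMonoidHom)
  refine ⟨ρ, ?_⟩
  intro a b h
  have h1 : σ₁.toHomUnits (iso a) = σ₁.toHomUnits (iso b) :=
    Matrix.GeneralLinearGroup.toLin.symm.injective h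
  have h3 : σ₁ (iso a) = σ₁ (iso b) := congrArg Units.val h1
  have h4 : sigma h2 (iso a) = sigma h2 (iso b) := L.conjRingEquiv.injective h3
  exact iso.injective (BFin.sigma_injective h2 h4)

/-- Irreducibility. -/
theorem irreducible (h2 : (2 : F) ≠ 0) {ρ : Spor.BabyMonster →* GL n F} (hρ : Function.Injective ρ)
    (W : Submodule F (n → F))
    (hW : ∀ g : Spor.BabyMonster, ∀ v ∈ W, (ρ g : Matrix n n F).mulVec v ∈ W) :
    W = ⊥ ∨ W = ⊤ := by
  obtain ⟨e, he⟩ := equiv hn h2 hρ
  rcases BFin.irred h2 (W.comap (e : (Lane U → F) →ₗ[F] (n → F))) (by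
    intro g m hm
    rw [Submodule.mem_comap] at hm ⊢
    show e (sigma h2 g m) ∈ W
    have h := hW (iso.symm g) (e m) hm
    rw [he, MulEquiv.apply_symm_apply] at h
    exact h) with h | h
  · left
    rw [eq_bot_iff]
    intro v hv
    have h1 : e.symm v ∈ W.comap (e : (Lane U → F) →ₗ[F] (n → F)) := by
      rw [Submodule.mem_comap]
      show e (e.symm v) ∈ W
      rw [e.apply_symm_apply]
      exact hv
    rw [h, Submodule.mem_bot] at h1
    rw [Submodule.mem_bot, ← e.apply_symm_apply v, h1, map_zero]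
  · right
    rw [eq_top_iff]
    intro v _
    have h1 : e.symm v ∈ W.comap (e : (Lane U → F) →ₗ[F] (n → F)) := by
      rw [h]; trivial
    rw [Submodule.mem_comap] at h1
    have h3 : e (e.symm v) ∈ W := h1
    rwa [e.apply_symm_apply] at h3

/-- Equivalence. -/
theorem equivalent (h2 : (2 : F) ≠ 0) {ρ ρ' : Spor.BabyMonster →* GL n F} (hρ : Function.Injective ρ)
    (hρ' : Function.Injective ρ') : ∃ P : GL n F, ∀ g, ρ' g = P * ρ g * P⁻¹ := by
  obtain ⟨e, he⟩ := equiv hn h2 hρ
  obtain ⟨e', he'⟩ := equiv hn h2 hρ'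
  let L : (n → F) ≃ₗ[F] (n → F) := e.symm.trans e'
  let P : GL n F := Matrix.GeneralLinearGroup.toLin.symm (LinearMap.GeneralLinearGroup.ofLinearEquiv L)
  have hP : ∀ v, (P : Matrix n n F).mulVec v = L v := by
    intro v
    have h1 : (Matrix.GeneralLinearGroup.toLin P : Module.End F (n → F)) v = L v := by
      have h3 : Matrix.GeneralLinearGroup.toLin P = LinearMap.GeneralLinearGroup.ofLinearEquiv L :=
        MulEquiv.apply_symm_apply _ _
      rw [h3]
      rfl
    exact h1
  refine ⟨P, fun g => ?_⟩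
  rw [eq_mul_inv_iff_mul_eq]
  apply Units.ext
  apply Matrix.toLin'.injective
  apply LinearMap.ext
  intro v
  rw [Matrix.toLin'_apply, Matrix.toLin'_apply]
  show ((ρ' g : Matrix n n F) * (P : Matrix n n F)).mulVec v =
    ((P : Matrix n n F) * (ρ g : Matrix n n F)).mulVec v
  rw [← Matrix.mulVec_mulVec, ← Matrix.mulVec_mulVec, hP, hP]
  show (ρ' g : Matrix n n F).mulVec (e' (e.symm v)) = e' (e.symm _)
  rw [he']
  congr 1
  rw [LinearEquiv.eq_symm_apply, ← he, e.apply_symm_apply]

end

end Cfsg.Agent.H863.BGL
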