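import Mathlib

/-!
Seven (or finitely many) double cosets with known upper bounds for the suborbit lengths: if the
bounds add up to the index then the orbits of `H` on the cosets of `H` are known.
-/
set_option autoImplicit false

namespace Cfsg.Agent.H863.DCAbs

variable {G : Type*} [Group G]

/-- the elements of `H` fixing the coset `g H` -/
def cc (H : Subgroup G) (g : G) : Subgroup G where
  carrier := {h | h ∈ H ∧ g⁻¹ * h * g ∈ H}
  one_mem' := ⟨H.one_mem, by simp [H.one_mem]⟩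
  mul_mem' := by
    rintro a b ⟨h1, h2⟩ ⟨h3, h4⟩
    refine ⟨H.mul_mem h1 h3, ?_⟩
    have := H.mul_mem h2 h4
    have e : g⁻¹ * a * g * (g⁻¹ * b * g) = g⁻¹ * (a * b) * g := by group
    rwa [e] at this
  inv_mem' := by
    rintro a ⟨h1, h2⟩
    refine ⟨H.inv_mem h1, ?_⟩
    have := H.inv_mem h2
    have e : (g⁻¹ * a * g)⁻¹ = g⁻¹ * a⁻¹ * g := by group
    rwa [e] at this

theorem mem_cc {H : Subgroup G} {g h : G} : h ∈ cc H g ↔ h ∈ H ∧ g⁻¹ * h * g ∈ H := Iff.rfl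

theorem cc_le (H : Subgroup G) (g : G) : cc H g ≤ H := fun _ h => h.1

theorem stab_eq (H : Subgroup G) (g : G) :
    MulAction.stabilizer H (QuotientGroup.mk g : G ⧸ H) = (cc H g).subgroupOf H := by
  ext h
  rw [MulAction.mem_stabilizer_iff, Subgroup.mem_subgroupOf, mem_cc]
  have h1 : h • (QuotientGroup.mk g : G ⧸ H) = QuotientGroup.mk ((h : G) * g) := rfl
  rw [h1, eq_comm, QuotientGroup.eq]
  constructor
  · intro h2
    exact ⟨h.2, by rwa [mul_assoc]⟩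
  · rintro ⟨-, h2⟩
    rwa [mul_assoc] at h2

theorem ncard_orbit [Finite G] (H : Subgroup G) (g : G) :
    (MulAction.orbit H (QuotientGroup.mk g : G ⧸ H)).ncard = (cc H g).relIndex H := by
  rw [Subgroup.relIndex, ← stab_eq, MulAction.index_stabilizer]

theorem main [Finite G] {ι : Type*} [Fintype ι] [DecidableEq ι] (H : Subgroup G) (g : ι → G) (n : ι → ℕ)
    (hdec : ∀ x : G, ∃ i, ∃ a ∈ H, ∃ b ∈ H, x = a * g i * b)
    (hn : ∀ i, (cc H (g i)).relIndex H ≤ n i) (hsum : ∑ i, n i ≤ H.index) :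
    (∀ i j : ι, i ≠ j → MulAction.orbit H (QuotientGroup.mk (g i) : G ⧸ H) ≠
      MulAction.orbit H (QuotientGroup.mk (g j) : G ⧸ H)) ∧
    (∀ q : G ⧸ H, ∃ i, q ∈ MulAction.orbit H (QuotientGroup.mk (g i) : G ⧸ H)) ∧
    ∀ i, (MulAction.orbit H (QuotientGroup.mk (g i) : G ⧸ H)).ncard = n i := by
  classical
  have hcov : ∀ q : G ⧸ H, ∃ i, q ∈ MulAction.orbit H (QuotientGroup.mk (g i) : G ⧸ H) := by
    intro q
    induction q using QuotientGroup.induction_on with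
    | H x =>
      obtain ⟨i, a, ha, b, hb, rfl⟩ := hdec x
      refine ⟨i, ⟨⟨a, ha⟩, ?_⟩⟩
      show (QuotientGroup.mk (a * g i) : G ⧸ H) = QuotientGroup.mk (a * g i * b)
      rw [QuotientGroup.eq]
      have : (a * g i)⁻¹ * (a * g i * b) = b := by group
      rw [this]; exact hb
  have hle : ∀ i, (MulAction.orbit H (QuotientGroup.mk (g i) : G ⧸ H)).ncard ≤ n i := by
    intro i; rw [ncard_orbit]; exact hn i
  have hcount : ∀ s : Finset ι, (∀ q : G ⧸ H, ∃ i ∈ s,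
      q ∈ MulAction.orbit H (QuotientGroup.mk (g i) : G ⧸ H)) →
      H.index ≤ ∑ i ∈ s, (MulAction.orbit H (QuotientGroup.mk (g i) : G ⧸ H)).ncard := by
    intro s hs
    have h1 : (Set.univ : Set (G ⧸ H)) =
        ⋃ i ∈ s, MulAction.orbit H (QuotientGroup.mk (g i) : G ⧸ H) := by
      ext q
      simp only [Set.mem_univ, Set.mem_iUnion, true_iff]
      obtain ⟨i, hi, h⟩ := hs q
      exact ⟨i, hi, h⟩
    have h2 : H.index = (Set.univ : Set (G ⧸ H)).ncard := by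
      rw [Set.ncard_univ]; rfl
    rw [h2, h1]
    exact Finset.set_ncard_biUnion_le s _
  have heq : ∀ i, (MulAction.orbit H (QuotientGroup.mk (g i) : G ⧸ H)).ncard = n i := by
    intro i
    by_contra hne
    have hlt : (MulAction.orbit H (QuotientGroup.mk (g i) : G ⧸ H)).ncard < n i :=
      lt_of_le_of_ne (hle i) hne
    have h1 := hcount Finset.univ fun q => by
      obtain ⟨j, hj⟩ := hcov q
      exact ⟨j, Finset.mem_univ _, hj⟩
    have h2 : ∑ j, (MulAction.orbit H (QuotientGroup.mk (g j) : G ⧸ H)).ncard < ∑ j, n j :=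
      Finset.sum_lt_sum (fun j _ => hle j) ⟨i, Finset.mem_univ _, hlt⟩
    omega
  refine ⟨?_, hcov, heq⟩
  intro i j hij he
  have h1 := hcount (Finset.univ.erase j) fun q => by
    obtain ⟨k, hk⟩ := hcov q
    by_cases hkj : k = j
    · subst hkj
      exact ⟨i, Finset.mem_erase.2 ⟨hij, Finset.mem_univ _⟩, by rw [he]; exact hk⟩
    · exact ⟨k, Finset.mem_erase.2 ⟨hkj, Finset.mem_univ _⟩, hk⟩
  have h2 : ∑ k ∈ Finset.univ.erase j, (MulAction.orbit H (QuotientGroup.mk (g k) : G ⧸ H)).ncard +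
      (MulAction.orbit H (QuotientGroup.mk (g j) : G ⧸ H)).ncard =
      ∑ k, (MulAction.orbit H (QuotientGroup.mk (g k) : G ⧸ H)).ncard :=
    Finset.sum_erase_add _ _ (Finset.mem_univ j)
  have h3 : 0 < (MulAction.orbit H (QuotientGroup.mk (g j) : G ⧸ H)).ncard := by
    rw [Set.ncard_pos (Set.toFinite _)]
    exact ⟨_, MulAction.mem_orbit_self _⟩
  have h4 : ∑ k, (MulAction.orbit H (QuotientGroup.mk (g k) : G ⧸ H)).ncard = ∑ k, n k :=
    Finset.sum_congr rfl fun k _ => heq k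
  omega

/-- transport of the hypotheses of `main` along an injective homomorphism -/
theorem relIndex_map {G' : Type*} [Group G'] (f : G →* G') (hf : Function.Injective f)
    (H : Subgroup G) (g : G) :
    (cc (H.map f) (f g)).relIndex (H.map f) = (cc H g).relIndex H := by
  have h1 : cc (H.map f) (f g) = (cc H g).map f := by
    ext x
    rw [mem_cc, Subgroup.mem_map, Subgroup.mem_map]
    constructor
    · rintro ⟨⟨h, hh, rfl⟩, k, hk, e⟩
      refine ⟨h, ⟨hh, ?_⟩, rfl⟩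
      have e' : f k = f (g⁻¹ * h * g) := by
        rw [e, map_mul, map_mul, map_inv]
      rw [← hf e']; exact hk
    · rintro ⟨h, ⟨hh, hg⟩, rfl⟩
      refine ⟨⟨h, hh, rfl⟩, ?_⟩
      exact ⟨_, hg, by rw [map_mul, map_mul, map_inv]⟩
  rw [h1, Subgroup.relIndex_map_map_of_injective _ _ hf]

/-- a subgroup `C` with many elements in `Q` and many images in the complement `M` -/
theorem card_mul_le_of_mod [Finite G] (Q M C A L : Subgroup G) (hQM : Q ⊓ M = ⊥)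
    (hAQ : A ≤ Q) (hAC : A ≤ C) (hLM : L ≤ M) (hL : ∀ x ∈ L, ∃ y ∈ C, y * x⁻¹ ∈ Q) :
    Nat.card A * Nat.card L ≤ Nat.card C := by
  have key' : ∀ x : L, ∃ y : C, (y : G) * (x : G)⁻¹ ∈ Q := by
    intro x
    obtain ⟨y, hy, hyx⟩ := hL x x.2
    exact ⟨⟨y, hy⟩, hyx⟩
  choose f hf using key'
  rw [← Nat.card_prod]
  apply Nat.card_le_card_of_injective (fun x : A × L => (⟨(x.1 : G) * f x.2, C.mul_mem (hAC x.1.2) (f x.2).2⟩ : C))
  rintro ⟨⟨a, ha⟩, ⟨x, hx⟩⟩ ⟨⟨b, hb⟩, ⟨y, hy⟩⟩ hab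
  have e : a * (f ⟨x, hx⟩ : G) = b * (f ⟨y, hy⟩ : G) := congrArg Subtype.val hab
  have h1 := hf ⟨x, hx⟩
  have h2 := hf ⟨y, hy⟩
  have h3 : x * y⁻¹ ∈ Q ⊓ M := by
    refine ⟨?_, M.mul_mem (hLM hx) (M.inv_mem (hLM hy))⟩
    have h4 : x * y⁻¹ = ((f ⟨x, hx⟩ : G) * x⁻¹)⁻¹ * ((a⁻¹ * b) * ((f ⟨y, hy⟩ : G) * y⁻¹)) := by
      have h5 : (f ⟨x, hx⟩ : G) = a⁻¹ * (b * (f ⟨y, hy⟩ : G)) := by rw [← e]; group
      rw [h5]; group
    rw [h4]
    exact Q.mul_mem (Q.inv_mem h1) (Q.mul_mem (Q.mul_mem (Q.inv_mem (hAQ ha)) (hAQ hb)) h2)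
  rw [hQM, Subgroup.mem_bot] at h3
  have hxy : x = y := mul_inv_eq_one.mp h3
  subst hxy
  have hab' : a = b := mul_right_cancel e
  subst hab'
  rfl

/-- elements congruent modulo `Q` to generators -/
theorem exists_mod (Q : Subgroup G) {b₁ b₂ m₁ m₂ : G}
    (hb₁ : b₁ ∈ Subgroup.normalizer (Q : Set G)) (hb₂ : b₂ ∈ Subgroup.normalizer (Q : Set G))
    (h₁ : b₁ * m₁⁻¹ ∈ Q) (h₂ : b₂ * m₂⁻¹ ∈ Q) :
    ∀ x ∈ Subgroup.closure {m₁, m₂}, ∃ y ∈ Subgroup.closure {b₁, b₂}, y * x⁻¹ ∈ Q := by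
  have hmn : ∀ {b m : G}, b ∈ Subgroup.normalizer (Q : Set G) → b * m⁻¹ ∈ Q →
      m ∈ Subgroup.normalizer (Q : Set G) := by
    intro b m hb h
    have h3 : b * m⁻¹ ∈ Subgroup.normalizer (Q : Set G) := Subgroup.le_normalizer h
    have h4 : m = (b * m⁻¹)⁻¹ * b := by group
    rw [h4]
    exact Subgroup.mul_mem _ (Subgroup.inv_mem _ h3) hb
  have key : ∀ x ∈ Subgroup.closure {m₁, m₂}, ∃ y ∈ Subgroup.closure {b₁, b₂},
      y ∈ Subgroup.normalizer (Q : Set G) ∧ y * x⁻¹ ∈ Q := by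
    intro x hx
    induction hx using Subgroup.closure_induction with
    | mem x hx =>
      rcases hx with rfl | rfl
      · exact ⟨b₁, Subgroup.subset_closure (by simp), hb₁, h₁⟩
      · exact ⟨b₂, Subgroup.subset_closure (by simp), hb₂, h₂⟩
    | one => exact ⟨1, Subgroup.one_mem _, Subgroup.one_mem _, by simp [Q.one_mem]⟩
    | mul x x' _ _ hx hx' =>
      obtain ⟨y, hy, hyn, hyx⟩ := hx
      obtain ⟨y', hy', hyn', hyx'⟩ := hx'
      refine ⟨y * y', Subgroup.mul_mem _ hy hy', Subgroup.mul_mem _ hyn hyn', ?_⟩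
      have h5 : y * (y' * x'⁻¹) * y⁻¹ ∈ Q := (Subgroup.mem_normalizer_iff.mp hyn _).mp hyx'
      have h6 : y * y' * (x * x')⁻¹ = (y * (y' * x'⁻¹) * y⁻¹) * (y * x⁻¹) := by group
      rw [h6]
      exact Q.mul_mem h5 hyx
    | inv x _ hx =>
      obtain ⟨y, hy, hyn, hyx⟩ := hx
      refine ⟨y⁻¹, Subgroup.inv_mem _ hy, Subgroup.inv_mem _ hyn, ?_⟩
      have h5 : y⁻¹ * (y * x⁻¹)⁻¹ * y⁻¹⁻¹ ∈ Q :=
        (Subgroup.mem_normalizer_iff.mp (Subgroup.inv_mem _ hyn) _).mp (Q.inv_mem hyx)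
      have h6 : y⁻¹ * x⁻¹⁻¹ = y⁻¹ * (y * x⁻¹)⁻¹ * y⁻¹⁻¹ := by group
      rw [h6]; exact h5
  intro x hx
  obtain ⟨y, hy, -, h⟩ := key x hx
  exact ⟨y, hy, h⟩

end Cfsg.Agent.H863.DCAbs
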