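import Cfsg.Agent.J4M.Order
import Cfsg.Agent.H863.DCAbs

/-!
The suborbit lengths of the group of matrices `R` (isomorphic to J4) acting on the cosets of
`H = 2^11 : M24`.
-/
set_option autoImplicit false

namespace Cfsg.Agent.H863.J4Rank7

open Cfsg.Agent.Lib Cfsg.Agent.Lib.F2Mat Cfsg.Agent.Lib.F2MatGroup
open Cfsg.Agent.J4.Rep112 Cfsg.Agent.J4.GroupLemmas
open Cfsg.Agent.J4.Lower (fixer mem_fixer wchk wchk_sound)
open Cfsg.Agent.J4M Cfsg.Agent.J4M.DBData Cfsg.Agent.J4M.Derive Cfsg.Agent.J4M.Words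
open Cfsg.Agent.J4M.Base Cfsg.Agent.J4M.QBase Cfsg.Agent.J4M.MPerm Cfsg.Agent.J4M.MGroup
open Cfsg.Agent.J4M.Gamma Cfsg.Agent.J4M.KData Cfsg.Agent.J4M.Decomp Cfsg.Agent.J4M.Order
open Cfsg.Agent.H863.DCAbs

/-- the all-one vector -/
noncomputable def u0 : VV := toVec 112 v0

theorem act_ev0 (w : List ℕ) : act u0 (ev w) = toVec 112 (vw v0 w) := act_ev v0 w

theorem fix_ev {w : List ℕ} (h : Nat.beq (vw v0 w) v0 = true) : act u0 (ev w) = u0 := by
  rw [act_ev0, Nat.eq_of_beq_eq_true h]; rfl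

theorem ev_single (i : ℕ) : ev [i] = e i := by rw [ev_cons, ev_nil, mul_one]

theorem H_fix : ∀ h ∈ H, act u0 h = u0 := by
  have hle : H ≤ fixer 112 u0 := by
    unfold H
    rw [Subgroup.closure_le]
    rintro a (rfl | rfl | rfl)
    · rw [← e1, ← ev_single]
      exact fix_ev (by decide +kernel)
    · rw [← e2, ← ev_single]
      exact fix_ev (by decide +kernel)
    · rw [← ev_single]
      exact fix_ev (by decide +kernel)
  exact fun h hh => hle hh

theorem v0_lt : v0 < 2 ^ 112 := by decide +kernel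

theorem vw_lt {v : ℕ} (hv : v < 2 ^ 112) (w : List ℕ) : vw v w < 2 ^ 112 := by
  induction w generalizing v with
  | nil => rw [vw_nil]; exact hv
  | cons i w ih => rw [vw_cons]; exact ih (vmul_lt _ _)

theorem gg_move (i : Fin 7) (hi : i ≠ 0) : act u0 (gg i) ≠ u0 := by
  have h : ∀ i : Fin 7, i ≠ 0 → Nat.beq (vw v0 [gi (i + 1)]) v0 = false := by decide +kernel
  intro he
  unfold gg at he
  rw [← ev_single, act_ev0] at he
  have h1 := toVec_inj (vw_lt v0_lt _) v0_lt he
  have h2 := h i hi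
  rw [h1, Nat.beq_refl] at h2
  exact absurd h2 (by decide)

/-- `H` is the stabiliser of the all-one vector in `R`. -/
theorem mem_H_of_fix {x : GG} (hx : x ∈ R) (h : act u0 x = u0) : x ∈ H := by
  obtain ⟨i, a, ha, b, hb, rfl⟩ := decomp x hx
  by_cases hi : i = 0
  · subst hi
    rw [gg_zero, mul_one]
    exact H.mul_mem ha hb
  · exfalso
    rw [act_mul, act_mul, H_fix a ha] at h
    apply gg_move i hi
    have h2 : act (act (act u0 (gg i)) b) b⁻¹ = act u0 b⁻¹ := by rw [h]
    rw [← act_mul, mul_inv_cancel, act_one, H_fix _ (H.inv_mem hb)] at h2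
    exact h2

theorem gg_mem (i : Fin 7) : gg i ∈ R := by
  have h : ∀ i : Fin 7, mA.testBit (gi (i + 1)) = true := by decide +kernel
  exact R_mem _ (h i)

theorem mem_cc_of_fix {i : Fin 7} {q : GG} (hq : q ∈ H)
    (h : act (act u0 (gg i)⁻¹) q = act u0 (gg i)⁻¹) : q ∈ cc H (gg i) := by
  refine ⟨hq, mem_H_of_fix ?_ ?_⟩
  · exact R.mul_mem (R.mul_mem (R.inv_mem (gg_mem i)) (H_le_R hq)) (gg_mem i)
  · rw [act_mul, act_mul, h, ← act_mul, inv_mul_cancel, act_one]

/-- check that the words of `l` lie in `Q` and fix the image of `v0` under `gg i` (an involution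
on `v0`) -/
def chkW (k : ℕ) (l : List (List ℕ)) : Bool :=
  Nat.beq (vw (vw v0 [k]) [k]) v0 &&
    l.all fun w => allIn mC w && Nat.beq (vw (vw v0 [k]) w) (vw v0 [k])

theorem chkW_sound {i : Fin 7} {l : List (List ℕ)} (h : chkW (gi (i + 1)) l = true) :
    Subgroup.closure {g | g ∈ l.map ev} ≤ cc H (gg i) := by
  unfold chkW at h
  rw [Bool.and_eq_true, List.all_eq_true] at h
  obtain ⟨h0, h1⟩ := h
  have hg : act u0 (gg i)⁻¹ = toVec 112 (vw v0 [gi (i + 1)]) := by
    have h2 : u0 = act (toVec 112 (vw v0 [gi (i + 1)])) (gg i) := by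
      unfold gg
      rw [← ev_single, act_ev, Nat.eq_of_beq_eq_true h0]; rfl
    conv_lhs => rw [h2]
    rw [← act_mul, mul_inv_cancel, act_one]
  refine closure_map_le fun w hw => ?_
  have h3 := h1 w hw
  rw [Bool.and_eq_true] at h3
  refine mem_cc_of_fix (Q_le_H (ev_mem_Q h3.1)) ?_
  rw [hg, act_ev, Nat.eq_of_beq_eq_true h3.2]

theorem closure_le_Q {l : List (List ℕ)} {k : ℕ} (h : chkW k l = true) :
    Subgroup.closure {g | g ∈ l.map ev} ≤ Q := by
  unfold chkW at h
  rw [Bool.and_eq_true, List.all_eq_true] at h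
  refine closure_map_le fun w hw => ?_
  have h3 := h.2 w hw
  rw [Bool.and_eq_true] at h3
  exact ev_mem_Q h3.1

theorem ind_of {l : List (List ℕ)} {ws : List ℕ}
    (h : wchk 112 ws (l.map (evW 112 db)) = true) (hlen : ws.length = l.length) :
    Ind (l.map ev) := by
  refine wchk_sound (n := 112) (ws := ws) (L := l.map (evW 112 db)) ?_ h
    (by rw [List.length_map]; exact hlen)
  rw [List.forall₂_map_left_iff, List.forall₂_map_right_iff, List.forall₂_same]
  exact fun w _ => codes_ev w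

/-- lower bound for the order of the stabiliser of a coset -/
theorem card_cc_ge {i : Fin 7} (hi : i ≠ 0) {N : ℕ} {u v : List ℕ} {l : List (List ℕ)} {ws : List ℕ}
    (hN : N ≤ Nat.card (Subgroup.closure {ev u, ev v}))
    (hu : splitB (bw (i + 1) 0) u = true) (hv : splitB (bw (i + 1) 1) v = true)
    (hl : chkW (gi (i + 1)) l = true) (hw : wchk 112 ws (l.map (evW 112 db)) = true)
    (hlen : ws.length = l.length) :
    2 ^ l.length * N ≤ Nat.card (cc H (gg i)) := by
  have hi' : (i : ℕ) ≠ 0 := fun h' => hi (Fin.ext h')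
  obtain ⟨h1, h2, h3⟩ := split_sound hu
  obtain ⟨h4, h5, h6⟩ := split_sound hv
  have hA : 2 ^ l.length ≤ Nat.card (Subgroup.closure {g | g ∈ l.map ev}) := by
    refine Nat.le_of_dvd Nat.card_pos (card_of_ind (ind_of hw hlen) fun w hw => ?_)
    unfold chkW at hl
    rw [Bool.and_eq_true, List.all_eq_true] at hl
    have h3 := hl.2 w hw
    rw [Bool.and_eq_true] at h3
    exact ev_mem_Q h3.1
  refine (Nat.mul_le_mul hA hN).trans ?_
  refine card_mul_le_of_mod Q M (cc H (gg i)) _ _ Q_inf_M (closure_le_Q hl) (chkW_sound hl)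
    (closure_pair_le h2 h5) ?_
  intro x hx
  obtain ⟨y, hy, hyx⟩ := exists_mod Q h1 h4 h3 h6 x hx
  refine ⟨y, ?_, hyx⟩
  have hle : Subgroup.closure {ev (bw (i + 1) 0), ev (bw (i + 1) 1)} ≤ cc H (gg i) := by
    intro z hz
    have hB : z ∈ BB i := by
      unfold BB; rw [if_neg hi]; exact hz
    exact ⟨BB_le i hB, BB_conj i z hB⟩
  exact hle hy

def L2 : List (List ℕ) := [[6], [9], [4, 5], [4, 7], [4, 8], [10, 11], [10, 12], [10, 13], [10, 14]]
def L3 : List (List ℕ) := [[6], [9], [4, 7], [4, 8], [11, 12], [10, 13], [10, 14]]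
def L4 : List (List ℕ) := [[6, 7, 8, 9], [7, 8, 11, 12], [7, 8, 10, 13], [4, 8, 10, 14]]
def L5 : List (List ℕ) := [[4, 8, 9, 10, 11, 12, 14]]

def W2 : List ℕ := [0xf0ff0f0f0f030e3def1c07f4bbc, 0xff00ff00fc0fe3effe1dc7b020, 0x556a924120,
  0xfffffffff00001ffe7e0, 0x5aa175b5703d995b2d80, 0xe003, 0x5800, 0x3ff, 0x1]
def W3 : List ℕ := [0xf0ff0f0f0f030e3de0e3f80b05c, 0xe3de000000b040, 0xf0fc0000e0000401000,
  0x556a4001e124d20, 0x5800, 0x3ff, 0x1]
def W4 : List ℕ := [0xe, 0x4, 0x3, 0x1]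
def W5 : List ℕ := [0x1]

theorem card1 : 2 ^ 9 * 64512 ≤ Nat.card (cc H (gg 1)) :=
  card_cc_ge (l := L2) (ws := W2) (by decide) cardB2_ge (by decide +kernel) (by decide +kernel)
    (by decide +kernel) (by decide +kernel) rfl
theorem card2 : 2 ^ 7 * 138240 ≤ Nat.card (cc H (gg 2)) :=
  card_cc_ge (l := L3) (ws := W3) (by decide) cardB3_ge (by decide +kernel) (by decide +kernel)
    (by decide +kernel) (by decide +kernel) rfl
theorem card3 : 2 ^ 4 * 9216 ≤ Nat.card (cc H (gg 3)) :=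
  card_cc_ge (l := L4) (ws := W4) (by decide) cardB4_ge (by decide +kernel) (by decide +kernel)
    (by decide +kernel) (by decide +kernel) rfl
theorem card4 : 2 ^ 1 * 7680 ≤ Nat.card (cc H (gg 4)) :=
  card_cc_ge (l := L5) (ws := W5) (by decide) cardB5_ge (by decide +kernel) (by decide +kernel)
    (by decide +kernel) (by decide +kernel) rfl

theorem B_le_cc {i : Fin 7} (hi : i ≠ 0) : B (i + 1) ≤ cc H (gg i) := by
  intro z hz
  have hB : z ∈ BB i := by
    unfold BB; rw [if_neg hi]; exact hz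
  exact ⟨BB_le i hB, BB_conj i z hB⟩

theorem card5 : 9216 ≤ Nat.card (cc H (gg 5)) :=
  card_B6.trans (Nat.le_of_dvd Nat.card_pos (Subgroup.card_dvd_of_le (B_le_cc (i := 5) (by decide))))
theorem card6 : 6072 ≤ Nat.card (cc H (gg 6)) :=
  card_B7.trans (Nat.le_of_dvd Nat.card_pos (Subgroup.card_dvd_of_le (B_le_cc (i := 6) (by decide))))

/-- the suborbit lengths -/
def len (i : Fin 7) : ℕ := [1, 15180, 28336, 3400320, 32643072, 54405120, 82575360].get (i.cast (by rfl))

theorem relIndex_le (i : Fin 7) : (cc H (gg i)).relIndex H ≤ len i := by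
  fin_cases i
  · have : cc H (gg 0) = H := by
      ext x
      rw [mem_cc, gg_zero]
      simp
    show (cc H (gg 0)).relIndex H ≤ 1
    rw [this, Subgroup.relIndex_self]
  · exact Order.relIndex_le (cc_le _ _) card1 card_H (by
      show 2 ^ 11 * 244823040 < 2 ^ 9 * 64512 * (15180 + 1); norm_num)
  · exact Order.relIndex_le (cc_le _ _) card2 card_H (by
      show 2 ^ 11 * 244823040 < 2 ^ 7 * 138240 * (28336 + 1); norm_num)
  · exact Order.relIndex_le (cc_le _ _) card3 card_H (by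
      show 2 ^ 11 * 244823040 < 2 ^ 4 * 9216 * (3400320 + 1); norm_num)
  · exact Order.relIndex_le (cc_le _ _) card4 card_H (by
      show 2 ^ 11 * 244823040 < 2 ^ 1 * 7680 * (32643072 + 1); norm_num)
  · exact Order.relIndex_le (cc_le _ _) card5 card_H (by
      show 2 ^ 11 * 244823040 < 9216 * (54405120 + 1); norm_num)
  · exact Order.relIndex_le (cc_le _ _) card6 card_H (by
      show 2 ^ 11 * 244823040 < 6072 * (82575360 + 1); norm_num)

theorem sum_len : ∑ i, len i = 173067389 := by decide +kernel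

/-- the normaliser of `Q` in `R` is `H` -/
theorem mem_H_of_norm {x : GG} (hx : x ∈ R) (h : x ∈ Subgroup.normalizer (Q : Set GG)) : x ∈ H := by
  obtain ⟨i, a, ha, b, hb, rfl⟩ := decomp x hx
  by_cases hi : i = 0
  · subst hi
    rw [gg_zero, mul_one]
    exact H.mul_mem ha hb
  exfalso
  have hg : gg i ∈ Subgroup.normalizer (Q : Set GG) := by
    have h1 := Subgroup.mul_mem _ (Subgroup.mul_mem _ (Subgroup.inv_mem _ (H_norm ha)) h)
      (Subgroup.inv_mem _ (H_norm hb))
    have h2 : a⁻¹ * (a * gg i * b) * b⁻¹ = gg i := by group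
    rwa [h2] at h1
  have hchk : ∀ i : Fin 7, i ≠ 0 → ∃ j : Fin 11,
      Nat.beq (vw (vw v0 [gi (i + 1)]) [4 + j]) (vw v0 [gi (i + 1)]) = false := by decide +kernel
  obtain ⟨j, hj⟩ := hchk i hi
  have hq : e (4 + j) ∈ Q := Q_mem0 (by omega) (by omega)
  have h3 : gg i * e (4 + j) * (gg i)⁻¹ ∈ H :=
    Q_le_H ((Subgroup.mem_normalizer_iff.mp hg _).mp hq)
  have h4 := H_fix _ h3
  have h5 : act (act u0 (gg i)) (e (4 + j)) = act u0 (gg i) := by
    rw [act_mul, act_mul] at h4
    have h6 : act (act (act (act u0 (gg i)) (e (4 + j))) (gg i)⁻¹) (gg i) = act u0 (gg i) := by rw [h4]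
    rwa [← act_mul _ (gg i)⁻¹, inv_mul_cancel, act_one] at h6
  have h7 : act u0 (gg i) = toVec 112 (vw v0 [gi (i + 1)]) := by
    unfold gg
    rw [← ev_single, act_ev0]
  rw [h7, ← ev_single, act_ev] at h5
  have h8 := toVec_inj (vw_lt (vw_lt v0_lt _) _) (vw_lt v0_lt _) h5
  rw [h8, Nat.beq_refl] at hj
  exact absurd hj (by decide)

theorem normalizer_Q : Subgroup.normalizer (Q : Set GG) ⊓ R = H :=
  le_antisymm (fun _ hx => mem_H_of_norm hx.2 hx.1) (le_inf H_norm H_le_R)

theorem index_HR : (H.subgroupOf R).index = 173067389 := by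
  have h1 : Nat.card (H.subgroupOf R) * (H.subgroupOf R).index = Nat.card R :=
    (H.subgroupOf R).card_mul_index
  have h2 : Nat.card (H.subgroupOf R) = Nat.card H :=
    Nat.card_congr (Subgroup.subgroupOfEquivOfLe H_le_R).toEquiv
  rw [h2, card_H, card_R] at h1
  have h3 : 2 ^ 11 * 244823040 * (H.subgroupOf R).index = 2 ^ 11 * 244823040 * 173067389 := by
    rw [h1]; norm_num
  exact Nat.eq_of_mul_eq_mul_left (by norm_num) h3

/-- the representatives as elements of `R` -/
noncomputable def gr (i : Fin 7) : R := ⟨gg i, gg_mem i⟩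

theorem decompR : ∀ x : R, ∃ i, ∃ a ∈ H.subgroupOf R, ∃ b ∈ H.subgroupOf R, x = a * gr i * b := by
  intro x
  obtain ⟨i, a, ha, b, hb, h⟩ := decomp x x.2
  exact ⟨i, ⟨a, H_le_R ha⟩, ha, ⟨b, H_le_R hb⟩, hb, Subtype.ext h⟩

theorem relIndexR (i : Fin 7) : (cc (H.subgroupOf R) (gr i)).relIndex (H.subgroupOf R) ≤ len i := by
  have h1 := relIndex_map R.subtype R.subtype_injective (H.subgroupOf R) (gr i)
  have h2 : (H.subgroupOf R).map R.subtype = H := by
    rw [Subgroup.subgroupOf_map_subtype, inf_eq_left.2 H_le_R]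
  rw [h2] at h1
  rw [← h1]
  exact relIndex_le i

/-- The suborbit lengths in any group isomorphic to `R`. -/
theorem suborbits {G : Type*} [Group G] [Finite G] (f : R ≃* G) (N : Subgroup G)
    (hN : (H.subgroupOf R).map f.toMonoidHom = N) :
    N.index = 173067389 ∧ ∃ c : Fin 7 → G ⧸ N,
      (∀ i j : Fin 7, i ≠ j → MulAction.orbit N (c i) ≠ MulAction.orbit N (c j)) ∧
      (∀ q : G ⧸ N, ∃ i : Fin 7, q ∈ MulAction.orbit N (c i)) ∧
      ∀ i, (MulAction.orbit N (c i)).ncard = len i := by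
  have hidx : N.index = 173067389 := by
    rw [← index_HR, ← hN]
    exact Subgroup.index_map_of_bijective f.bijective _
  refine ⟨hidx, fun i => QuotientGroup.mk (f (gr i)), ?_⟩
  refine DCAbs.main N (fun i => f (gr i)) len ?_ ?_ ?_
  · intro x
    obtain ⟨i, a, ha, b, hb, h⟩ := decompR (f.symm x)
    refine ⟨i, f a, ?_, f b, ?_, ?_⟩
    · rw [← hN]; exact ⟨a, ha, rfl⟩
    · rw [← hN]; exact ⟨b, hb, rfl⟩
    · rw [← map_mul, ← map_mul, ← h, MulEquiv.apply_symm_apply]
  · intro i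
    have h1 := relIndex_map f.toMonoidHom f.injective (H.subgroupOf R) (gr i)
    rw [hN] at h1
    exact h1.trans_le (relIndexR i)
  · rw [sum_len, hidx]

end Cfsg.Agent.H863.J4Rank7
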