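import Mathlib
import Cfsg.Agent.BM.StageWPairs

/-!
# Data for the even generators of the Baby Monster (helper863, for S5590)
-/

set_option autoImplicit false

namespace Cfsg.Agent.H863.SData

open Cfsg.Agent.BabyM.Conc Cfsg.Spor.BabyMonster

/-- Words of `Q` for `t z t`. -/
def za : Gen → List Ltr
  | .t1 => [.X1, .X2, .X3, .X5, .X6, .X7, .X9, .Z0, .Z1, .Z2, .Z3, .Z5, .Z10]
  | .t3 => [.X0, .X1, .X2, .X3, .X4, .X6, .X7, .X8, .X9, .Z0, .Z1, .Z4, .Z5, .Z6, .Z7, .Z8, .Z10]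
  | .t5 => [.Z10, .z]
  | .t7 => [.X1, .X2, .X4, .X5, .X6, .X7, .X8, .Z2, .Z3, .Z5, .Z10]
  | .t10 => [.X0, .X1, .X2, .X3, .X5, .X6, .X7, .X8, .X9, .Z0, .Z3, .Z6, .Z9, .z]
  | _ => []

/-- The codes of `za`. -/
def zc : Gen → ℕ
  | .t1 => 0x17742f
  | .t3 => 0x1efdf3
  | .t5 => 0x400400
  | .t7 => 0xfb42c
  | .t10 => 0x5f7a49
  | _ => 0

/-- Words of `Q` commuting with the generator. -/
def cb : Gen → ℕ → List Ltr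
  | .t1, 0 => [.X3, .X4, .X5, .X6, .X9, .X10, .Z1, .Z2, .Z9, .Z10]
  | .t1, 1 => [.X2, .X3, .X4, .X6, .X7, .X10, .Z0, .Z3, .Z7, .Z8, .Z9]
  | .t1, 2 => [.X1, .X2, .X3, .X4, .X9, .X10, .Z1, .Z2, .Z3, .Z4, .Z7, .Z8, .z]
  | .t1, 3 => [.X2, .X3, .X4, .X7, .X10, .Z2, .Z3, .Z5, .Z7, .Z8, .Z9, .Z10]
  | .t1, 4 => [.X3, .X4, .X6, .X10, .Z0, .Z2, .Z3, .Z5, .Z6, .z]
  | .t1, 5 => [.X1, .X2, .X3, .X5, .X6, .X7, .X9, .Z0, .Z2, .Z4, .Z9, .Z10, .z]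
  | .t1, 6 => [.X4, .X6, .X7, .X9, .X10, .Z0, .Z1, .Z2, .Z3, .Z4, .Z5, .Z6, .Z8, .z]
  | .t1, 7 => [.X4, .X7, .X9, .X10, .Z0, .Z1, .Z3, .Z6]
  | .t1, 8 => [.X1, .X3, .X4, .X5, .X7, .X10, .Z0, .Z1, .Z3, .Z4, .Z5, .Z8, .Z9, .z]
  | .t1, 9 => [.X1, .X2, .X4, .X5, .X6, .X7, .X9, .X10, .Z0, .Z2, .Z3, .Z6, .Z9, .Z10, .z]
  | .t1, 10 => [.X1, .X2, .X3, .X5, .X6, .X7, .X9, .Z0, .Z1, .Z2, .Z3, .Z5, .Z10, .z]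
  | .t3, 0 => [.X1, .X2, .X3, .X4, .X5, .X8, .X10, .Z0, .Z1, .Z3, .Z4, .Z8]
  | .t3, 1 => [.X0, .X2, .X3, .X5, .X7, .X8, .X10, .Z4, .Z5, .Z6, .Z9, .Z10]
  | .t3, 2 => [.X0, .X1, .X5, .X6, .X8, .X10, .Z0, .Z1, .Z3, .Z4, .Z5, .Z7, .Z8, .z]
  | .t3, 3 => [.X0, .X1, .X4, .X5, .X7, .X8, .X9, .X10, .Z3, .Z6, .Z9, .Z10]
  | .t3, 4 => [.X0, .X3, .X5, .X6, .X10, .Z1, .Z2, .Z3, .Z4, .Z5, .Z7, .Z8, .z]
  | .t3, 5 => [.X0, .X1, .X2, .X3, .X4, .X6, .X7, .X8, .X9, .Z0, .Z1, .Z4, .Z6, .Z7, .Z8, .z]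
  | .t3, 6 => [.X2, .X4, .X5, .X10, .Z0, .Z1, .Z3, .Z6, .Z8]
  | .t3, 7 => [.X1, .X3, .X5, .X9, .X10, .Z0, .Z3, .Z4, .Z5, .Z7, .Z8]
  | .t3, 8 => [.X0, .X1, .X2, .X3, .X5, .X9, .X10, .Z2, .Z5, .Z9, .Z10, .z]
  | .t3, 9 => [.X0, .X1, .X2, .X4, .X5, .X6, .X9, .X10, .Z2, .Z3, .Z4, .Z7, .Z8, .Z9, .Z10, .z]
  | .t3, 10 => [.X0, .X1, .X2, .X3, .X4, .X6, .X7, .X8, .X9, .Z0, .Z1, .Z4, .Z5, .Z6, .Z7, .Z8, .Z10, .z]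
  | .t5, 0 => [.Z0]
  | .t5, 1 => [.Z1]
  | .t5, 2 => [.Z2]
  | .t5, 3 => [.Z3]
  | .t5, 4 => [.Z4]
  | .t5, 5 => [.Z5]
  | .t5, 6 => [.Z6]
  | .t5, 7 => [.Z7]
  | .t5, 8 => [.Z8]
  | .t5, 9 => [.Z9]
  | .t5, 10 => [.Z10]
  | .t7, 0 => [.X2, .X5, .X6, .X7, .X10, .Z2, .Z5, .Z6, .Z9, .Z10, .z]
  | .t7, 1 => [.X1, .X4, .X10, .Z2, .Z3, .Z6, .Z7]
  | .t7, 2 => [.X4, .X5, .X6, .X7, .X8, .X10, .Z0, .Z1, .Z2, .Z4, .Z6, .Z7, .Z8, .Z9]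
  | .t7, 3 => [.X1, .X4, .X5, .X6, .X10, .Z1, .Z2, .Z4, .Z5, .Z9, .Z10]
  | .t7, 4 => [.X5, .X10, .Z3]
  | .t7, 5 => [.X1, .X2, .X4, .X5, .X6, .X7, .X8, .Z0, .Z2, .Z3, .Z5, .Z10, .z]
  | .t7, 6 => [.X1, .X6, .X7, .X10, .Z0, .Z3, .Z8]
  | .t7, 7 => [.X1, .X5, .X7, .X10, .Z3, .Z4, .Z8, .Z9, .z]
  | .t7, 8 => [.X1, .X2, .X8, .X10, .Z0, .Z2, .Z3, .Z4, .Z7, .Z8, .z]
  | .t7, 9 => [.X1, .X2, .X4, .X5, .X7, .X8, .X10, .Z2, .Z3, .Z4, .Z5, .Z10, .z]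
  | .t7, 10 => [.X1, .X2, .X4, .X5, .X6, .X7, .X8, .Z2, .Z3, .Z5, .Z10, .z]
  | .t10, 0 => [.Z1, .Z3, .Z4, .Z6, .Z7, .Z8, .Z9]
  | .t10, 1 => [.X4, .X9, .X10, .Z3, .Z6, .Z8, .z]
  | .t10, 2 => [.X1, .X2, .X4, .X5, .X8, .X9, .X10, .Z3, .Z5, .Z6, .Z10, .z]
  | .t10, 3 => [.Z0, .Z1, .Z5, .Z6, .Z7, .Z9, .Z10]
  | .t10, 4 => [.X2, .X3, .X4, .X6, .X8, .X10, .Z2, .Z5, .Z10]
  | .t10, 5 => [.X4, .X5, .X6, .X7, .X8, .X10, .Z0, .Z1, .Z2, .Z4, .Z6, .Z7, .Z8, .Z9]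
  | .t10, 6 => [.X0, .X2, .X4, .X5, .X6, .X10, .Z0, .Z2, .Z3, .Z4, .Z5, .Z6, .Z9, .Z10, .z]
  | .t10, 7 => [.X1, .X3, .X4, .X5, .X6, .X10, .Z0, .Z1, .Z2, .Z9, .Z10, .z]
  | .t10, 8 => [.X0, .X4, .X6, .X8, .X9, .X10, .Z0, .Z3, .Z5, .Z8, .Z9, .Z10]
  | .t10, 9 => [.Z4, .Z10]
  | .t10, 10 => [.X0, .X1, .X2, .X3, .X5, .X6, .X7, .X8, .X9, .Z0, .Z3, .Z6, .Z9]
  | _, _ => []

/-- A product of commuting words. -/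
def wd (a : Gen) (l : List ℕ) : List Ltr := l.flatMap (cb a)

/-- The word for the pair (1, 3). -/
def r1_3 : List Ltr := [.X1, .X10]

def A1_3 : List (List ℕ × ℕ) := [([3], 0x24e7ac), ([5], 0x577615), ([10], 0x57742f), ([1, 0], 0x15258f), ([2, 0], 0x433798), ([4, 0], 0x11066b), ([6, 0], 0x454779), ([7, 0], 0x7464d), ([8, 0], 0x56153d), ([9, 0], 0x44704b)]

def B1_3 : List (List ℕ × ℕ) := [([1], 0x2d6e70), ([2], 0x6b19bb), ([6], 0x21a14b), ([10], 0x5efdf3), ([3, 0], 0x146f53), ([4, 0], 0x4ab8a5), ([5, 0], 0x3708c8), ([7, 0], 0x18a0a2), ([8, 0], 0x188f3f), ([9, 0], 0x1a4e87)]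

/-- The word for the pair (1, 5). -/
def r1_5 : List Ltr := [.X0, .X1, .X4, .X5, .X8, .Z3]

def A1_5 : List (List ℕ × ℕ) := [([5], 0x577615), ([10], 0x57742f), ([1, 0], 0x15258f), ([2, 0], 0x433798), ([3, 0], 0x1721aa), ([4, 0], 0x11066b), ([6, 0], 0x454779), ([7, 0], 0x7464d), ([8, 0], 0x56153d), ([9, 0], 0x44704b)]

def B1_5 : List (List ℕ × ℕ) := [([0], 0x1), ([4], 0x10), ([8], 0x100), ([10], 0x400), ([2, 1], 0x6), ([3, 1], 0xa), ([5, 1], 0x22), ([6, 1], 0x42), ([7, 1], 0x82), ([9, 1], 0x202)]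

/-- The word for the pair (1, 7). -/
def r1_7 : List Ltr := [.X0, .X6, .X10, .Z5, .Z9]

def A1_7 : List (List ℕ × ℕ) := [([2], 0x70f19e), ([10], 0x57742f), ([1, 0], 0x15258f), ([3, 0], 0x1721aa), ([4, 0], 0x11066b), ([5, 0], 0x24b013), ([6, 0], 0x454779), ([7, 0], 0x7464d), ([8, 0], 0x56153d), ([9, 0], 0x44704b)]

def B1_7 : List (List ℕ × ℕ) := [([1], 0x2090cc), ([5], 0x4fb42d), ([8], 0x68319d), ([10], 0x4fb42c), ([2, 0], 0x8a5b3), ([3, 0], 0x4b052), ([4, 0], 0x46266c), ([6, 0], 0x41376d), ([7, 0], 0x2357c), ([9, 0], 0x4a9258)]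

/-- The word for the pair (1, 10). -/
def r1_10 : List Ltr := [.X7, .X9, .X10, .Z6]

def A1_10 : List (List ℕ × ℕ) := [([0], 0x33c606), ([5], 0x577615), ([10], 0x57742f), ([2, 1], 0x561217), ([3, 1], 0x20425), ([4, 1], 0x423e4), ([6, 1], 0x5062f6), ([7, 1], 0x1263c2), ([8, 1], 0x4330b2), ([9, 1], 0x5155c4)]

def B1_10 : List (List ℕ × ℕ) := [([9], 0x410), ([10], 0x1f7a49), ([1, 0], 0x708292), ([2, 0], 0x79b7b2), ([3, 0], 0x539), ([4, 0], 0x2ae7fe), ([5, 0], 0x2f800d), ([6, 0], 0x63ada7), ([7, 0], 0x63d5dd), ([8, 0], 0x3a8cf3)]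

/-- The word for the pair (3, 5). -/
def r3_5 : List Ltr := [.X2, .X4, .X5, .X7, .X9, .Z6]

def A3_5 : List (List ℕ × ℕ) := [([5], 0x5ef9d3), ([10], 0x5efdf3), ([1, 0], 0x449f6b), ([2, 0], 0x2e8a0), ([3, 0], 0x146f53), ([4, 0], 0x4ab8a5), ([6, 0], 0x485050), ([7, 0], 0x18a0a2), ([8, 0], 0x188f3f), ([9, 0], 0x1a4e87)]

def B3_5 : List (List ℕ × ℕ) := [([5], 0x20), ([10], 0x400), ([1, 0], 0x3), ([2, 0], 0x5), ([3, 0], 0x9), ([4, 0], 0x11), ([6, 0], 0x41), ([7, 0], 0x81), ([8, 0], 0x101), ([9, 0], 0x201)]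

/-- The word for the pair (3, 7). -/
def r3_7 : List Ltr := [.X3, .X9, .X10, .Z4, .Z5]

def A3_7 : List (List ℕ × ℕ) := [([6], 0x21a14b), ([8], 0x717e24), ([10], 0x5efdf3), ([1, 0], 0x449f6b), ([2, 0], 0x2e8a0), ([3, 0], 0x146f53), ([4, 0], 0x4ab8a5), ([5, 0], 0x3708c8), ([7, 0], 0x18a0a2), ([9, 0], 0x1a4e87)]

def B3_7 : List (List ℕ × ℕ) := [([2], 0x2f83d7), ([7], 0x651318), ([10], 0x4fb42c), ([1, 0], 0x7b6a8), ([3, 0], 0x4b052), ([4, 0], 0x46266c), ([5, 0], 0x689249), ([6, 0], 0x41376d), ([8, 0], 0xf17f9), ([9, 0], 0x4a9258)]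

/-- The word for the pair (3, 10). -/
def r3_10 : List Ltr := [.X1, .X10]

def A3_10 : List (List ℕ × ℕ) := [([2], 0x6b19bb), ([8], 0x717e24), ([9], 0x73bf9c), ([10], 0x5efdf3), ([1, 0], 0x449f6b), ([3, 0], 0x146f53), ([4, 0], 0x4ab8a5), ([5, 0], 0x3708c8), ([6, 0], 0x485050), ([7, 0], 0x18a0a2)]

def B3_10 : List (List ℕ × ℕ) := [([5], 0x2f83d7), ([10], 0x1f7a49), ([1, 0], 0x708292), ([2, 0], 0x79b7b2), ([3, 0], 0x539), ([4, 0], 0x2ae7fe), ([6, 0], 0x63ada7), ([7, 0], 0x63d5dd), ([8, 0], 0x3a8cf3), ([9, 0], 0x7ca)]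

/-- The word for the pair (5, 7). -/
def r5_7 : List Ltr := [.X0, .X1, .X2, .X3, .X6, .X7, .X9, .Z10]

def A5_7 : List (List ℕ × ℕ) := [([0], 0x1), ([3], 0x8), ([9], 0x200), ([10], 0x400), ([2, 1], 0x6), ([4, 1], 0x12), ([5, 1], 0x22), ([6, 1], 0x42), ([7, 1], 0x82), ([8, 1], 0x102)]

def B5_7 : List (List ℕ × ℕ) := [([5], 0x4fb42d), ([10], 0x4fb42c), ([1, 0], 0x7b6a8), ([2, 0], 0x8a5b3), ([3, 0], 0x4b052), ([4, 0], 0x46266c), ([6, 0], 0x41376d), ([7, 0], 0x2357c), ([8, 0], 0xf17f9), ([9, 0], 0x4a9258)]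

/-- The word for the pair (5, 10). -/
def r5_10 : List Ltr := [.X0, .X1, .X4, .X5, .X8, .Z7]

def A5_10 : List (List ℕ × ℕ) := [([4], 0x10), ([10], 0x400), ([1, 0], 0x3), ([2, 0], 0x5), ([3, 0], 0x9), ([5, 0], 0x21), ([6, 0], 0x41), ([7, 0], 0x81), ([8, 0], 0x101), ([9, 0], 0x201)]

def B5_10 : List (List ℕ × ℕ) := [([0], 0x3da), ([3], 0x6e3), ([9], 0x410), ([10], 0x1f7a49), ([2, 1], 0x493520), ([4, 1], 0x1a656c), ([5, 1], 0x5f029f), ([6, 1], 0x532f35), ([7, 1], 0x13574f), ([8, 1], 0x4a0e61)]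

/-- The word for the pair (7, 10). -/
def r7_10 : List Ltr := [.X7, .X9, .X10, .Z6]

def A7_10 : List (List ℕ × ℕ) := [([1], 0x2090cc), ([2], 0x2f83d7), ([6], 0x261109), ([10], 0x4fb42c), ([3, 0], 0x4b052), ([4, 0], 0x46266c), ([5, 0], 0x689249), ([7, 0], 0x2357c), ([8, 0], 0xf17f9), ([9, 0], 0x4a9258)]

def B7_10 : List (List ℕ × ℕ) := [([3], 0x6e3), ([5], 0x2f83d7), ([10], 0x1f7a49), ([1, 0], 0x708292), ([2, 0], 0x79b7b2), ([4, 0], 0x2ae7fe), ([6, 0], 0x63ada7), ([7, 0], 0x63d5dd), ([8, 0], 0x3a8cf3), ([9, 0], 0x7ca)]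

end Cfsg.Agent.H863.SData
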