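import Mathlib
import Cfsg.Agent.H863.SData

/-!
# Kernel checks on the vector of the base (helper863, for S5590)
-/

set_option autoImplicit false
set_option Elab.async false

namespace Cfsg.Agent.H863.SChkA

open Cfsg.Agent.Monster.VecEngine Cfsg.Agent.BabyM.Conc Cfsg.Agent.BabyM.WordsInst Cfsg.Spor.BabyMonster
open Cfsg.Agent.BM.StageW Cfsg.Agent.H863.SData

theorem z1 : chk (tw .t1 ++ [.z] ++ tw .t1) (za .t1) = true := by decide +kernel

theorem c1_0 : chk (cb .t1 0 ++ tw .t1) (tw .t1 ++ cb .t1 0) = true := by decide +kernel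

theorem c1_1 : chk (cb .t1 1 ++ tw .t1) (tw .t1 ++ cb .t1 1) = true := by decide +kernel

theorem c1_2 : chk (cb .t1 2 ++ tw .t1) (tw .t1 ++ cb .t1 2) = true := by decide +kernel

theorem c1_3 : chk (cb .t1 3 ++ tw .t1) (tw .t1 ++ cb .t1 3) = true := by decide +kernel

theorem c1_4 : chk (cb .t1 4 ++ tw .t1) (tw .t1 ++ cb .t1 4) = true := by decide +kernel

theorem c1_5 : chk (cb .t1 5 ++ tw .t1) (tw .t1 ++ cb .t1 5) = true := by decide +kernel

theorem c1_6 : chk (cb .t1 6 ++ tw .t1) (tw .t1 ++ cb .t1 6) = true := by decide +kernel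

theorem c1_7 : chk (cb .t1 7 ++ tw .t1) (tw .t1 ++ cb .t1 7) = true := by decide +kernel

theorem c1_8 : chk (cb .t1 8 ++ tw .t1) (tw .t1 ++ cb .t1 8) = true := by decide +kernel

theorem c1_9 : chk (cb .t1 9 ++ tw .t1) (tw .t1 ++ cb .t1 9) = true := by decide +kernel

theorem c1_10 : chk (cb .t1 10 ++ tw .t1) (tw .t1 ++ cb .t1 10) = true := by decide +kernel

theorem z3 : chk (tw .t3 ++ [.z] ++ tw .t3) (za .t3) = true := by decide +kernel

theorem c3_0 : chk (cb .t3 0 ++ tw .t3) (tw .t3 ++ cb .t3 0) = true := by decide +kernel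

theorem c3_1 : chk (cb .t3 1 ++ tw .t3) (tw .t3 ++ cb .t3 1) = true := by decide +kernel

theorem c3_2 : chk (cb .t3 2 ++ tw .t3) (tw .t3 ++ cb .t3 2) = true := by decide +kernel

theorem c3_3 : chk (cb .t3 3 ++ tw .t3) (tw .t3 ++ cb .t3 3) = true := by decide +kernel

theorem c3_4 : chk (cb .t3 4 ++ tw .t3) (tw .t3 ++ cb .t3 4) = true := by decide +kernel

theorem c3_5 : chk (cb .t3 5 ++ tw .t3) (tw .t3 ++ cb .t3 5) = true := by decide +kernel

theorem c3_6 : chk (cb .t3 6 ++ tw .t3) (tw .t3 ++ cb .t3 6) = true := by decide +kernel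

theorem c3_7 : chk (cb .t3 7 ++ tw .t3) (tw .t3 ++ cb .t3 7) = true := by decide +kernel

theorem c3_8 : chk (cb .t3 8 ++ tw .t3) (tw .t3 ++ cb .t3 8) = true := by decide +kernel

theorem c3_9 : chk (cb .t3 9 ++ tw .t3) (tw .t3 ++ cb .t3 9) = true := by decide +kernel

theorem c3_10 : chk (cb .t3 10 ++ tw .t3) (tw .t3 ++ cb .t3 10) = true := by decide +kernel

theorem z5 : chk (tw .t5 ++ [.z] ++ tw .t5) (za .t5) = true := by decide +kernel

theorem c5_0 : chk (cb .t5 0 ++ tw .t5) (tw .t5 ++ cb .t5 0) = true := by decide +kernel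

theorem c5_1 : chk (cb .t5 1 ++ tw .t5) (tw .t5 ++ cb .t5 1) = true := by decide +kernel

theorem c5_2 : chk (cb .t5 2 ++ tw .t5) (tw .t5 ++ cb .t5 2) = true := by decide +kernel

theorem c5_3 : chk (cb .t5 3 ++ tw .t5) (tw .t5 ++ cb .t5 3) = true := by decide +kernel

theorem c5_4 : chk (cb .t5 4 ++ tw .t5) (tw .t5 ++ cb .t5 4) = true := by decide +kernel

theorem c5_5 : chk (cb .t5 5 ++ tw .t5) (tw .t5 ++ cb .t5 5) = true := by decide +kernel

theorem c5_6 : chk (cb .t5 6 ++ tw .t5) (tw .t5 ++ cb .t5 6) = true := by decide +kernel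

theorem c5_7 : chk (cb .t5 7 ++ tw .t5) (tw .t5 ++ cb .t5 7) = true := by decide +kernel

theorem c5_8 : chk (cb .t5 8 ++ tw .t5) (tw .t5 ++ cb .t5 8) = true := by decide +kernel

theorem c5_9 : chk (cb .t5 9 ++ tw .t5) (tw .t5 ++ cb .t5 9) = true := by decide +kernel

theorem c5_10 : chk (cb .t5 10 ++ tw .t5) (tw .t5 ++ cb .t5 10) = true := by decide +kernel

theorem z7 : chk (tw .t7 ++ [.z] ++ tw .t7) (za .t7) = true := by decide +kernel

theorem c7_0 : chk (cb .t7 0 ++ tw .t7) (tw .t7 ++ cb .t7 0) = true := by decide +kernel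

theorem c7_1 : chk (cb .t7 1 ++ tw .t7) (tw .t7 ++ cb .t7 1) = true := by decide +kernel

theorem c7_2 : chk (cb .t7 2 ++ tw .t7) (tw .t7 ++ cb .t7 2) = true := by decide +kernel

theorem c7_3 : chk (cb .t7 3 ++ tw .t7) (tw .t7 ++ cb .t7 3) = true := by decide +kernel

theorem c7_4 : chk (cb .t7 4 ++ tw .t7) (tw .t7 ++ cb .t7 4) = true := by decide +kernel

theorem c7_5 : chk (cb .t7 5 ++ tw .t7) (tw .t7 ++ cb .t7 5) = true := by decide +kernel

theorem c7_6 : chk (cb .t7 6 ++ tw .t7) (tw .t7 ++ cb .t7 6) = true := by decide +kernel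

theorem c7_7 : chk (cb .t7 7 ++ tw .t7) (tw .t7 ++ cb .t7 7) = true := by decide +kernel

theorem c7_8 : chk (cb .t7 8 ++ tw .t7) (tw .t7 ++ cb .t7 8) = true := by decide +kernel

theorem c7_9 : chk (cb .t7 9 ++ tw .t7) (tw .t7 ++ cb .t7 9) = true := by decide +kernel

theorem c7_10 : chk (cb .t7 10 ++ tw .t7) (tw .t7 ++ cb .t7 10) = true := by decide +kernel

theorem z10 : chk (tw .t10 ++ [.z] ++ tw .t10) (za .t10) = true := by decide +kernel

theorem c10_0 : chk (cb .t10 0 ++ tw .t10) (tw .t10 ++ cb .t10 0) = true := by decide +kernel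

theorem c10_1 : chk (cb .t10 1 ++ tw .t10) (tw .t10 ++ cb .t10 1) = true := by decide +kernel

theorem c10_2 : chk (cb .t10 2 ++ tw .t10) (tw .t10 ++ cb .t10 2) = true := by decide +kernel

theorem c10_3 : chk (cb .t10 3 ++ tw .t10) (tw .t10 ++ cb .t10 3) = true := by decide +kernel

theorem c10_4 : chk (cb .t10 4 ++ tw .t10) (tw .t10 ++ cb .t10 4) = true := by decide +kernel

theorem c10_5 : chk (cb .t10 5 ++ tw .t10) (tw .t10 ++ cb .t10 5) = true := by decide +kernel

theorem c10_6 : chk (cb .t10 6 ++ tw .t10) (tw .t10 ++ cb .t10 6) = true := by decide +kernel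

theorem c10_7 : chk (cb .t10 7 ++ tw .t10) (tw .t10 ++ cb .t10 7) = true := by decide +kernel

theorem c10_8 : chk (cb .t10 8 ++ tw .t10) (tw .t10 ++ cb .t10 8) = true := by decide +kernel

theorem c10_9 : chk (cb .t10 9 ++ tw .t10) (tw .t10 ++ cb .t10 9) = true := by decide +kernel

theorem c10_10 : chk (cb .t10 10 ++ tw .t10) (tw .t10 ++ cb .t10 10) = true := by decide +kernel

end Cfsg.Agent.H863.SChkA
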