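import Mathlib
import Cfsg.Agent.H863.SData

/-!
# Kernel checks on the vector of the base (helper863, for S5590)
-/

set_option autoImplicit false
set_option Elab.async false

namespace Cfsg.Agent.H863.SChkB

open Cfsg.Agent.Monster.VecEngine Cfsg.Agent.BabyM.Conc Cfsg.Agent.BabyM.WordsInst Cfsg.Spor.BabyMonster
open Cfsg.Agent.BM.StageW Cfsg.Agent.H863.SData

theorem z1_3 : chk ((tw .t1 ++ tw .t3 ++ [.z] ++ tw .t3 ++ tw .t1) ++ [.z]) ([.z] ++ (tw .t1 ++ tw .t3 ++ [.z] ++ tw .t3 ++ tw .t1)) = true := by decide +kernel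

theorem k1_3 : chk ((tw .t1 ++ tw .t3 ++ [.z] ++ tw .t3 ++ tw .t1) ++ r1_3) (r1_3 ++ (tw .t1 ++ tw .t3 ++ [.z] ++ tw .t3 ++ tw .t1) ++ [.z]) = true := by decide +kernel

theorem m1_3 : chk ((tw .t1 ++ r1_3 ++ tw .t1) ++ r1_3) (r1_3 ++ (tw .t1 ++ r1_3 ++ tw .t1)) = true := by decide +kernel

theorem n1_3 : chk ((tw .t3 ++ r1_3 ++ tw .t3) ++ r1_3) (r1_3 ++ (tw .t3 ++ r1_3 ++ tw .t3)) = true := by decide +kernel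

theorem y1_3 : chk (r1_3 ++ (tw .t1 ++ tw .t3 ++ r1_3 ++ tw .t3 ++ tw .t1) ++ r1_3) ((tw .t1 ++ tw .t3 ++ r1_3 ++ tw .t3 ++ tw .t1) ++ r1_3 ++ (tw .t1 ++ tw .t3 ++ r1_3 ++ tw .t3 ++ tw .t1)) = true := by decide +kernel

theorem z1_5 : chk ((tw .t1 ++ tw .t5 ++ [.z] ++ tw .t5 ++ tw .t1) ++ [.z]) ([.z] ++ (tw .t1 ++ tw .t5 ++ [.z] ++ tw .t5 ++ tw .t1)) = true := by decide +kernel

theorem k1_5 : chk ((tw .t1 ++ tw .t5 ++ [.z] ++ tw .t5 ++ tw .t1) ++ r1_5) (r1_5 ++ (tw .t1 ++ tw .t5 ++ [.z] ++ tw .t5 ++ tw .t1) ++ [.z]) = true := by decide +kernel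

theorem m1_5 : chk ((tw .t1 ++ r1_5 ++ tw .t1) ++ r1_5) (r1_5 ++ (tw .t1 ++ r1_5 ++ tw .t1)) = true := by decide +kernel

theorem n1_5 : chk ((tw .t5 ++ r1_5 ++ tw .t5) ++ r1_5) (r1_5 ++ (tw .t5 ++ r1_5 ++ tw .t5)) = true := by decide +kernel

theorem y1_5 : chk (r1_5 ++ (tw .t1 ++ tw .t5 ++ r1_5 ++ tw .t5 ++ tw .t1) ++ r1_5) ((tw .t1 ++ tw .t5 ++ r1_5 ++ tw .t5 ++ tw .t1) ++ r1_5 ++ (tw .t1 ++ tw .t5 ++ r1_5 ++ tw .t5 ++ tw .t1)) = true := by decide +kernel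

theorem z1_7 : chk ((tw .t1 ++ tw .t7 ++ [.z] ++ tw .t7 ++ tw .t1) ++ [.z]) ([.z] ++ (tw .t1 ++ tw .t7 ++ [.z] ++ tw .t7 ++ tw .t1)) = true := by decide +kernel

theorem k1_7 : chk ((tw .t1 ++ tw .t7 ++ [.z] ++ tw .t7 ++ tw .t1) ++ r1_7) (r1_7 ++ (tw .t1 ++ tw .t7 ++ [.z] ++ tw .t7 ++ tw .t1) ++ [.z]) = true := by decide +kernel

theorem m1_7 : chk ((tw .t1 ++ r1_7 ++ tw .t1) ++ r1_7) (r1_7 ++ (tw .t1 ++ r1_7 ++ tw .t1)) = true := by decide +kernel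

theorem n1_7 : chk ((tw .t7 ++ r1_7 ++ tw .t7) ++ r1_7) (r1_7 ++ (tw .t7 ++ r1_7 ++ tw .t7)) = true := by decide +kernel

theorem y1_7 : chk (r1_7 ++ (tw .t1 ++ tw .t7 ++ r1_7 ++ tw .t7 ++ tw .t1) ++ r1_7) ((tw .t1 ++ tw .t7 ++ r1_7 ++ tw .t7 ++ tw .t1) ++ r1_7 ++ (tw .t1 ++ tw .t7 ++ r1_7 ++ tw .t7 ++ tw .t1)) = true := by decide +kernel

theorem z1_10 : chk ((tw .t1 ++ tw .t10 ++ [.z] ++ tw .t10 ++ tw .t1) ++ [.z]) ([.z] ++ (tw .t1 ++ tw .t10 ++ [.z] ++ tw .t10 ++ tw .t1)) = true := by decide +kernel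

theorem k1_10 : chk ((tw .t1 ++ tw .t10 ++ [.z] ++ tw .t10 ++ tw .t1) ++ r1_10) (r1_10 ++ (tw .t1 ++ tw .t10 ++ [.z] ++ tw .t10 ++ tw .t1) ++ [.z]) = true := by decide +kernel

theorem m1_10 : chk ((tw .t1 ++ r1_10 ++ tw .t1) ++ r1_10) (r1_10 ++ (tw .t1 ++ r1_10 ++ tw .t1)) = true := by decide +kernel

theorem n1_10 : chk ((tw .t10 ++ r1_10 ++ tw .t10) ++ r1_10) (r1_10 ++ (tw .t10 ++ r1_10 ++ tw .t10)) = true := by decide +kernel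

theorem y1_10 : chk (r1_10 ++ (tw .t1 ++ tw .t10 ++ r1_10 ++ tw .t10 ++ tw .t1) ++ r1_10) ((tw .t1 ++ tw .t10 ++ r1_10 ++ tw .t10 ++ tw .t1) ++ r1_10 ++ (tw .t1 ++ tw .t10 ++ r1_10 ++ tw .t10 ++ tw .t1)) = true := by decide +kernel

theorem z3_5 : chk ((tw .t3 ++ tw .t5 ++ [.z] ++ tw .t5 ++ tw .t3) ++ [.z]) ([.z] ++ (tw .t3 ++ tw .t5 ++ [.z] ++ tw .t5 ++ tw .t3)) = true := by decide +kernel

theorem k3_5 : chk ((tw .t3 ++ tw .t5 ++ [.z] ++ tw .t5 ++ tw .t3) ++ r3_5) (r3_5 ++ (tw .t3 ++ tw .t5 ++ [.z] ++ tw .t5 ++ tw .t3) ++ [.z]) = true := by decide +kernel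

theorem m3_5 : chk ((tw .t3 ++ r3_5 ++ tw .t3) ++ r3_5) (r3_5 ++ (tw .t3 ++ r3_5 ++ tw .t3)) = true := by decide +kernel

theorem n3_5 : chk ((tw .t5 ++ r3_5 ++ tw .t5) ++ r3_5) (r3_5 ++ (tw .t5 ++ r3_5 ++ tw .t5)) = true := by decide +kernel

theorem y3_5 : chk (r3_5 ++ (tw .t3 ++ tw .t5 ++ r3_5 ++ tw .t5 ++ tw .t3) ++ r3_5) ((tw .t3 ++ tw .t5 ++ r3_5 ++ tw .t5 ++ tw .t3) ++ r3_5 ++ (tw .t3 ++ tw .t5 ++ r3_5 ++ tw .t5 ++ tw .t3)) = true := by decide +kernel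

end Cfsg.Agent.H863.SChkB
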