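import Mathlib
import Cfsg.Agent.H863.SData

/-!
# Kernel checks on the vector of the base (helper863, for S5590)
-/

set_option autoImplicit false
set_option Elab.async false

namespace Cfsg.Agent.H863.SChkC

open Cfsg.Agent.Monster.VecEngine Cfsg.Agent.BabyM.Conc Cfsg.Agent.BabyM.WordsInst Cfsg.Spor.BabyMonster
open Cfsg.Agent.BM.StageW Cfsg.Agent.H863.SData

theorem z3_7 : chk ((tw .t3 ++ tw .t7 ++ [.z] ++ tw .t7 ++ tw .t3) ++ [.z]) ([.z] ++ (tw .t3 ++ tw .t7 ++ [.z] ++ tw .t7 ++ tw .t3)) = true := by decide +kernel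

theorem k3_7 : chk ((tw .t3 ++ tw .t7 ++ [.z] ++ tw .t7 ++ tw .t3) ++ r3_7) (r3_7 ++ (tw .t3 ++ tw .t7 ++ [.z] ++ tw .t7 ++ tw .t3) ++ [.z]) = true := by decide +kernel

theorem m3_7 : chk ((tw .t3 ++ r3_7 ++ tw .t3) ++ r3_7) (r3_7 ++ (tw .t3 ++ r3_7 ++ tw .t3)) = true := by decide +kernel

theorem n3_7 : chk ((tw .t7 ++ r3_7 ++ tw .t7) ++ r3_7) (r3_7 ++ (tw .t7 ++ r3_7 ++ tw .t7)) = true := by decide +kernel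

theorem y3_7 : chk (r3_7 ++ (tw .t3 ++ tw .t7 ++ r3_7 ++ tw .t7 ++ tw .t3) ++ r3_7) ((tw .t3 ++ tw .t7 ++ r3_7 ++ tw .t7 ++ tw .t3) ++ r3_7 ++ (tw .t3 ++ tw .t7 ++ r3_7 ++ tw .t7 ++ tw .t3)) = true := by decide +kernel

theorem z3_10 : chk ((tw .t3 ++ tw .t10 ++ [.z] ++ tw .t10 ++ tw .t3) ++ [.z]) ([.z] ++ (tw .t3 ++ tw .t10 ++ [.z] ++ tw .t10 ++ tw .t3)) = true := by decide +kernel

theorem k3_10 : chk ((tw .t3 ++ tw .t10 ++ [.z] ++ tw .t10 ++ tw .t3) ++ r3_10) (r3_10 ++ (tw .t3 ++ tw .t10 ++ [.z] ++ tw .t10 ++ tw .t3) ++ [.z]) = true := by decide +kernel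

theorem m3_10 : chk ((tw .t3 ++ r3_10 ++ tw .t3) ++ r3_10) (r3_10 ++ (tw .t3 ++ r3_10 ++ tw .t3)) = true := by decide +kernel

theorem n3_10 : chk ((tw .t10 ++ r3_10 ++ tw .t10) ++ r3_10) (r3_10 ++ (tw .t10 ++ r3_10 ++ tw .t10)) = true := by decide +kernel

theorem y3_10 : chk (r3_10 ++ (tw .t3 ++ tw .t10 ++ r3_10 ++ tw .t10 ++ tw .t3) ++ r3_10) ((tw .t3 ++ tw .t10 ++ r3_10 ++ tw .t10 ++ tw .t3) ++ r3_10 ++ (tw .t3 ++ tw .t10 ++ r3_10 ++ tw .t10 ++ tw .t3)) = true := by decide +kernel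

theorem z5_7 : chk ((tw .t5 ++ tw .t7 ++ [.z] ++ tw .t7 ++ tw .t5) ++ [.z]) ([.z] ++ (tw .t5 ++ tw .t7 ++ [.z] ++ tw .t7 ++ tw .t5)) = true := by decide +kernel

theorem k5_7 : chk ((tw .t5 ++ tw .t7 ++ [.z] ++ tw .t7 ++ tw .t5) ++ r5_7) (r5_7 ++ (tw .t5 ++ tw .t7 ++ [.z] ++ tw .t7 ++ tw .t5) ++ [.z]) = true := by decide +kernel

theorem m5_7 : chk ((tw .t5 ++ r5_7 ++ tw .t5) ++ r5_7) (r5_7 ++ (tw .t5 ++ r5_7 ++ tw .t5)) = true := by decide +kernel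

theorem n5_7 : chk ((tw .t7 ++ r5_7 ++ tw .t7) ++ r5_7) (r5_7 ++ (tw .t7 ++ r5_7 ++ tw .t7)) = true := by decide +kernel

theorem y5_7 : chk (r5_7 ++ (tw .t5 ++ tw .t7 ++ r5_7 ++ tw .t7 ++ tw .t5) ++ r5_7) ((tw .t5 ++ tw .t7 ++ r5_7 ++ tw .t7 ++ tw .t5) ++ r5_7 ++ (tw .t5 ++ tw .t7 ++ r5_7 ++ tw .t7 ++ tw .t5)) = true := by decide +kernel

theorem z5_10 : chk ((tw .t5 ++ tw .t10 ++ [.z] ++ tw .t10 ++ tw .t5) ++ [.z]) ([.z] ++ (tw .t5 ++ tw .t10 ++ [.z] ++ tw .t10 ++ tw .t5)) = true := by decide +kernel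

theorem k5_10 : chk ((tw .t5 ++ tw .t10 ++ [.z] ++ tw .t10 ++ tw .t5) ++ r5_10) (r5_10 ++ (tw .t5 ++ tw .t10 ++ [.z] ++ tw .t10 ++ tw .t5) ++ [.z]) = true := by decide +kernel

theorem m5_10 : chk ((tw .t5 ++ r5_10 ++ tw .t5) ++ r5_10) (r5_10 ++ (tw .t5 ++ r5_10 ++ tw .t5)) = true := by decide +kernel

theorem n5_10 : chk ((tw .t10 ++ r5_10 ++ tw .t10) ++ r5_10) (r5_10 ++ (tw .t10 ++ r5_10 ++ tw .t10)) = true := by decide +kernel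

theorem y5_10 : chk (r5_10 ++ (tw .t5 ++ tw .t10 ++ r5_10 ++ tw .t10 ++ tw .t5) ++ r5_10) ((tw .t5 ++ tw .t10 ++ r5_10 ++ tw .t10 ++ tw .t5) ++ r5_10 ++ (tw .t5 ++ tw .t10 ++ r5_10 ++ tw .t10 ++ tw .t5)) = true := by decide +kernel

theorem z7_10 : chk ((tw .t7 ++ tw .t10 ++ [.z] ++ tw .t10 ++ tw .t7) ++ [.z]) ([.z] ++ (tw .t7 ++ tw .t10 ++ [.z] ++ tw .t10 ++ tw .t7)) = true := by decide +kernel

theorem k7_10 : chk ((tw .t7 ++ tw .t10 ++ [.z] ++ tw .t10 ++ tw .t7) ++ r7_10) (r7_10 ++ (tw .t7 ++ tw .t10 ++ [.z] ++ tw .t10 ++ tw .t7) ++ [.z]) = true := by decide +kernel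

theorem m7_10 : chk ((tw .t7 ++ r7_10 ++ tw .t7) ++ r7_10) (r7_10 ++ (tw .t7 ++ r7_10 ++ tw .t7)) = true := by decide +kernel

theorem n7_10 : chk ((tw .t10 ++ r7_10 ++ tw .t10) ++ r7_10) (r7_10 ++ (tw .t10 ++ r7_10 ++ tw .t10)) = true := by decide +kernel

theorem y7_10 : chk (r7_10 ++ (tw .t7 ++ tw .t10 ++ r7_10 ++ tw .t10 ++ tw .t7) ++ r7_10) ((tw .t7 ++ tw .t10 ++ r7_10 ++ tw .t10 ++ tw .t7) ++ r7_10 ++ (tw .t7 ++ tw .t10 ++ r7_10 ++ tw .t10 ++ tw .t7)) = true := by decide +kernel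

end Cfsg.Agent.H863.SChkC
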