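import Mathlib

/-!
# Extensions by a module: sections over subgroups of invertible order (helper863, for S5590)
-/

set_option autoImplicit false

namespace Cfsg.Agent.H863.SExt

variable {F V G : Type*} [Field F] [AddCommGroup V] [Module F V] [Group G]

/-- An extension of `G` by the module `V`. -/
structure Ext (σ : G →* Module.End F V) (E : Type*) [Group E] where
  π : E →* G
  surj : Function.Surjective π
  j : V → E
  j_add : ∀ a b, j (a + b) = j a * j b
  j_inj : Function.Injective j
  ker : ∀ x, π x = 1 → ∃ v, x = j v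
  π_j : ∀ v, π (j v) = 1
  conj : ∀ x v, x * j v = j (σ (π x) v) * x

namespace Ext

variable {σ : G →* Module.End F V} {E : Type*} [Group E] (X : Ext σ E)

theorem j_zero : X.j 0 = 1 := by
  have h := X.j_add 0 0
  rw [add_zero] at h
  exact left_eq_mul.1 h

theorem j_neg (v : V) : X.j (-v) = (X.j v)⁻¹ := by
  rw [eq_comm, inv_eq_iff_mul_eq_one, ← X.j_add, add_neg_cancel, X.j_zero]

theorem j_comm (a b : V) : X.j a * X.j b = X.j b * X.j a := by
  rw [← X.j_add, ← X.j_add, add_comm]

theorem of_eq {x y : E} (h : X.π x = X.π y) : ∃ v, x = X.j v * y := by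
  obtain ⟨v, hv⟩ := X.ker (x * y⁻¹) (by rw [map_mul, map_inv, h, mul_inv_cancel])
  exact ⟨v, by rw [← hv, inv_mul_cancel_right]⟩

/-- A section over a subgroup. -/
def IsSec {H : Subgroup G} (s : H →* E) : Prop := ∀ h, X.π (s h) = h

/-- Existence of sections over subgroups of invertible order. -/
theorem exists_sec (H : Subgroup G) [Finite H] (hF : (Nat.card H : F) ≠ 0) : ∃ s : H →* E, X.IsSec s := by
  classical
  have := Fintype.ofFinite H
  have ht : ∀ g : H, ∃ x : E, X.π x = g := fun g => X.surj g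
  choose t ht using ht
  have hf : ∀ g h : H, ∃ v, t g * t h = X.j v * t (g * h) := fun g h =>
    X.of_eq (by rw [map_mul, ht, ht, ht]; rfl)
  choose f hf using hf
  -- the cocycle identity
  have hc : ∀ g h k : H, f g h + f (g * h) k = σ g (f h k) + f g (h * k) := by
    intro g h k
    apply X.j_inj
    have h1 : t g * t h * t k = X.j (f g h + f (g * h) k) * t (g * h * k) := by
      rw [hf g h, mul_assoc, hf (g * h) k, ← mul_assoc, ← X.j_add]
    have h2 : t g * t h * t k = X.j (σ g (f h k) + f g (h * k)) * t (g * h * k) := by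
      rw [mul_assoc, hf h k, ← mul_assoc, X.conj, ht, mul_assoc, hf g (h * k), ← mul_assoc, ← X.j_add, mul_assoc g h k]
    exact mul_right_cancel (h1.symm.trans h2)
  set n : F := (Nat.card H : F) with hn
  let c : H → V := fun g => n⁻¹ • ∑ k, f g k
  have hc' : ∀ g h, c g + σ g (c h) = f g h + c (g * h) := by
    intro g h
    have h1 : ∑ k, (f g h + f (g * h) k) = ∑ k, (σ g (f h k) + f g (h * k)) :=
      Finset.sum_congr rfl fun k _ => hc g h k
    rw [Finset.sum_add_distrib, Finset.sum_add_distrib, Finset.sum_const, Finset.card_univ,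
      ← Nat.card_eq_fintype_card] at h1
    have h2 : ∑ k, f g (h * k) = ∑ k, f g k := Fintype.sum_equiv (Equiv.mulLeft h) _ _ fun k => rfl
    rw [h2, ← map_sum] at h1
    have h3 : (Nat.card H • f g h : V) = n • f g h := by rw [hn, Nat.cast_smul_eq_nsmul]
    rw [h3] at h1
    show n⁻¹ • ∑ k, f g k + σ g (n⁻¹ • ∑ k, f h k) = f g h + n⁻¹ • ∑ k, f (g * h) k
    rw [map_smul, ← smul_add, add_comm, ← h1, smul_add, smul_smul, inv_mul_cancel₀ hF, one_smul]
  refine ⟨MonoidHom.mk' (fun g => X.j (- c g) * t g) ?_, ?_⟩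
  · intro g h
    show X.j (- c (g * h)) * t (g * h) = X.j (- c g) * t g * (X.j (- c h) * t h)
    have h1 : X.j (- c g) * t g * (X.j (- c h) * t h) = X.j (- c g + σ g (- c h) + f g h) * t (g * h) := by
      rw [mul_assoc, ← mul_assoc (t g), X.conj, ht, X.j_add, X.j_add, mul_assoc (X.j (σ g (- c h))), hf g h]
      simp only [mul_assoc]
    rw [h1]
    congr 2
    have h2 := hc' g h
    rw [map_neg]
    have h3 : c (g * h) = c g + σ g (c h) - f g h := by rw [h2]; abel
    rw [h3]
    abel
  · intro g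
    show X.π (X.j (- c g) * t g) = g
    rw [map_mul, X.π_j, one_mul, ht]

/-- Sections over subgroups of invertible order are conjugate. -/
theorem conj_sec {H : Subgroup G} [Finite H] (hF : (Nat.card H : F) ≠ 0) {s s' : H →* E} (hs : X.IsSec s)
    (hs' : X.IsSec s') : ∃ v, ∀ h, s' h = X.j v * s h * (X.j v)⁻¹ := by
  classical
  have := Fintype.ofFinite H
  have hd : ∀ g : H, ∃ v, s' g = X.j v * s g := fun g => X.of_eq (by rw [hs g, hs' g])
  choose d hd using hd
  have hc : ∀ g h : H, d (g * h) = d g + σ g (d h) := by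
    intro g h
    apply X.j_inj
    have h1 : s' (g * h) = X.j (d (g * h)) * (s g * s h) := by rw [hd, map_mul s]
    have h2 : s' (g * h) = X.j (d g + σ g (d h)) * (s g * s h) := by
      rw [map_mul s', hd g, hd h, mul_assoc, ← mul_assoc (s g), X.conj, hs g, X.j_add]
      simp only [mul_assoc]
    exact mul_right_cancel (h1.symm.trans h2)
  set n : F := (Nat.card H : F) with hn
  refine ⟨n⁻¹ • ∑ k, d k, fun g => ?_⟩
  set v : V := n⁻¹ • ∑ k, d k with hv
  have h1 : v = d g + σ g v := by
    have h2 : ∑ k, d (g * k) = ∑ k, (d g + σ g (d k)) := Finset.sum_congr rfl fun k _ => hc g k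
    have h3 : ∑ k, d (g * k) = ∑ k, d k := Fintype.sum_equiv (Equiv.mulLeft g) _ _ fun k => rfl
    rw [h3, Finset.sum_add_distrib, Finset.sum_const, Finset.card_univ, ← Nat.card_eq_fintype_card,
      ← map_sum, ← Nat.cast_smul_eq_nsmul F] at h2
    rw [hv, map_smul, h2, smul_add, smul_smul, inv_mul_cancel₀ hF, one_smul, ← h2]
  have h2 : X.j v * s g * (X.j v)⁻¹ = X.j (v - σ g v) * s g := by
    rw [← X.j_neg, mul_assoc, X.conj, hs g, sub_eq_add_neg, X.j_add, map_neg, mul_assoc]
  rw [h2, hd g]
  congr 2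
  rw [eq_sub_iff_add_eq]
  exact h1.symm

/-- Conjugation of a section by a vector. -/
def cj {H : Subgroup G} (s : H →* E) (v : V) : H →* E := (MulAut.conj (X.j v)).toMonoidHom.comp s

theorem cj_apply {H : Subgroup G} (s : H →* E) (v : V) (h : H) : X.cj s v h = X.j v * s h * (X.j v)⁻¹ := rfl

theorem cj_sec {H : Subgroup G} {s : H →* E} (hs : X.IsSec s) (v : V) : X.IsSec (X.cj s v) := by
  intro h
  rw [cj_apply, map_mul, map_mul, map_inv, X.π_j, hs h, one_mul, inv_one, mul_one]

/-- The conjugate of an element by a vector. -/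
theorem conj_elt (x : E) (v : V) : X.j v * x * (X.j v)⁻¹ = X.j (v - σ (X.π x) v) * x := by
  rw [← X.j_neg, mul_assoc, X.conj, sub_eq_add_neg, X.j_add, map_neg, mul_assoc]

/-- Two sections agreeing on a subgroup: the conjugating vector is fixed. -/
theorem fixed_of_agree {x : E} {v : V} (h : X.j v * x * (X.j v)⁻¹ = x) : σ (X.π x) v = v := by
  rw [conj_elt] at h
  have h1 : X.j (v - σ (X.π x) v) = X.j 0 := by
    rw [X.j_zero]; exact mul_eq_right.1 h
  have h2 := X.j_inj h1
  rw [sub_eq_zero] at h2
  exact h2.symm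

end Ext

end Cfsg.Agent.H863.SExt
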