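import Mathlib

/-!
# Subgroups of order `2^a 3^b` (helper863, for S5590)
-/

set_option autoImplicit false
set_option linter.unusedSectionVars false

namespace Cfsg.Agent.H863.STT

variable {G : Type*} [Group G]

theorem card_sup_dvd [Finite G] {H N : Subgroup G} (h : H ≤ Subgroup.normalizer (N : Set G)) :
    Nat.card (H ⊔ N : Subgroup G) ∣ Nat.card N * Nat.card H := by
  let n1 := Subgroup.normal_subgroupOf_of_le_normalizer h
  let n2 := Subgroup.normal_subgroupOf_sup_of_le_normalizer h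
  have e := Nat.card_congr (QuotientGroup.quotientInfEquivProdNormalizerQuotient H N h).toEquiv
  have h1 := Subgroup.card_mul_index (N.subgroupOf (H ⊔ N))
  have h2 : Nat.card (N.subgroupOf (H ⊔ N)) = Nat.card N :=
    Nat.card_congr (Subgroup.subgroupOfEquivOfLe le_sup_right).toEquiv
  rw [← h1, h2]
  apply Nat.mul_dvd_mul_left
  show Nat.card _ ∣ _
  rw [← e]
  exact (N.subgroupOf H).index_dvd_card

/-- `x` normalises `H`. -/
def Nz (H : Subgroup G) (x : G) : Prop := x ∈ Subgroup.normalizer (H : Set G)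

theorem nz_of {H : Subgroup G} [Finite G] {x : G} (h : ∀ y ∈ H, x * y * x⁻¹ ∈ H) : Nz H x := by
  have hle : H.map (MulAut.conj x).toMonoidHom ≤ H := by
    rintro _ ⟨y, hy, rfl⟩
    exact h y hy
  have heq : H.map (MulAut.conj x).toMonoidHom = H := by
    apply Subgroup.eq_of_le_of_card_ge hle
    exact le_of_eq (Nat.card_congr
      (Subgroup.equivMapOfInjective H (MulAut.conj x).toMonoidHom (MulAut.conj x).injective).toEquiv)
  exact Subgroup.mem_normalizer_iff_map_conj_eq.2 heq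

theorem Nz.conj {H : Subgroup G} {x y : G} (h : Nz H x) (hy : y ∈ H) : x * y * x⁻¹ ∈ H :=
  (Subgroup.mem_normalizer_iff.1 h y).1 hy

theorem nz_sup {H K : Subgroup G} {x : G} (h : Nz H x) (k : Nz K x) : Nz (H ⊔ K) x := by
  have h1 : H.map (MulAut.conj x).toMonoidHom = H := Subgroup.mem_normalizer_iff_map_conj_eq.1 h
  have h2 : K.map (MulAut.conj x).toMonoidHom = K := Subgroup.mem_normalizer_iff_map_conj_eq.1 k
  apply Subgroup.mem_normalizer_iff_map_conj_eq.2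
  show (H ⊔ K).map (MulAut.conj x).toMonoidHom = H ⊔ K
  rw [Subgroup.map_sup, h1, h2]

theorem nz_of_mem {H : Subgroup G} {x : G} (h : x ∈ H) : Nz H x := Subgroup.le_normalizer h

/-- `{2,3}`-groups. -/
def TT (H : Subgroup G) : Prop := ∃ m n, Nat.card H ∣ 2 ^ m * 3 ^ n

theorem tt_bot : TT (⊥ : Subgroup G) := ⟨0, 0, by rw [Subgroup.card_bot]; exact one_dvd _⟩

theorem tt_of_isPGroup [Finite G] {H : Subgroup G} (h : IsPGroup 2 H) : TT H := by
  obtain ⟨n, hn⟩ := IsPGroup.iff_card.1 h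
  exact ⟨n, 0, by rw [hn, pow_zero, mul_one]⟩

theorem tt_sup [Finite G] {H K : Subgroup G} (hH : TT H) (hK : TT K) (h : H ≤ Subgroup.normalizer (K : Set G)) :
    TT (H ⊔ K) := by
  obtain ⟨m, n, h1⟩ := hH
  obtain ⟨m', n', h2⟩ := hK
  refine ⟨m' + m, n' + n, (card_sup_dvd h).trans ?_⟩
  have := Nat.mul_dvd_mul h2 h1
  rw [pow_add, pow_add]
  have e : 2 ^ m' * 2 ^ m * (3 ^ n' * 3 ^ n) = 2 ^ m' * 3 ^ n' * (2 ^ m * 3 ^ n) := by ring
  rw [e]
  exact this

theorem tt_zpowers {x : G} {k : ℕ} (hk : k = 2 ∨ k = 3) (h : x ^ k = 1) : TT (Subgroup.zpowers x) := by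
  have h1 : Nat.card (Subgroup.zpowers x) ∣ k := by
    rw [Nat.card_zpowers]; exact orderOf_dvd_of_pow_eq_one h
  rcases hk with rfl | rfl
  · exact ⟨1, 0, by simpa using h1⟩
  · exact ⟨0, 1, by simpa using h1⟩

/-- Adjoining an element of order dividing two or three. -/
theorem tt_adj [Finite G] {H : Subgroup G} (hH : TT H) {x : G} {k : ℕ} (hk : k = 2 ∨ k = 3) (h : x ^ k = 1)
    (hx : Nz H x) : TT (H ⊔ Subgroup.zpowers x) := by
  rw [sup_comm]
  exact tt_sup (tt_zpowers hk h) hH (by rw [Subgroup.zpowers_le]; exact hx)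

theorem TT.mono [Finite G] {H K : Subgroup G} (hK : TT K) (h : H ≤ K) : TT H := by
  obtain ⟨m, n, h1⟩ := hK
  exact ⟨m, n, (Subgroup.card_dvd_of_le h).trans h1⟩

theorem TT.ne_zero {F : Type*} [Field F] (h2 : (2 : F) ≠ 0) (h3 : (3 : F) ≠ 0) {H : Subgroup G} (h : TT H) :
    (Nat.card H : F) ≠ 0 := by
  obtain ⟨m, n, k, hk⟩ := h
  intro h0
  have h4 : ((2 ^ m * 3 ^ n : ℕ) : F) = 0 := by rw [hk, Nat.cast_mul, h0, zero_mul]
  push_cast at h4
  rcases mul_eq_zero.1 h4 with h5 | h5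
  · exact pow_ne_zero _ h2 h5
  · exact pow_ne_zero _ h3 h5

/-! ### The big groups -/

/-- The conjugates of `z` under `H` stay in `A`. -/
theorem orbit {S A : Set G} {z : G} (hz : z ∈ A) (h : ∀ s ∈ S, ∀ a ∈ A, s * a * s⁻¹ ∈ A)
    (h' : ∀ s ∈ S, ∀ a ∈ A, s⁻¹ * a * s ∈ A) : ∀ x ∈ Subgroup.closure S, x * z * x⁻¹ ∈ A := by
  have key : ∀ x ∈ Subgroup.closure S, ∀ a ∈ A, x * a * x⁻¹ ∈ A ∧ x⁻¹ * a * x ∈ A := by
    intro x hx
    induction hx using Subgroup.closure_induction with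
    | mem s hs => exact fun a ha => ⟨h s hs a ha, h' s hs a ha⟩
    | one => intro a ha; simpa using ha
    | mul x y _ _ ihx ihy =>
      intro a ha
      constructor
      · have := (ihx _ (ihy a ha).1).1
        simpa only [mul_inv_rev, mul_assoc] using this
      · have := (ihy _ (ihx a ha).2).2
        simpa only [mul_inv_rev, mul_assoc] using this
    | inv x _ ih =>
      intro a ha
      rw [inv_inv]
      exact ⟨(ih a ha).2, (ih a ha).1⟩
  exact fun x hx => (key x hx z hz).1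

/-- The abstract data: `Q` is a 2-group, normalised by the centraliser of `z`. -/
structure QD (G : Type*) [Group G] where
  Q : Subgroup G
  z : G
  p : IsPGroup 2 Q
  nrm : ∀ g, g * z = z * g → ∀ q ∈ Q, g * q * g⁻¹ ∈ Q

namespace QD

variable (D : QD G) [Finite G]

/-- The centraliser of the conjugates of `z` under `H`. -/
def K (H : Subgroup G) : Subgroup G where
  carrier := {g | ∀ h ∈ H, g * (h * D.z * h⁻¹) = (h * D.z * h⁻¹) * g}
  one_mem' h _ := by rw [one_mul, mul_one]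
  mul_mem' {a b} ha hb h hh := by
    rw [mul_assoc, hb h hh, ← mul_assoc, ha h hh, mul_assoc]
  inv_mem' {a} ha h hh := by
    have := ha h hh
    rw [inv_mul_eq_iff_eq_mul, ← mul_assoc, this, mul_inv_cancel_right]

theorem mem_K {H : Subgroup G} {g : G} : g ∈ D.K H ↔ ∀ h ∈ H, g * (h * D.z * h⁻¹) = (h * D.z * h⁻¹) * g := Iff.rfl

theorem conj_K {H : Subgroup G} {x : G} (hx : x ∈ H) {g : G} (hg : g ∈ D.K H) : x * g * x⁻¹ ∈ D.K H := by
  intro h hh
  have h1 := hg (x⁻¹ * h) (H.mul_mem (H.inv_mem hx) hh)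
  calc x * g * x⁻¹ * (h * D.z * h⁻¹) = x * (g * (x⁻¹ * h * D.z * (x⁻¹ * h)⁻¹)) * x⁻¹ := by group
    _ = x * ((x⁻¹ * h * D.z * (x⁻¹ * h)⁻¹) * g) * x⁻¹ := by rw [h1]
    _ = h * D.z * h⁻¹ * (x * g * x⁻¹) := by group

/-- The conjugate of `Q ∩ K` by `h`. -/
def N (H : Subgroup G) (h : G) : Subgroup G := D.Q.map (MulAut.conj h).toMonoidHom ⊓ D.K H

theorem mem_N {H : Subgroup G} {h g : G} : g ∈ D.N H h ↔ h⁻¹ * g * h ∈ D.Q ∧ g ∈ D.K H := by
  constructor
  · rintro ⟨⟨q, hq, rfl⟩, hk⟩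
    refine ⟨?_, hk⟩
    show h⁻¹ * (h * q * h⁻¹) * h ∈ D.Q
    have e : h⁻¹ * (h * q * h⁻¹) * h = q := by group
    rw [e]
    exact hq
  · rintro ⟨h1, h2⟩
    refine ⟨⟨_, h1, ?_⟩, h2⟩
    show h * (h⁻¹ * g * h) * h⁻¹ = g
    group

theorem N_p (H : Subgroup G) (h : G) : IsPGroup 2 (D.N H h) :=
  (D.p.map (MulAut.conj h).toMonoidHom).to_le inf_le_left

theorem N_conj {H : Subgroup G} {h g k : G} (hh : h ∈ H) (hk : k ∈ D.K H) (hg : g ∈ D.N H h) :
    k * g * k⁻¹ ∈ D.N H h := by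
  rw [mem_N] at hg ⊢
  refine ⟨?_, (D.K H).mul_mem ((D.K H).mul_mem hk hg.2) ((D.K H).inv_mem hk)⟩
  have h1 : (h⁻¹ * k * h) * D.z = D.z * (h⁻¹ * k * h) := by
    have := hk h hh
    calc (h⁻¹ * k * h) * D.z = h⁻¹ * (k * (h * D.z * h⁻¹)) * h := by group
      _ = h⁻¹ * ((h * D.z * h⁻¹) * k) * h := by rw [this]
      _ = _ := by group
  have h2 := D.nrm _ h1 _ hg.1
  convert h2 using 1
  group

theorem N_norm {H : Subgroup G} {h : G} (hh : h ∈ H) : ((D.N H h).subgroupOf (D.K H)).Normal := by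
  refine ⟨fun n hn g => ?_⟩
  rw [Subgroup.mem_subgroupOf] at hn ⊢
  exact D.N_conj hh g.2 hn

/-- The product of the conjugates. -/
def M (H : Subgroup G) : Subgroup G := ⨆ h : H, D.N H h

theorem M_p (H : Subgroup G) : IsPGroup 2 (D.M H) := by
  have hK : ∀ h : H, D.N H h ≤ D.K H := fun h => inf_le_right
  have hn : ∀ h : H, ((D.N H h).subgroupOf (D.K H)).Normal := fun h => D.N_norm h.2
  have h1 : IsPGroup 2 (⨆ h : H, (D.N H h).subgroupOf (D.K H) : Subgroup (D.K H)) := by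
    apply Sylow.iSup_of_normal
    intro h
    exact (D.N_p H h).of_equiv (Subgroup.subgroupOfEquivOfLe (hK h)).symm
  have h2 := h1.map (D.K H).subtype
  rw [Subgroup.map_iSup] at h2
  have h3 : (⨆ h : H, ((D.N H h).subgroupOf (D.K H)).map (D.K H).subtype) = D.M H := by
    unfold M
    congr 1
    funext h
    rw [Subgroup.subgroupOf_map_subtype, inf_eq_left.2 (hK h)]
  rw [h3] at h2
  exact h2

theorem N_map {H : Subgroup G} {x : G} (hx : x ∈ H) (h : H) :
    (D.N H h).map (MulAut.conj x).toMonoidHom ≤ D.N H (⟨x, hx⟩ * h : H) := by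
  rintro _ ⟨g, hg, rfl⟩
  have hg' : g ∈ D.N H h := hg
  show x * g * x⁻¹ ∈ D.N H (x * h)
  rw [mem_N] at hg' ⊢
  refine ⟨?_, D.conj_K hx hg'.2⟩
  convert hg'.1 using 1
  group

theorem M_nz {H : Subgroup G} {x : G} (hx : x ∈ H) : Nz (D.M H) x := by
  apply nz_of
  intro y hy
  have h1 : (D.M H).map (MulAut.conj x).toMonoidHom ≤ D.M H := by
    unfold M
    rw [Subgroup.map_iSup]
    apply iSup_le
    intro h
    exact (D.N_map hx h).trans (le_iSup (fun h : H => D.N H h) _)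
  exact h1 ⟨y, hy, rfl⟩

/-- **The big `{2,3}`-group.** -/
theorem big {H : Subgroup G} (hH : TT H) : ∃ S : Subgroup G, TT S ∧ H ≤ S ∧
    ∀ q ∈ D.Q, (∀ h ∈ H, q * (h * D.z * h⁻¹) = (h * D.z * h⁻¹) * q) → q ∈ S := by
  refine ⟨H ⊔ D.M H, tt_sup hH (tt_of_isPGroup (D.M_p H)) (fun x hx => D.M_nz hx), le_sup_left, ?_⟩
  intro q hq hk
  have h1 : q ∈ D.N H (1 : H) := by
    rw [mem_N]
    refine ⟨?_, hk⟩
    simpa using hq
  exact (le_iSup (fun h : H => D.N H h) (1 : H)).trans le_sup_right h1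

end QD

end Cfsg.Agent.H863.STT
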