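import Mathlib
import Cfsg.Agent.H863.SExt
import Cfsg.Agent.H863.STT

/-!
# Lifting commuting involutions (helper863, for S5590)
-/

set_option autoImplicit false
set_option linter.unusedSectionVars false

namespace Cfsg.Agent.H863.SLift

open Cfsg.Agent.H863.SExt Cfsg.Agent.H863.STT

variable {F V G : Type*} [Field F] [AddCommGroup V] [Module F V] [Group G] [Finite G]
  {σ : G →* Module.End F V} {E : Type*} [Group E] (X : Ext σ E) (D : QD G)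

/-- `1 - g` -/
def Δ (σ : G →* Module.End F V) (g : G) (v : V) : V := v - σ g v

/-- Fixed by `Q`. -/
def InU (σ : G →* Module.End F V) (D : QD G) (v : V) : Prop := ∀ q ∈ D.Q, σ q v = v

theorem InU.add {u v : V} (hu : InU σ D u) (hv : InU σ D v) : InU σ D (u + v) := by
  intro q hq; rw [map_add, hu q hq, hv q hq]

theorem InU.sub {u v : V} (hu : InU σ D u) (hv : InU σ D v) : InU σ D (u - v) := by
  intro q hq; rw [map_sub, hu q hq, hv q hq]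

theorem InU.smul {u : V} (c : F) (hu : InU σ D u) : InU σ D (c • u) := by
  intro q hq; rw [map_smul, hu q hq]

/-- A good lift. -/
def Good (sQ : D.Q →* E) (a : G) (x : E) : Prop :=
  ∃ H : Subgroup G, TT H ∧ ∃ (ha : a ∈ H) (hQ : D.Q ≤ H) (s : H →* E), X.IsSec s ∧
    (∀ q : D.Q, s ⟨q, hQ q.2⟩ = sQ q) ∧ s ⟨a, ha⟩ = x

variable {X D} {sQ : D.Q →* E}

theorem Good.π {a : G} {x : E} (h : Good X D sQ a x) : X.π x = a := by
  obtain ⟨H, -, ha, hQ, s, hs, -, rfl⟩ := h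
  exact hs _

theorem Good.conj {a : G} {x : E} (h : Good X D sQ a x) (hQs : X.IsSec sQ) {u : V} (hu : InU σ D u) :
    Good X D sQ a (X.j u * x * (X.j u)⁻¹) := by
  obtain ⟨H, hH, ha, hQ, s, hs, h1, rfl⟩ := h
  refine ⟨H, hH, ha, hQ, X.cj s u, X.cj_sec hs u, ?_, rfl⟩
  intro q
  rw [X.cj_apply, h1, X.conj_elt, hQs q, hu q q.2, sub_self, X.j_zero, one_mul]

theorem good_exists (h2 : (2 : F) ≠ 0) (h3 : (3 : F) ≠ 0) (hQs : X.IsSec sQ) {H : Subgroup G} (hH : TT H)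
    {a : G} (ha : a ∈ H) (hQ : D.Q ≤ H) : ∃ x, Good X D sQ a x := by
  obtain ⟨s, hs⟩ := X.exists_sec H (hH.ne_zero h2 h3)
  let s₁ : D.Q →* E := s.comp (Subgroup.inclusion hQ)
  have hs₁ : X.IsSec s₁ := fun q => hs _
  obtain ⟨v, hv⟩ := X.conj_sec ((hH.mono hQ).ne_zero h2 h3) hs₁ hQs
  refine ⟨_, H, hH, ha, hQ, X.cj s v, X.cj_sec hs v, ?_, rfl⟩
  intro q
  rw [X.cj_apply, hv]
  rfl

theorem Good.rel {a : G} {x : E} (h : Good X D sQ a x) (q : D.Q) (m : ℕ) (hr : ((q : G) * a) ^ m = 1) :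
    (sQ q * x) ^ m = 1 := by
  obtain ⟨H, -, ha, hQ, s, -, h1, rfl⟩ := h
  rw [← h1, ← map_mul, ← map_pow]
  have : ((⟨q, hQ q.2⟩ : H) * ⟨a, ha⟩) ^ m = 1 := Subtype.ext hr
  rw [this, map_one]

theorem Good.sq {a : G} {x : E} (h : Good X D sQ a x) (hr : a * a = 1) : x * x = 1 := by
  obtain ⟨H, -, ha, hQ, s, -, h1, rfl⟩ := h
  rw [← map_mul]
  have : (⟨a, ha⟩ : H) * ⟨a, ha⟩ = 1 := Subtype.ext hr
  rw [this, map_one]

/-- The pair condition. -/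
def Pair (σ : G →* Module.End F V) (D : QD G) (a b : G) : Prop :=
  ∃ S : Subgroup G, TT S ∧ a ∈ S ∧ b ∈ S ∧ ∀ v, (∀ q ∈ D.Q, q ∈ S → σ q v = v) → InU σ D v

theorem comm_iff (x y : E) (u : V) :
    x * (X.j u * y * (X.j u)⁻¹) = (X.j u * y * (X.j u)⁻¹) * x ↔
      x * y = X.j (Δ σ (X.π x) (Δ σ (X.π y) u)) * (y * x) := by
  set w := Δ σ (X.π y) u with hw
  have h1 : X.j u * y * (X.j u)⁻¹ = X.j w * y := X.conj_elt y u
  rw [h1]
  have h2 : x * (X.j w * y) = X.j (σ (X.π x) w) * (x * y) := by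
    rw [← mul_assoc, X.conj, mul_assoc]
  rw [h2]
  have h3 : X.j (Δ σ (X.π x) w) = (X.j (σ (X.π x) w))⁻¹ * X.j w := by
    rw [← X.j_neg, ← X.j_add]
    congr 1
    unfold Δ
    abel
  have h4 : (X.j (σ (X.π x) w))⁻¹ * X.j w * (y * x) = (X.j (σ (X.π x) w))⁻¹ * (X.j w * y * x) := by
    simp only [mul_assoc]
  rw [h3, h4, eq_inv_mul_iff_mul_eq]

theorem pair (h2 : (2 : F) ≠ 0) (h3 : (3 : F) ≠ 0) (hQs : X.IsSec sQ) {a b : G} {x y : E}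
    (hx : Good X D sQ a x) (hy : Good X D sQ b y) (hab : a * b = b * a) (hP : Pair σ D a b) :
    ∃ u, InU σ D u ∧ x * (X.j u * y * (X.j u)⁻¹) = (X.j u * y * (X.j u)⁻¹) * x := by
  obtain ⟨S, hS, haS, hbS, hfix⟩ := hP
  obtain ⟨s, hs⟩ := X.exists_sec S (hS.ne_zero h2 h3)
  let R : Subgroup G := D.Q ⊓ S
  have hRS : R ≤ S := inf_le_right
  have hRQ : R ≤ D.Q := inf_le_left
  -- adjust the section on `R`
  have hs₁ : X.IsSec (s.comp (Subgroup.inclusion hRS)) := fun q => hs _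
  have hs₂ : X.IsSec (sQ.comp (Subgroup.inclusion hRQ)) := fun q => hQs _
  obtain ⟨v, hv⟩ := X.conj_sec ((hS.mono hRS).ne_zero h2 h3) hs₁ hs₂
  have hs' := X.cj_sec hs v
  have key : ∀ (c : G) (w : E), c ∈ S → Good X D sQ c w → ∀ hc : c ∈ S, ∃ r, InU σ D r ∧
      X.cj s v ⟨c, hc⟩ = X.j r * w * (X.j r)⁻¹ := by
    rintro c w - ⟨H, hH, hcH, hQH, t, ht, h1, rfl⟩ hc
    let T : Subgroup G := S ⊓ H
    have hTS : T ≤ S := inf_le_left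
    have hTH : T ≤ H := inf_le_right
    have k1 : X.IsSec (t.comp (Subgroup.inclusion hTH)) := fun q => ht _
    have k2 : X.IsSec ((X.cj s v).comp (Subgroup.inclusion hTS)) := fun q => hs' _
    obtain ⟨r, hr⟩ := X.conj_sec ((hS.mono hTS).ne_zero h2 h3) k1 k2
    refine ⟨r, ?_, hr ⟨c, ⟨hc, hcH⟩⟩⟩
    apply hfix
    intro q hq hqS
    have h4 := hr ⟨q, ⟨hqS, hQH hq⟩⟩
    have h5 : t ⟨q, hQH hq⟩ = sQ ⟨q, hq⟩ := h1 ⟨q, hq⟩
    have h6 : X.cj s v ⟨q, hqS⟩ = sQ ⟨q, hq⟩ := (hv ⟨q, ⟨hq, hqS⟩⟩).symm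
    have h7 : X.j r * t ⟨q, hQH hq⟩ * (X.j r)⁻¹ = t ⟨q, hQH hq⟩ := by
      have h8 : X.cj s v ⟨q, hqS⟩ = X.j r * t ⟨q, hQH hq⟩ * (X.j r)⁻¹ := h4
      exact h8.symm.trans (h6.trans h5.symm)
    have h8 := X.fixed_of_agree h7
    have h9 : X.π (t ⟨q, hQH hq⟩) = q := ht _
    rw [h9] at h8
    exact h8
  obtain ⟨r, hr, h4⟩ := key a x haS hx haS
  obtain ⟨r', hr', h5⟩ := key b y hbS hy hbS
  refine ⟨r' - r, hr'.sub D hr, ?_⟩
  have h6 : X.cj s v ⟨a, haS⟩ * X.cj s v ⟨b, hbS⟩ = X.cj s v ⟨b, hbS⟩ * X.cj s v ⟨a, haS⟩ := by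
    rw [← map_mul, ← map_mul]
    congr 1
    exact Subtype.ext hab
  rw [h4, h5] at h6
  have h7 : X.j (r' - r) = (X.j r)⁻¹ * X.j r' := by
    rw [← X.j_neg, ← X.j_add]; congr 1; abel
  rw [h7]
  have h8 := congrArg (fun g => (X.j r)⁻¹ * g * X.j r) h6
  simp only [mul_assoc, inv_mul_cancel_left, inv_mul_cancel, mul_one] at h8
  simp only [mul_assoc, mul_inv_rev, inv_inv]
  exact h8

/-- Invariance of the obstruction. -/
theorem obs_fixed {x y w : E} {v : V} (h : x * y = X.j v * (y * x)) (hx : w * x = x * w) (hy : w * y = y * w) :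
    Δ σ (X.π w) v = 0 := by
  have h1 : w * (x * y) = (x * y) * w := by rw [← mul_assoc, hx, mul_assoc, hy, mul_assoc]
  have h2 : w * (y * x) = (y * x) * w := by rw [← mul_assoc, hy, mul_assoc, hx, mul_assoc]
  have h3 : w * (X.j v * (y * x)) = X.j (σ (X.π w) v) * (y * x) * w := by
    rw [← mul_assoc, X.conj, mul_assoc, h2, ← mul_assoc]
  rw [← h, h1, h] at h3
  have h4 : X.j v = X.j (σ (X.π w) v) := mul_right_cancel (mul_right_cancel h3)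
  unfold Δ
  rw [← X.j_inj h4, sub_self]

variable (σ D)

/-- The kernel condition. -/
def Kc (t5 : G) (I : V) (a b : G) : Prop :=
  ∀ u, InU σ D u → Δ σ t5 (Δ σ a (Δ σ b u)) = 0 → ∃ c : F, Δ σ a (Δ σ b u) = Δ σ a (Δ σ b (c • I))

variable {σ D}

/-- Adjusting by a multiple of `I`. -/
theorem adj (h2 : (2 : F) ≠ 0) (h3 : (3 : F) ≠ 0) (hQs : X.IsSec sQ) {t5 a b : G} {I : V} (hI : InU σ D I)
    (hI5 : σ t5 I = I) {x5 x y : E} (h5 : Good X D sQ t5 x5) (hx : Good X D sQ a x) (hy : Good X D sQ b y)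
    (hab : a * b = b * a) (hP : Pair σ D a b) (hK : Kc σ D t5 I a b) (h5x : x5 * x = x * x5)
    (h5y : x5 * y = y * x5) :
    ∃ c : F, let y' := X.j (c • I) * y * (X.j (c • I))⁻¹
      Good X D sQ b y' ∧ x5 * y' = y' * x5 ∧ x * y' = y' * x := by
  obtain ⟨u, hu, hc⟩ := pair h2 h3 hQs hx hy hab hP
  rw [comm_iff, hx.π, hy.π] at hc
  have h6 := obs_fixed hc h5x h5y
  rw [h5.π] at h6
  obtain ⟨c, hc'⟩ := hK u hu h6
  refine ⟨c, hy.conj hQs (hI.smul D c), ?_, ?_⟩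
  · have h7 : x5 * X.j (c • I) = X.j (c • I) * x5 := by
      rw [X.conj, h5.π, map_smul, hI5]
    have h8 : x5 * (X.j (c • I))⁻¹ = (X.j (c • I))⁻¹ * x5 := by
      rw [eq_inv_mul_iff_mul_eq, ← mul_assoc, ← h7, mul_inv_cancel_right]
    calc x5 * (X.j (c • I) * y * (X.j (c • I))⁻¹) = x5 * X.j (c • I) * y * (X.j (c • I))⁻¹ := by
          simp only [mul_assoc]
      _ = X.j (c • I) * (x5 * y) * (X.j (c • I))⁻¹ := by rw [h7]; simp only [mul_assoc]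
      _ = X.j (c • I) * y * (x5 * (X.j (c • I))⁻¹) := by rw [h5y]; simp only [mul_assoc]
      _ = _ := by rw [h8]; simp only [mul_assoc]
  · rw [comm_iff, hx.π, hy.π, hc, hc']

/-- Commutation when a third involution kills the obstruction. -/
theorem third (h2 : (2 : F) ≠ 0) (h3 : (3 : F) ≠ 0) (hQs : X.IsSec sQ) {t5 t1 a b : G} {I : V}
    {x5 x1 x y : E} (h5 : Good X D sQ t5 x5) (h1 : Good X D sQ t1 x1) (hx : Good X D sQ a x)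
    (hy : Good X D sQ b y) (hab : a * b = b * a) (hP : Pair σ D a b) (hK : Kc σ D t5 I a b)
    (h5x : x5 * x = x * x5) (h5y : x5 * y = y * x5) (h1x : x1 * x = x * x1) (h1y : x1 * y = y * x1)
    (hN : Δ σ t1 (Δ σ a (Δ σ b I)) ≠ 0) : x * y = y * x := by
  obtain ⟨u, hu, hc⟩ := pair h2 h3 hQs hx hy hab hP
  rw [comm_iff, hx.π, hy.π] at hc
  have h6 := obs_fixed hc h5x h5y
  rw [h5.π] at h6
  obtain ⟨c, hc'⟩ := hK u hu h6
  have h7 := obs_fixed hc h1x h1y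
  rw [h1.π, hc'] at h7
  have h8 : ∀ (g : G) (v : V), Δ σ g (c • v) = c • Δ σ g v := fun g v => by
    unfold Δ; rw [map_smul, smul_sub]
  rw [h8, h8, h8] at h7
  have h9 : c = 0 := by
    rcases smul_eq_zero.1 h7 with h | h
    · exact h
    · exact absurd h hN
  rw [hc', h9, zero_smul] at hc
  have h10 : ∀ g : G, Δ σ g (0 : V) = 0 := fun g => by unfold Δ; rw [map_zero, sub_zero]
  rw [h10, h10, X.j_zero, one_mul] at hc
  exact hc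

/-- **The lifts of the five even generators.** -/
theorem five (h2 : (2 : F) ≠ 0) (h3 : (3 : F) ≠ 0) (hQs : X.IsSec sQ) {t1 t3 t5 t7 t10 : G} {I : V}
    (hI : InU σ D I) (hI5 : σ t5 I = I)
    (g : ∀ a ∈ ({t1, t3, t5, t7, t10} : Set G), ∃ x, Good X D sQ a x)
    (c53 : t5 * t3 = t3 * t5) (c51 : t5 * t1 = t1 * t5) (c57 : t5 * t7 = t7 * t5) (c510 : t5 * t10 = t10 * t5)
    (c13 : t1 * t3 = t3 * t1) (c17 : t1 * t7 = t7 * t1) (c110 : t1 * t10 = t10 * t1)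
    (c37 : t3 * t7 = t7 * t3) (c310 : t3 * t10 = t10 * t3) (c710 : t7 * t10 = t10 * t7)
    (p53 : Pair σ D t5 t3) (p51 : Pair σ D t5 t1) (p57 : Pair σ D t5 t7) (p510 : Pair σ D t5 t10)
    (p13 : Pair σ D t1 t3) (p17 : Pair σ D t1 t7) (p110 : Pair σ D t1 t10)
    (p37 : Pair σ D t3 t7) (p310 : Pair σ D t3 t10) (p710 : Pair σ D t7 t10)
    (k13 : Kc σ D t5 I t1 t3) (k17 : Kc σ D t5 I t1 t7) (k110 : Kc σ D t5 I t1 t10)
    (k37 : Kc σ D t5 I t3 t7) (k310 : Kc σ D t5 I t3 t10) (k710 : Kc σ D t5 I t7 t10)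
    (n37 : Δ σ t1 (Δ σ t3 (Δ σ t7 I)) ≠ 0) (n310 : Δ σ t1 (Δ σ t3 (Δ σ t10 I)) ≠ 0)
    (n710 : Δ σ t1 (Δ σ t7 (Δ σ t10 I)) ≠ 0) :
    ∃ x1 x3 x5 x7 x10 : E, Good X D sQ t1 x1 ∧ Good X D sQ t3 x3 ∧ Good X D sQ t5 x5 ∧ Good X D sQ t7 x7 ∧
      Good X D sQ t10 x10 ∧ x1 * x3 = x3 * x1 ∧ x1 * x5 = x5 * x1 ∧ x1 * x7 = x7 * x1 ∧ x1 * x10 = x10 * x1 ∧
      x3 * x5 = x5 * x3 ∧ x3 * x7 = x7 * x3 ∧ x3 * x10 = x10 * x3 ∧ x5 * x7 = x7 * x5 ∧ x5 * x10 = x10 * x5 ∧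
      x7 * x10 = x10 * x7 := by
  obtain ⟨x5, g5⟩ := g t5 (by simp)
  obtain ⟨y1, g1⟩ := g t1 (by simp)
  obtain ⟨y3, g3⟩ := g t3 (by simp)
  obtain ⟨y7, g7⟩ := g t7 (by simp)
  obtain ⟨y10, g10⟩ := g t10 (by simp)
  obtain ⟨u1, hu1, e1⟩ := pair h2 h3 hQs g5 g1 c51 p51
  obtain ⟨u3, hu3, e3⟩ := pair h2 h3 hQs g5 g3 c53 p53
  obtain ⟨u7, hu7, e7⟩ := pair h2 h3 hQs g5 g7 c57 p57
  obtain ⟨u10, hu10, e10⟩ := pair h2 h3 hQs g5 g10 c510 p510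
  have G1 := g1.conj hQs hu1
  have G3 := g3.conj hQs hu3
  have G7 := g7.conj hQs hu7
  have G10 := g10.conj hQs hu10
  set x1 := X.j u1 * y1 * (X.j u1)⁻¹
  set z3 := X.j u3 * y3 * (X.j u3)⁻¹
  set z7 := X.j u7 * y7 * (X.j u7)⁻¹
  set z10 := X.j u10 * y10 * (X.j u10)⁻¹
  obtain ⟨a3, H3, f3, m3⟩ := adj h2 h3 hQs hI hI5 g5 G1 G3 c13 p13 k13 e1 e3
  obtain ⟨a7, H7, f7, m7⟩ := adj h2 h3 hQs hI hI5 g5 G1 G7 c17 p17 k17 e1 e7
  obtain ⟨a10, H10, f10, m10⟩ := adj h2 h3 hQs hI hI5 g5 G1 G10 c110 p110 k110 e1 e10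
  exact ⟨x1, _, x5, _, _, G1, H3, g5, H7, H10, m3, e1.symm, m7, m10, f3.symm,
    third h2 h3 hQs g5 G1 H3 H7 c37 p37 k37 f3 f7 m3 m7 n37,
    third h2 h3 hQs g5 G1 H3 H10 c310 p310 k310 f3 f10 m3 m10 n310, f7, f10,
    third h2 h3 hQs g5 G1 H7 H10 c710 p710 k710 f7 f10 m7 m10 n710⟩

end Cfsg.Agent.H863.SLift
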