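import Mathlib
import Cfsg.Agent.H863.STT

/-!
# The `{2,3}`-groups generated by involutions and parts of `Q` (helper863, for S5590)
-/

set_option autoImplicit false
set_option linter.unusedSectionVars false

namespace Cfsg.Agent.H863.STT

variable {G : Type*} [Group G] [Finite G]

theorem closure_insert (T : Set G) (x : G) :
    Subgroup.closure (insert x T) = Subgroup.closure T ⊔ Subgroup.zpowers x := by
  rw [Set.insert_eq, Subgroup.closure_union, Subgroup.zpowers_eq_closure, sup_comm]

theorem nz_closure {T : Set G} {x : G} (h : ∀ t ∈ T, x * t * x⁻¹ ∈ Subgroup.closure T) :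
    Nz (Subgroup.closure T) x := by
  apply nz_of
  intro y hy
  have h1 : (Subgroup.closure T).map (MulAut.conj x).toMonoidHom ≤ Subgroup.closure T := by
    rw [MonoidHom.map_closure, Subgroup.closure_le]
    rintro _ ⟨t, ht, rfl⟩
    exact h t ht
  exact h1 ⟨y, hy, rfl⟩

theorem tt_ins {T : Set G} (hT : TT (Subgroup.closure T)) {x : G} {k : ℕ} (hk : k = 2 ∨ k = 3)
    (hx : x ^ k = 1) (hn : ∀ t ∈ T, x * t * x⁻¹ ∈ Subgroup.closure T) : TT (Subgroup.closure (insert x T)) := by
  rw [closure_insert]
  exact tt_adj hT hk hx (nz_closure hn)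

theorem tt_one {x : G} {k : ℕ} (hk : k = 2 ∨ k = 3) (hx : x ^ k = 1) : TT (Subgroup.closure {x}) := by
  rw [← Subgroup.zpowers_eq_closure]
  exact tt_zpowers hk hx

theorem inv_of_sq {x : G} (h : x * x = 1) : x⁻¹ = x := inv_eq_of_mul_eq_one_left h

theorem cube_of_braid {x y : G} (hx : x * x = 1) (hy : y * y = 1) (h : x * y * x = y * x * y) :
    (x * y) ^ 3 = 1 := by
  calc (x * y) ^ 3 = (x * y * x) * (y * x * y) := by rw [pow_succ, pow_two]; simp only [mul_assoc]
    _ = (y * x * y) * (y * x * y) := by rw [h]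
    _ = y * x * (y * y) * x * y := by simp only [mul_assoc]
    _ = y * (x * x) * y := by rw [hy]; simp only [mul_assoc, one_mul]
    _ = 1 := by rw [hx, mul_one, hy]

/-- Conjugation of the identities by an involution. -/
theorem cj_mul {a : G} (ha : a * a = 1) (x y : G) : a * (x * y) * a = (a * x * a) * (a * y * a) := by
  have : (a * x * a) * (a * y * a) = a * x * (a * a) * y * a := by simp only [mul_assoc]
  rw [this, ha, mul_one]
  simp only [mul_assoc]

theorem cj_cj {a : G} (ha : a * a = 1) (x : G) : a * (a * x * a) * a = x := by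
  have : a * (a * x * a) * a = (a * a) * x * (a * a) := by simp only [mul_assoc]
  rw [this, ha, one_mul, mul_one]

namespace QD

variable (D : QD G)

/-- The group generated by `Q`, `a`, where `o ∈ Q` is braided with `a`. -/
theorem single {a o : G} (ha : a * a = 1) (ho : o * o = 1) (hoQ : o ∈ D.Q) (hb : a * o * a = o * a * o)
    (hz2 : D.z * D.z = 1) (hQz : ∀ q ∈ D.Q, q * D.z = D.z * q)
    (hz : D.z * (a * D.z * a) = (a * D.z * a) * D.z)
    (hza : ∀ q ∈ D.Q, q * (a * D.z * a) = (a * D.z * a) * q ∨ q * (a * D.z * a) = D.z * (a * D.z * a) * q)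
    (ho' : o * (a * D.z * a) = D.z * (a * D.z * a) * o) :
    ∃ S : Subgroup G, TT S ∧ a ∈ S ∧ D.Q ≤ S := by
  obtain ⟨za, hzad⟩ : ∃ x, x = a * D.z * a := ⟨_, rfl⟩
  rw [← hzad] at hz hza ho'
  let T : Set G := {o, a * o}
  have hTT : TT (Subgroup.closure T) := by
    apply tt_ins (k := 2) (tt_one (k := 3) (Or.inr rfl) (cube_of_braid ha ho hb)) (Or.inl rfl)
    · rw [pow_two, ho]
    · rintro t rfl
      rw [inv_of_sq ho]
      have : o * (a * o) * o = (a * o)⁻¹ := by
        rw [mul_inv_rev, inv_of_sq ho, inv_of_sq ha, mul_assoc, mul_assoc, ho, mul_one]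
      rw [this]
      exact Subgroup.inv_mem _ (Subgroup.subset_closure rfl)
  have hoT : o ∈ Subgroup.closure T := Subgroup.subset_closure (Set.mem_insert _ _)
  have haT : a ∈ Subgroup.closure T := by
    have h1 : a * o ∈ Subgroup.closure T := Subgroup.subset_closure (Set.mem_insert_of_mem _ rfl)
    have h2 := Subgroup.mul_mem _ h1 hoT
    rwa [mul_assoc, ho, mul_one] at h2
  obtain ⟨S, hS, hTS, hq⟩ := D.big hTT
  refine ⟨S, hS, hTS haT, ?_⟩
  let A : Set G := {D.z, za, D.z * za}
  have hoz : o * D.z * o = D.z := by rw [hQz o hoQ, mul_assoc, ho, mul_one]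
  have ho2 : o * za * o = D.z * za := by rw [ho', mul_assoc, ho, mul_one]
  have aza : a * za * a = D.z := by rw [hzad]; exact cj_cj ha _
  have hA : ∀ x ∈ Subgroup.closure ({a, o} : Set G), x * D.z * x⁻¹ ∈ A := by
    have keya : ∀ y ∈ A, a * y * a ∈ A := by
      rintro y (rfl | rfl | rfl)
      · right; left; exact hzad.symm
      · left; exact aza
      · right; right
        show a * (D.z * za) * a = D.z * za
        rw [cj_mul ha, aza, ← hzad, hz]
    have keyo : ∀ y ∈ A, o * y * o ∈ A := by
      rintro y (rfl | rfl | rfl)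
      · left; exact hoz
      · right; right; exact ho2
      · right; left
        rw [cj_mul ho, hoz, ho2, ← mul_assoc, hz2, one_mul]
    have key : ∀ s ∈ ({a, o} : Set G), ∀ y ∈ A, s * y * s ∈ A := by
      rintro s (rfl | rfl)
      · exact keya
      · exact keyo
    have inv : ∀ s ∈ ({a, o} : Set G), s⁻¹ = s := by
      rintro s (rfl | rfl)
      · exact inv_of_sq ha
      · exact inv_of_sq ho
    exact orbit (Or.inl rfl) (fun s hs y hy => by rw [inv s hs]; exact key s hs y hy)
      (fun s hs y hy => by rw [inv s hs]; exact key s hs y hy)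
  have hle : Subgroup.closure T ≤ Subgroup.closure ({a, o} : Set G) := by
    rw [Subgroup.closure_le]
    rintro t (rfl | rfl)
    · exact Subgroup.subset_closure (Set.mem_insert_of_mem _ rfl)
    · exact Subgroup.mul_mem _ (Subgroup.subset_closure (Set.mem_insert _ _))
        (Subgroup.subset_closure (Set.mem_insert_of_mem _ rfl))
  have hq' : ∀ q ∈ D.Q, q * za = za * q → q ∈ S := by
    intro q hqQ hqa
    apply hq q hqQ
    intro h hh
    have h1 := hA h (hle hh)
    rcases h1 with h1 | h1 | h1
    · rw [h1]; exact hQz q hqQ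
    · rw [h1]; exact hqa
    · rw [Set.mem_singleton_iff.1 h1, ← mul_assoc, hQz q hqQ, mul_assoc, hqa, mul_assoc]
  intro q hqQ
  rcases hza q hqQ with h | h
  · exact hq' q hqQ h
  · have h1 : o * q ∈ S := by
      apply hq' _ (D.Q.mul_mem hoQ hqQ)
      calc o * q * za = o * (q * za) := mul_assoc _ _ _
        _ = (o * D.z) * za * q := by rw [h]; simp only [mul_assoc]
        _ = D.z * (o * za) * q := by rw [hQz o hoQ]; simp only [mul_assoc]
        _ = (D.z * D.z) * za * (o * q) := by rw [ho']; simp only [mul_assoc]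
        _ = za * (o * q) := by rw [hz2, one_mul]
    have h2 := S.mul_mem (hTS hoT) h1
    rwa [← mul_assoc, ho, one_mul] at h2

/-- The group generated by a part of `Q` and two commuting involutions. -/
theorem double {a b r : G} (ha : a * a = 1) (hb : b * b = 1) (hr : r * r = 1) (hab : a * b = b * a)
    (hz2 : D.z * D.z = 1) (hQz : ∀ q ∈ D.Q, q * D.z = D.z * q) (hrz : r * D.z = D.z * r)
    (hz : D.z * (a * b * D.z * b * a) = (a * b * D.z * b * a) * D.z)
    (k1 : r * (a * D.z * a) = (a * D.z * a) * r) (k2 : r * (b * D.z * b) = (b * D.z * b) * r)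
    (k3 : r * (a * b * D.z * b * a) = D.z * (a * b * D.z * b * a) * r)
    (m1 : r * (a * r * a) = (a * r * a) * r) (m2 : r * (b * r * b) = (b * r * b) * r)
    (m3 : r * (a * b * r * b * a) * r = (a * b * r * b * a) * r * (a * b * r * b * a)) :
    ∃ S : Subgroup G, TT S ∧ a ∈ S ∧ b ∈ S ∧ r ∈ S ∧
      ∀ q ∈ D.Q, q * (a * D.z * a) = (a * D.z * a) * q → q * (b * D.z * b) = (b * D.z * b) * q →
        q * (a * b * D.z * b * a) = (a * b * D.z * b * a) * q → q ∈ S := by
  have e1 : ∀ x : G, a * b * x * b * a = a * (b * x * b) * a := fun x => by simp only [mul_assoc]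
  have e2 : ∀ x : G, b * (a * x * a) * b = a * (b * x * b) * a := fun x => by
    calc b * (a * x * a) * b = (b * a) * x * (a * b) := by simp only [mul_assoc]
      _ = (a * b) * x * (b * a) := by rw [hab]
      _ = _ := by simp only [mul_assoc]
  simp only [e1] at hz k3 m3 ⊢
  obtain ⟨zb, hzb⟩ : ∃ x, x = b * D.z * b := ⟨_, rfl⟩
  obtain ⟨rb, hrb⟩ : ∃ x, x = b * r * b := ⟨_, rfl⟩
  rw [← hzb] at hz k2 k3 ⊢
  rw [← hrb] at m2 m3
  obtain ⟨za, hza⟩ : ∃ x, x = a * D.z * a := ⟨_, rfl⟩
  obtain ⟨zy, hzy⟩ : ∃ x, x = a * zb * a := ⟨_, rfl⟩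
  obtain ⟨ra, hra⟩ : ∃ x, x = a * r * a := ⟨_, rfl⟩
  obtain ⟨ry, hry⟩ : ∃ x, x = a * rb * a := ⟨_, rfl⟩
  rw [← hza] at k1 ⊢
  rw [← hzy] at hz k3 ⊢
  rw [← hra] at m1
  rw [← hry] at m3
  -- conjugations
  have aza : a * za * a = D.z := by rw [hza]; exact cj_cj ha _
  have azy : a * zy * a = zb := by rw [hzy]; exact cj_cj ha _
  have bzb : b * zb * b = D.z := by rw [hzb]; exact cj_cj hb _
  have bza : b * za * b = zy := by rw [hza, hzy, hzb]; exact e2 _
  have bzy : b * zy * b = za := by rw [← bza]; exact cj_cj hb za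
  have ara : a * ra * a = r := by rw [hra]; exact cj_cj ha r
  have ary : a * ry * a = rb := by rw [hry]; exact cj_cj ha rb
  have brb : b * rb * b = r := by rw [hrb]; exact cj_cj hb r
  have bra : b * ra * b = ry := by rw [hra, hry, hrb]; exact e2 r
  have bry : b * ry * b = ra := by rw [← bra]; exact cj_cj hb ra
  have ra2 : ra * ra = 1 := by rw [hra, ← cj_mul ha, hr, mul_one, ha]
  have rb2 : rb * rb = 1 := by rw [hrb, ← cj_mul hb, hr, mul_one, hb]
  have ry2 : ry * ry = 1 := by rw [hry, ← cj_mul ha, rb2, mul_one, ha]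
  have c1 : ra * ry = ry * ra := by
    have := congrArg (fun g => a * g * a) m2
    simp only [cj_mul ha] at this
    rw [← hra, ← hry] at this
    exact this
  have c2 : rb * ry = ry * rb := by
    have := congrArg (fun g => b * g * b) m1
    simp only [cj_mul hb, bra] at this
    rw [← hrb] at this
    exact this
  have zab : za * zb = zb * za := by
    have := congrArg (fun g => a * g * a) hz
    simp only [cj_mul ha, azy] at this
    rw [← hza] at this
    exact this
  obtain ⟨s1, hs1⟩ : ∃ x, x = r * ry := ⟨_, rfl⟩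
  obtain ⟨s2, hs2⟩ : ∃ x, x = ra * rb := ⟨_, rfl⟩
  have s1i : s1⁻¹ = ry * r := by rw [hs1, mul_inv_rev, inv_of_sq hr, inv_of_sq ry2]
  have s2i : s2⁻¹ = rb * ra := by rw [hs2, mul_inv_rev, inv_of_sq ra2, inv_of_sq rb2]
  have as1 : a * s1 * a = s2 := by rw [hs1, hs2, cj_mul ha, ary, ← hra]
  have as2 : a * s2 * a = s1 := by rw [hs1, hs2, cj_mul ha, ara, ← hry]
  have s1c : s1 ^ 3 = 1 := by rw [hs1]; exact cube_of_braid hr ry2 m3
  have s2c : s2 ^ 3 = 1 := by
    have h1 : s2 ^ 3 = a * s1 ^ 3 * a := by
      rw [pow_succ, pow_two, pow_succ, pow_two, cj_mul ha, cj_mul ha, as1]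
    rw [h1, s1c, mul_one, ha]
  have M1 : Commute r ra := m1
  have M2 : Commute r rb := m2
  have C1 : Commute ra ry := c1
  have C2 : Commute rb ry := c2
  have cm : ∀ {x y : G}, Commute x y → x * y * x⁻¹ = y := fun {x y} h => by
    rw [h.eq, mul_inv_cancel_right]
  have r12 : Commute r s2 := by rw [hs2]; exact M1.mul_right M2
  have ra1 : Commute ra s1 := by rw [hs1]; exact M1.symm.mul_right C1
  have rb1 : Commute rb s1 := by rw [hs1]; exact M2.symm.mul_right C2
  have s21 : Commute s2 s1 := by rw [hs2]; exact ra1.mul_left rb1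
  -- the small group
  have t1 : TT (Subgroup.closure ({s1} : Set G)) := tt_one (Or.inr rfl) s1c
  have t2 : TT (Subgroup.closure ({s2, s1} : Set G)) := by
    apply tt_ins (k := 3) t1 (Or.inr rfl) s2c
    rintro t rfl
    rw [cm s21]
    exact Subgroup.subset_closure rfl
  have t3 : TT (Subgroup.closure ({r, s2, s1} : Set G)) := by
    apply tt_ins (k := 2) t2 (Or.inl rfl) (by rw [pow_two, hr])
    rintro t (rfl | rfl)
    · rw [cm r12]
      exact Subgroup.subset_closure (Set.mem_insert _ _)
    · have h1 : r * t * r⁻¹ = t⁻¹ := by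
        rw [s1i, hs1, inv_of_sq hr, ← mul_assoc, hr, one_mul]
      rw [h1]
      exact Subgroup.inv_mem _ (Subgroup.subset_closure (Set.mem_insert_of_mem _ rfl))
  have t4 : TT (Subgroup.closure ({ra, r, s2, s1} : Set G)) := by
    apply tt_ins (k := 2) t3 (Or.inl rfl) (by rw [pow_two, ra2])
    rintro t (rfl | rfl | rfl)
    · rw [cm M1.symm]
      exact Subgroup.subset_closure (Set.mem_insert _ _)
    · have h1 : ra * t * ra⁻¹ = t⁻¹ := by
        rw [s2i, hs2, inv_of_sq ra2, ← mul_assoc, ra2, one_mul]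
      rw [h1]
      exact Subgroup.inv_mem _ (Subgroup.subset_closure (Set.mem_insert_of_mem _ (Set.mem_insert _ _)))
    · rw [cm ra1]
      exact Subgroup.subset_closure (Set.mem_insert_of_mem _ (Set.mem_insert_of_mem _ rfl))
  have i1 : s1 ∈ Subgroup.closure ({ra, r, s2, s1} : Set G) :=
    Subgroup.subset_closure (by simp)
  have i2 : s2 ∈ Subgroup.closure ({ra, r, s2, s1} : Set G) :=
    Subgroup.subset_closure (by simp)
  have i3 : r ∈ Subgroup.closure ({ra, r, s2, s1} : Set G) :=
    Subgroup.subset_closure (by simp)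
  have i4 : ra ∈ Subgroup.closure ({ra, r, s2, s1} : Set G) :=
    Subgroup.subset_closure (by simp)
  have i5 : rb ∈ Subgroup.closure ({ra, r, s2, s1} : Set G) := by
    have : rb = ra * s2 := by rw [hs2, ← mul_assoc, ra2, one_mul]
    rw [this]
    exact Subgroup.mul_mem _ i4 i2
  have i6 : ry ∈ Subgroup.closure ({ra, r, s2, s1} : Set G) := by
    have : ry = r * s1 := by rw [hs1, ← mul_assoc, hr, one_mul]
    rw [this]
    exact Subgroup.mul_mem _ i3 i1
  have t5 : TT (Subgroup.closure ({a, ra, r, s2, s1} : Set G)) := by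
    apply tt_ins (k := 2) t4 (Or.inl rfl) (by rw [pow_two, ha])
    rintro t (rfl | rfl | rfl | rfl)
    · rw [inv_of_sq ha, ara]; exact i3
    · rw [inv_of_sq ha, ← hra]; exact i4
    · rw [inv_of_sq ha, as2]; exact i1
    · rw [inv_of_sq ha, as1]; exact i2
  have up : Subgroup.closure ({ra, r, s2, s1} : Set G) ≤ Subgroup.closure ({a, ra, r, s2, s1} : Set G) :=
    Subgroup.closure_mono (Set.subset_insert _ _)
  have t6 : TT (Subgroup.closure ({b, a, ra, r, s2, s1} : Set G)) := by
    apply tt_ins (k := 2) t5 (Or.inl rfl) (by rw [pow_two, hb])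
    rintro t (rfl | rfl | rfl | rfl | rfl)
    · rw [← hab, mul_inv_cancel_right]
      exact Subgroup.subset_closure (Set.mem_insert _ _)
    · rw [inv_of_sq hb, bra]; exact up i6
    · rw [inv_of_sq hb, ← hrb]; exact up i5
    · have e3 : b * t * b⁻¹ = ry * r := by rw [inv_of_sq hb, hs2, cj_mul hb, bra, brb]
      rw [e3]
      exact up (Subgroup.mul_mem _ i6 i3)
    · have e3 : b * t * b⁻¹ = rb * ra := by rw [inv_of_sq hb, hs1, cj_mul hb, bry, ← hrb]
      rw [e3]
      exact up (Subgroup.mul_mem _ i5 i4)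
  obtain ⟨S, hS, hTS, hq⟩ := D.big t6
  refine ⟨S, hS, hTS (Subgroup.subset_closure (by simp)), hTS (Subgroup.subset_closure (by simp)),
    hTS (Subgroup.subset_closure (by simp)), ?_⟩
  let A : Set G := {D.z, za, zb, zy, D.z * zy, za * zb}
  have hrc : ∀ x : G, r * x = x * r → r * x * r = x := fun x hx => by rw [hx, mul_assoc, hr, mul_one]
  have hry' : r * zy * r = D.z * zy := by rw [k3, mul_assoc, hr, mul_one]
  have hA : ∀ x ∈ Subgroup.closure ({a, b, r} : Set G), x * D.z * x⁻¹ ∈ A := by
    have keya : ∀ y ∈ A, a * y * a ∈ A := by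
      rintro y (rfl | rfl | rfl | rfl | rfl | rfl)
      · right; left; exact hza.symm
      · left; exact aza
      · right; right; right; left; exact hzy.symm
      · right; right; left; exact azy
      · right; right; right; right; right
        show a * (D.z * zy) * a = za * zb
        rw [cj_mul ha, azy, ← hza]
      · right; right; right; right; left
        rw [cj_mul ha, aza, ← hzy]
    have keyb : ∀ y ∈ A, b * y * b ∈ A := by
      rintro y (rfl | rfl | rfl | rfl | rfl | rfl)
      · right; right; left; exact hzb.symm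
      · right; right; right; left; exact bza
      · left; exact bzb
      · right; left; exact bzy
      · right; right; right; right; right
        show b * (D.z * zy) * b = za * zb
        rw [cj_mul hb, bzy, ← hzb, zab]
      · right; right; right; right; left
        rw [cj_mul hb, bza, bzb, hz]
    have keyr : ∀ y ∈ A, r * y * r ∈ A := by
      rintro y (rfl | rfl | rfl | rfl | rfl | rfl)
      · left; exact hrc _ hrz
      · right; left; exact hrc _ k1
      · right; right; left; exact hrc _ k2
      · right; right; right; right; left; exact hry'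
      · right; right; right; left
        rw [cj_mul hr, hrc _ hrz, hry', ← mul_assoc, hz2, one_mul]
      · right; right; right; right; right
        show r * (za * zb) * r = za * zb
        rw [cj_mul hr, hrc _ k1, hrc _ k2]
    have key : ∀ s ∈ ({a, b, r} : Set G), ∀ y ∈ A, s * y * s ∈ A := by
      rintro s (rfl | rfl | rfl)
      · exact keya
      · exact keyb
      · exact keyr
    have inv : ∀ s ∈ ({a, b, r} : Set G), s⁻¹ = s := by
      rintro s (rfl | rfl | rfl)
      · exact inv_of_sq ha
      · exact inv_of_sq hb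
      · exact inv_of_sq hr
    exact orbit (Or.inl rfl) (fun s hs y hy => by rw [inv s hs]; exact key s hs y hy)
      (fun s hs y hy => by rw [inv s hs]; exact key s hs y hy)
  have hle : Subgroup.closure ({b, a, ra, r, s2, s1} : Set G) ≤ Subgroup.closure ({a, b, r} : Set G) := by
    have ia : a ∈ Subgroup.closure ({a, b, r} : Set G) := Subgroup.subset_closure (by simp)
    have ib : b ∈ Subgroup.closure ({a, b, r} : Set G) := Subgroup.subset_closure (by simp)
    have ir : r ∈ Subgroup.closure ({a, b, r} : Set G) := Subgroup.subset_closure (by simp)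
    have ira := Subgroup.mul_mem _ (Subgroup.mul_mem _ ia ir) ia
    have irb := Subgroup.mul_mem _ (Subgroup.mul_mem _ ib ir) ib
    rw [← hra] at ira
    rw [← hrb] at irb
    have iry := Subgroup.mul_mem _ (Subgroup.mul_mem _ ia irb) ia
    rw [← hry] at iry
    rw [Subgroup.closure_le]
    intro t ht
    simp only [Set.mem_insert_iff, Set.mem_singleton_iff] at ht
    rcases ht with h | h | h | h | h | h
    · rw [h]; exact ib
    · rw [h]; exact ia
    · rw [h]; exact ira
    · rw [h]; exact ir
    · rw [h, hs2]; exact Subgroup.mul_mem _ ira irb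
    · rw [h, hs1]; exact Subgroup.mul_mem _ ir iry
  intro q hqQ q1 q2 q3
  apply hq q hqQ
  intro h hh
  have hc : ∀ x y : G, q * x = x * q → q * y = y * q → q * (x * y) = (x * y) * q := fun x y hx hy => by
    rw [← mul_assoc, hx, mul_assoc, hy, mul_assoc]
  rcases hA h (hle hh) with h1 | h1 | h1 | h1 | h1 | h1
  · rw [h1]; exact hQz q hqQ
  · rw [h1]; exact q1
  · rw [h1]; exact q2
  · rw [h1]; exact q3
  · rw [h1]; exact hc _ _ (hQz q hqQ) q3
  · rw [Set.mem_singleton_iff.1 h1]; exact hc _ _ q1 q2

end QD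

end Cfsg.Agent.H863.STT
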