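import Mathlib
import Cfsg.Agent.BM.KHAll
import Cfsg.Agent.H863.BTI
import Cfsg.Agent.H863.BE
import Cfsg.Agent.H863.STT2
import Cfsg.Agent.H863.SLift
import Cfsg.Agent.H863.SData

/-!
# The even generators in the model (helper863, for S5590)
-/

set_option autoImplicit false

namespace Cfsg.Agent.H863.SMod

open Cfsg.Agent.Lib.PermNet hiding tb tb_eq
open Cfsg.Agent.Monster Cfsg.Agent.Monster.VecEngine Cfsg.Agent.Monster.VecSpace
open Cfsg.Agent.Monster.PauliBasic Cfsg.Agent.Monster.PauliRep Cfsg.Agent.Monster.PauliClif Cfsg.Agent.Monster.PauliBits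
open Cfsg.Agent.BabyM.KTabData Cfsg.Agent.BabyM.QAct Cfsg.Agent.BabyM.QData Cfsg.Agent.BabyM.QData.Good
open Cfsg.Agent.BabyM.Conc Cfsg.Agent.BabyM.KTab Cfsg.Agent.BabyM.KRow Cfsg.Agent.BabyM.KRowData Cfsg.Agent.BabyM.KQ
open Cfsg.Agent.BabyM
open Cfsg.Agent.H863.BRed Cfsg.Agent.H863.BRep Cfsg.Agent.H863.BCode Cfsg.Agent.H863.BGrp Cfsg.Agent.H863.BCheck
open Cfsg.Agent.H863.BMdl Cfsg.Agent.H863.BInst
open Cfsg.Agent.H863.STT Cfsg.Agent.H863.SLift Cfsg.Agent.H863.SData
open Cfsg.Spor.BabyMonster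

/-! ### Words -/

theorem gW_append (v w : List Ltr) : gW (v ++ w) = gW w * gW v := Subtype.ext (W_append v w)

theorem gW_z : gW [.z] = gE .z := Subtype.ext (W_single _)

theorem gW_eq {v w : List Ltr} (h : BM.StageW.chk v w = true) : gW v = gW w :=
  BM.StageW.eq_of_chk Instance.all Instance.ok h

/-- The generators. -/
noncomputable def x (t : Gen) : G := gW (BM.StageW.tw t)

theorem x_eq (t : Gen) : x t = BM.StageW.x t := rfl

theorem x_sq (t : Gen) : x t * x t = 1 := BM.StageW.sq Instance.all Instance.ok t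

theorem gW_R {v : List Ltr} (h : v.all isq = true) : gW v = r (dec 11 (cw v)) := Subtype.ext (W_eq_R v h)

/-! ### The group `Q` -/

/-- The data of `Q`. -/
noncomputable def D : QD G where
  Q := r.range
  z := gE .z
  p := by
    have h1 : IsPGroup 2 (⊤ : Subgroup (Pauli 11)) := by
      apply IsPGroup.of_card (n := 23)
      rw [Subgroup.card_top, Pauli.card]
    have h := h1.map r
    rwa [← MonoidHom.range_eq_map] at h
  nrm g hg q hq := by
    obtain ⟨y, rfl⟩ := hq
    obtain ⟨α, hα⟩ := nrm g (cent hg)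
    exact ⟨α y, by rw [hα, mul_inv_cancel_right]⟩

theorem r_mem_Q (y : Pauli 11) : r y ∈ D.Q := ⟨y, rfl⟩

theorem gW_mem_Q {v : List Ltr} (h : v.all isq = true) : gW v ∈ D.Q := by rw [gW_R h]; exact r_mem_Q _

theorem Qz (q : G) (hq : q ∈ D.Q) : q * D.z = D.z * q := by
  obtain ⟨y, rfl⟩ := hq
  exact z_comm (r_mem y)

theorem z_Q : D.z ∈ D.Q := by
  show gE .z ∈ r.range
  rw [gE_z]
  exact ⟨_, rfl⟩

theorem pauli_comm {n : ℕ} (a b : Pauli n) (h : Pauli.form a b = 0) : a * b = b * a := by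
  have h1 := Pauli.conj_eq a b
  have h2 : a * b = (a * b * a⁻¹) * a := by rw [inv_mul_cancel_right]
  rw [h2, h1, h]
  congr 1
  refine Pauli.ext ?_ rfl rfl
  show b.s + 0 = b.s
  rw [add_zero]

theorem comm_codes {c c' : ℕ} (h : fm c c' = false) :
    r (dec 11 c) * r (dec 11 c') = r (dec 11 c') * r (dec 11 c) := by
  rw [← map_mul, ← map_mul, pauli_comm _ _ (BTI.form_zero h)]

theorem anti_codes {c c' : ℕ} (h : fm c c' = true) :
    r (dec 11 c) * r (dec 11 c') = D.z * r (dec 11 c') * r (dec 11 c) := by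
  have h1 := comm_of_form _ _ (form_of_fm h)
  rw [← map_mul, h1, map_mul, map_mul, ← gE_z, z_comm (r_mem _)]
  rfl

/-! ### Single generators -/

theorem x_pal (t : Gen) (v : List Ltr) :
    gW (BM.StageW.tw t ++ v ++ BM.StageW.tw t) = x t * gW v * x t := by
  rw [gW_append, gW_append, ← mul_assoc]
  rfl

section

variable {t : Gen} {cz : ℕ} (hz : BM.StageW.chk (BM.StageW.tw t ++ [.z] ++ BM.StageW.tw t) (za t) = true)
  (hq : (za t).all isq = true) (hc : cw (za t) = cz)

include hz hq hc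

theorem za_eq : x t * D.z * x t = r (dec 11 cz) := by
  have h1 := gW_eq hz
  rw [x_pal, gW_z, gW_R hq, hc] at h1
  exact h1

theorem single {o : List Ltr} {co : ℕ} (ho : o.all isq = true) (hco : cw o = co) (ho2 : gW o * gW o = 1)
    (hb : x t * gW o * x t = gW o * x t * gW o) (hf : fm co cz = true) :
    ∃ S : Subgroup G, TT S ∧ x t ∈ S ∧ D.Q ≤ S := by
  have hza := za_eq hz hq hc
  have hzz : D.z * r (dec 11 cz) = r (dec 11 cz) * D.z := (Qz _ (r_mem_Q _)).symm
  refine D.single (o := gW o) (x_sq t) ho2 (gW_mem_Q ho) hb z_sq Qz ?_ ?_ ?_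
  · rw [hza]; exact hzz
  · intro q hq'
    rw [hza]
    obtain ⟨y, rfl⟩ := hq'
    have h1 : Pauli.form y (dec 11 cz) = 0 ∨ Pauli.form y (dec 11 cz) = 1 := by
      generalize Pauli.form y (dec 11 cz) = a
      revert a; decide
    rcases h1 with h1 | h1
    · left
      rw [← map_mul, ← map_mul, pauli_comm _ _ h1]
    · right
      rw [← map_mul, comm_of_form _ _ h1, map_mul, map_mul, ← gE_z, z_comm (r_mem _)]
      rfl
  · rw [hza, gW_R ho, hco]
    exact anti_codes hf

end

/-! ### Fixed vectors -/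

/-- Some code of the list is not orthogonal to the lane. -/
noncomputable def anyL (L : List ℕ) (i : ℕ) : Bool :=
  List.rec (motive := fun _ => Bool) false (fun c _ ih => or (fm c (cd i)) ih) L

theorem anyL_spec {L : List ℕ} {i : ℕ} (h : anyL L i = true) : ∃ c ∈ L, fm c (cd i) = true := by
  induction L with
  | nil => exact absurd (show false = true from h) (by decide)
  | cons c L ih =>
    have h1 : or (fm c (cd i)) (anyL L i) = true := h
    rw [Bool.or_eq_true] at h1
    rcases h1 with h1 | h1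
    · exact ⟨c, List.mem_cons_self, h1⟩
    · obtain ⟨c', hc', h2⟩ := ih h1
      exact ⟨c', List.mem_cons_of_mem _ hc', h2⟩

/-- The check for all lanes. -/
noncomputable def lanesOK (L : List ℕ) : Bool :=
  allN 12 (fun i => Bool.rec true (Bool.rec (anyL L i) true (Nat.beq (cd i) 0)) (tb U i)) 0

theorem lanesOK_spec {L : List ℕ} (h : lanesOK L = true) {i : Lane U} (hi : Cd.isX i) :
    ∃ c ∈ L, fm c (cd i.1) = true := by
  have hlt := lt_of_isX hi
  rw [isX_iff] at hi
  have h1 := allN_spec h (Nat.zero_le i.1) (by omega)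
  simp only [tb_eq, i.2] at h1
  have h0 : Nat.beq (cd i.1) 0 = false := by
    rw [Bool.eq_false_iff]
    intro hh
    exact hi.2 (Nat.eq_of_beq_eq_true hh)
  rw [h0] at h1
  exact anyL_spec h1

section

variable {F : Type*} [Field F] (h2 : (2 : F) ≠ 0)

theorem inU_iff (v : Lane U → F) : InU (sigma h2) D v ↔ v ∈ BE.U (M h2) := by
  rw [BE.mem_U]
  constructor
  · intro h y
    exact h (r y) (r_mem_Q y)
  · rintro h q ⟨y, rfl⟩
    exact h y

theorem fixed_in {L : List ℕ} (hL : lanesOK L = true) {v : Lane U → F} (hz : sigma h2 D.z v = v)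
    (h : ∀ c ∈ L, sigma h2 (r (dec 11 c)) v = v) : InU (sigma h2) D v := by
  rw [inU_iff]
  show ∀ i, ¬ Cd.isU i → v i = 0
  intro i hi
  by_cases hq : Cd.isq i
  · exact (M h2).S_zero hz hq
  · have hX : Cd.isX i := by
      rcases Cd.cases i with h | h | h
      · exact absurd h hq
      · exact h
      · exact absurd h hi
    obtain ⟨c, hc, hf⟩ := lanesOK_spec hL hX
    have h1 := (M h2).r_apply (dec 11 c) v hq
    have h3 : (M h2).σ ((M h2).r (dec 11 c)) v = v := h c hc
    rw [h3] at h1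
    have h4 : Pauli.form (dec 11 c) (Cd.c i) = 1 := form_of_fm hf
    rw [h4] at h1
    apply (M h2).two_cancel
    have h5 : sg F 1 = -1 := by simp [sg]
    rw [h5, neg_one_mul] at h1
    exact h1

end

/-! ### Pairs -/

/-- The check of the codes of one side. -/
noncomputable def sideOK (t : Gen) (c' : ℕ) (A : List (List ℕ × ℕ)) : Bool :=
  A.all fun p => and (Nat.beq (cw (wd t p.1)) p.2) (and ((wd t p.1).all isq)
    (and (!(fm p.2 c')) (p.1.all fun k => Nat.blt k 11)))

theorem side_spec {t : Gen} {c' : ℕ} {A : List (List ℕ × ℕ)} (h : sideOK t c' A = true) {p : List ℕ × ℕ}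
    (hp : p ∈ A) : gW (wd t p.1) = r (dec 11 p.2) ∧ fm p.2 c' = false ∧ ∀ k ∈ p.1, k < 11 := by
  have h1 := List.all_eq_true.1 h p hp
  rw [Bool.and_eq_true, Bool.and_eq_true, Bool.and_eq_true] at h1
  obtain ⟨h3, h4, h5, h6⟩ := h1
  refine ⟨?_, ?_, ?_⟩
  · rw [gW_R h4, Nat.eq_of_beq_eq_true h3]
  · simpa using h5
  · intro k hk
    have := List.all_eq_true.1 h6 k hk
    simpa [Nat.blt] using this

theorem wd_comm {t : Gen} (hc : ∀ k < 11, gW (cb t k) * x t = x t * gW (cb t k)) (l : List ℕ)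
    (hl : ∀ k ∈ l, k < 11) : gW (wd t l) * x t = x t * gW (wd t l) := by
  induction l with
  | nil =>
    have : gW (wd t []) = 1 := Subtype.ext W_nil
    rw [this, one_mul, mul_one]
  | cons k l ih =>
    have h1 : wd t (k :: l) = cb t k ++ wd t l := List.flatMap_cons ..
    have h2 := ih fun k' hk' => hl k' (List.mem_cons_of_mem _ hk')
    have h3 := hc k (hl k List.mem_cons_self)
    rw [h1, gW_append, mul_assoc, h3, ← mul_assoc, h2, mul_assoc]

theorem comm_chk {t : Gen} {v : List Ltr}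
    (h : BM.StageW.chk (v ++ BM.StageW.tw t) (BM.StageW.tw t ++ v) = true) : gW v * x t = x t * gW v := by
  have h1 := gW_eq h
  rw [gW_append, gW_append] at h1
  exact h1.symm

/-- The facts about a generator. -/
structure Fct (t : Gen) (cz : ℕ) : Prop where
  za : x t * D.z * x t = r (dec 11 cz)
  cb : ∀ k < 11, gW (cb t k) * x t = x t * gW (cb t k)

section

variable {F : Type*} [Field F] (h2 : (2 : F) ≠ 0)

theorem pair_of {a b : Gen} {ca cb cr : ℕ} {v : List Ltr} {A B : List (List ℕ × ℕ)} (fa : Fct a ca) (fb : Fct b cb)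
    (hab : x a * x b = x b * x a) (hv : v.all isq = true) (hcr : cw v = cr) (hr2 : gW v * gW v = 1)
    (hA : sideOK a cb A = true) (hB : sideOK b ca B = true) (ka : fm cr ca = false) (kb : fm cr cb = false)
    (hL : lanesOK (cr :: (A.map Prod.snd ++ B.map Prod.snd)) = true)
    (cz : BM.StageW.chk ((BM.StageW.tw a ++ BM.StageW.tw b ++ [.z] ++ BM.StageW.tw b ++ BM.StageW.tw a) ++ [.z])
      ([.z] ++ (BM.StageW.tw a ++ BM.StageW.tw b ++ [.z] ++ BM.StageW.tw b ++ BM.StageW.tw a)) = true)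
    (ck : BM.StageW.chk ((BM.StageW.tw a ++ BM.StageW.tw b ++ [.z] ++ BM.StageW.tw b ++ BM.StageW.tw a) ++ v)
      (v ++ (BM.StageW.tw a ++ BM.StageW.tw b ++ [.z] ++ BM.StageW.tw b ++ BM.StageW.tw a) ++ [.z]) = true)
    (cm : BM.StageW.chk ((BM.StageW.tw a ++ v ++ BM.StageW.tw a) ++ v)
      (v ++ (BM.StageW.tw a ++ v ++ BM.StageW.tw a)) = true)
    (cn : BM.StageW.chk ((BM.StageW.tw b ++ v ++ BM.StageW.tw b) ++ v)
      (v ++ (BM.StageW.tw b ++ v ++ BM.StageW.tw b)) = true)
    (cy : BM.StageW.chk (v ++ (BM.StageW.tw a ++ BM.StageW.tw b ++ v ++ BM.StageW.tw b ++ BM.StageW.tw a) ++ v)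
      ((BM.StageW.tw a ++ BM.StageW.tw b ++ v ++ BM.StageW.tw b ++ BM.StageW.tw a) ++ v ++
        (BM.StageW.tw a ++ BM.StageW.tw b ++ v ++ BM.StageW.tw b ++ BM.StageW.tw a)) = true) :
    Pair (sigma h2) D (x a) (x b) := by
  have pal : ∀ w : List Ltr, gW (BM.StageW.tw a ++ BM.StageW.tw b ++ w ++ BM.StageW.tw b ++ BM.StageW.tw a) =
      x a * x b * gW w * x b * x a := by
    intro w
    rw [gW_append, gW_append, gW_append, gW_append]
    show x a * (x b * (gW w * (x b * x a))) = _
    simp only [mul_assoc]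
  have hvR : gW v = r (dec 11 cr) := by rw [gW_R hv, hcr]
  have hvz : gW v * D.z = D.z * gW v := Qz _ (gW_mem_Q hv)
  have e1 := gW_eq cz
  rw [gW_append, gW_append ([.z] : List Ltr), pal, gW_z] at e1
  have e2 := gW_eq ck
  rw [gW_append, gW_append _ ([.z] : List Ltr), gW_append v, pal, gW_z] at e2
  have e3 := gW_eq cm
  rw [gW_append _ v, gW_append v, x_pal] at e3
  have e4 := gW_eq cn
  rw [gW_append _ v, gW_append v, x_pal] at e4
  have e5 := gW_eq cy
  rw [gW_append _ v, gW_append v, gW_append _ (BM.StageW.tw a ++ BM.StageW.tw b ++ v ++ BM.StageW.tw b ++ BM.StageW.tw a),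
    gW_append _ v, pal] at e5
  obtain ⟨S, hS, haS, hbS, hvS, hq⟩ := D.double (a := x a) (b := x b) (r := gW v) (x_sq a) (x_sq b) hr2 hab
    z_sq Qz hvz e1 (by rw [fa.za, hvR]; exact comm_codes ka) (by rw [fb.za, hvR]; exact comm_codes kb)
    (e2.trans (mul_assoc _ _ _).symm) e3 e4 (by rw [mul_assoc, e5]; simp only [mul_assoc])
  have mem : ∀ q ∈ D.Q, q * (x a * D.z * x a) = (x a * D.z * x a) * q →
      q * (x b * D.z * x b) = (x b * D.z * x b) * q →
      (q * x a = x a * q ∨ q * x b = x b * q) → q ∈ S := by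
    intro q hqQ q1 q3 q4
    apply hq q hqQ q1 q3
    rcases q4 with q4 | q4
    · have h1 : x a * x b * D.z * x b * x a = x a * (x b * D.z * x b) * x a := by simp only [mul_assoc]
      rw [h1]
      calc q * (x a * (x b * D.z * x b) * x a) = q * x a * (x b * D.z * x b) * x a := by simp only [mul_assoc]
        _ = x a * (q * (x b * D.z * x b)) * x a := by rw [q4]; simp only [mul_assoc]
        _ = x a * (x b * D.z * x b) * (q * x a) := by rw [q3]; simp only [mul_assoc]
        _ = _ := by rw [q4]; simp only [mul_assoc]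
    · have h1 : x a * x b * D.z * x b * x a = x b * (x a * D.z * x a) * x b := by
        calc x a * x b * D.z * x b * x a = (x a * x b) * D.z * (x b * x a) := by simp only [mul_assoc]
          _ = (x b * x a) * D.z * (x a * x b) := by rw [hab]
          _ = _ := by simp only [mul_assoc]
      rw [h1]
      calc q * (x b * (x a * D.z * x a) * x b) = q * x b * (x a * D.z * x a) * x b := by simp only [mul_assoc]
        _ = x b * (q * (x a * D.z * x a)) * x b := by rw [q4]; simp only [mul_assoc]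
        _ = x b * (x a * D.z * x a) * (q * x b) := by rw [q1]; simp only [mul_assoc]
        _ = _ := by rw [q4]; simp only [mul_assoc]
  have qz : ∀ (q : G), q ∈ D.Q → ∀ t : Gen, q * x t = x t * q →
      q * (x t * D.z * x t) = (x t * D.z * x t) * q := by
    intro q hqQ t ht
    calc q * (x t * D.z * x t) = (q * x t) * D.z * x t := by simp only [mul_assoc]
      _ = x t * (q * D.z) * x t := by rw [ht]; simp only [mul_assoc]
      _ = x t * D.z * (q * x t) := by rw [Qz q hqQ]; simp only [mul_assoc]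
      _ = _ := by rw [ht]; simp only [mul_assoc]
  refine ⟨S, hS, haS, hbS, fun w hw => ?_⟩
  have hzS : D.z ∈ S := by
    apply hq _ z_Q
    · rw [fa.za]; exact (Qz _ (r_mem_Q _)).symm
    · rw [fb.za]; exact (Qz _ (r_mem_Q _)).symm
    · exact e1
  apply fixed_in h2 hL (hw _ z_Q hzS)
  intro c hc
  apply hw _ (r_mem_Q _)
  rcases List.mem_cons.1 hc with rfl | hc
  · rw [← hvR]; exact hvS
  · rcases List.mem_append.1 hc with hc | hc
    · obtain ⟨p, hp, rfl⟩ := List.mem_map.1 hc
      obtain ⟨s1, s2, s3⟩ := side_spec hA hp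
      have h3 := wd_comm fa.cb p.1 s3
      rw [s1] at h3
      exact mem _ (r_mem_Q _) (qz _ (r_mem_Q _) a h3) (by rw [fb.za]; exact comm_codes s2) (Or.inl h3)
    · obtain ⟨p, hp, rfl⟩ := List.mem_map.1 hc
      obtain ⟨s1, s2, s3⟩ := side_spec hB hp
      have h3 := wd_comm fb.cb p.1 s3
      rw [s1] at h3
      exact mem _ (r_mem_Q _) (by rw [fa.za]; exact comm_codes s2) (qz _ (r_mem_Q _) b h3) (Or.inr h3)

end

end Cfsg.Agent.H863.SMod
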