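import Mathlib
import Cfsg.Agent.H863.SMod
import Cfsg.Agent.H863.BVec

/-!
# The kernel of `(1 - t5)(1 - ta)(1 - tb)` on `U`: the engine (helper863, for S5590)
-/

set_option autoImplicit false

namespace Cfsg.Agent.H863.SKer

open Cfsg.Agent.Monster Cfsg.Agent.Monster.VecEngine Cfsg.Agent.Monster.VecSpace
open Cfsg.Agent.BabyM.Conc Cfsg.Agent.BabyM.KTab Cfsg.Agent.BabyM.KRow
open Cfsg.Agent.BabyM
open Cfsg.Agent.H863.BRed Cfsg.Agent.H863.BRep Cfsg.Agent.H863.BVec Cfsg.Agent.H863.BGrp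
open Cfsg.Agent.H863.SLift Cfsg.Agent.H863.SMod Cfsg.Agent.H863.BInst Cfsg.Agent.H863.BCheck
open Cfsg.Spor.BabyMonster

/-- `x - w x` -/
noncomputable def dl (w : List Prog) (x : Pl) (k : Pl → Bool) : Bool :=
  runL w x fun y => go (add x (neg U y) 0) k

theorem dl_W {v : List Ltr} {x : Pl} {k : Pl → Bool} (h : dl (v.map Ltr.prog) x k = true) :
    ∃ z : Pl, W v (up ℚ (zv x)) = up ℚ (zv x - zv z) ∧ k z = true := by
  obtain ⟨y, hy, hk⟩ := runL_sound ℚ two_ne_zero (m := 2 ^ 13) (v.map Ltr.prog)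
    (fun P hP => (good_progs v P hP).ok) x _ h
  have hk' := go_true hk
  refine ⟨_, ?_, hk'⟩
  rw [W_apply]
  have h1 : (up ℚ (zv x) : Lane U → ℚ) = res ℚ U (vec ℚ x) := rfl
  rw [h1, ← res_semL ℚ (m := 2 ^ 13) (fun P hP => (good_progs v P hP).pres), ← hy]
  funext i
  show (val y i.1 : ℚ) = ((val x i.1 - val (norm (add x (neg U y) 0)) i.1 : ℤ) : ℚ)
  congr 1
  rw [val_norm, val_add, val_neg, if_pos i.2, bt_zero']
  ring

section

variable {F : Type*} [Field F] (h2 : (2 : F) ≠ 0)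

theorem dl_sound {v : List Ltr} {x : Pl} {k : Pl → Bool} (h : dl (v.map Ltr.prog) x k = true) :
    ∃ z : Pl, Δ (sigma h2) (gW v) (up F (zv x)) = up F (zv z) ∧ k z = true := by
  obtain ⟨z, hz, hk⟩ := dl_W h
  refine ⟨z, ?_, hk⟩
  have h1 := tr h2 (gW v) (x := zv x) (y := zv x - zv z) hz
  rw [Δ, h1, up_sub, sub_sub_cancel]

end

/-! ### Reading lanes -/

/-- Bit `i` of `p`. -/
noncomputable def bit (p i : ℕ) : ℕ := Nat.land 1 (Nat.shiftRight p i)

theorem bit_eq (p i : ℕ) : (bit p i : ℤ) = bt p i := by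
  unfold bit bt
  show ((1 &&& (p >>> i) : ℕ) : ℤ) = _
  rw [Nat.testBit, Nat.one_and_eq_mod_two]
  rcases Nat.mod_two_eq_zero_or_one (p >>> i) with h | h <;> simp [h]

/-- Compare the lane `i` with `e - off`. -/
noncomputable def rd (L : Pl) (i : ℕ) : ℕ → ℕ → ℕ → Bool :=
  Pl.rec (motive := fun _ => ℕ → ℕ → ℕ → Bool)
    (fun s w acc e => Nat.beq acc (Nat.add e (Nat.mul w (bit s i))))
    (fun p _ ih w acc e => ih (Nat.mul 2 w) (Nat.add acc (Nat.mul w (bit p i))) e) L

theorem rd_spec {L : Pl} {i w acc e : ℕ} (h : rd L i w acc e = true) :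
    (w : ℤ) * val L i = (e : ℤ) - acc := by
  induction L generalizing w acc with
  | sgn s =>
    have h1 : Nat.beq acc (Nat.add e (Nat.mul w (bit s i))) = true := h
    have h3 : acc = e + w * bit s i := Nat.eq_of_beq_eq_true h1
    rw [val_sgn, ← bit_eq, h3]
    push_cast
    ring
  | cons p L ih =>
    have h1 := ih (w := Nat.mul 2 w) (acc := Nat.add acc (Nat.mul w (bit p i))) h
    have h3 : ((Nat.mul 2 w : ℕ) : ℤ) = 2 * w := by
      show ((2 * w : ℕ) : ℤ) = _
      push_cast; rfl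
    have h4 : ((Nat.add acc (Nat.mul w (bit p i)) : ℕ) : ℤ) = acc + w * bt p i := by
      rw [← bit_eq]
      show ((acc + w * bit p i : ℕ) : ℤ) = _
      push_cast; rfl
    rw [h3, h4] at h1
    rw [val_cons]
    linarith

/-! ### Packed matrices -/

/-- Entry `i` of width `w`. -/
noncomputable def pk (B w i : ℕ) : ℕ := Nat.land (Nat.shiftRight B (Nat.mul w i)) (Nat.sub (Nat.shiftLeft 1 w) 1)

/-- The entry of the matrix of `T`. -/
noncomputable def entM (M r j : ℕ) : ℤ := (pk M 8 (Nat.add (Nat.mul 22 r) j) : ℤ) - 64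

/-- The entry of the inverse. -/
noncomputable def entN (N j r : ℕ) : ℤ := (pk N 4 (Nat.add (Nat.mul 20 j) r) : ℤ) - 8

/-- A check for all `j < 20`. -/
noncomputable def all20 (p : ℕ → Bool) : Bool := allN 5 (fun j => Bool.rec true (p j) (Nat.blt j 20)) 0

theorem all20_spec {p : ℕ → Bool} (h : all20 p = true) (j : Fin 20) : p j.1 = true := by
  have h1 := allN_spec h (Nat.zero_le j.1) (by have := j.2; omega)
  have h3 : Nat.blt j.1 20 = true := by
    have := j.2
    simp [Nat.blt]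
  simp only [h3] at h1
  exact h1

/-- `64 e_i` -/
def e64 (i : ℕ) : Pl :=
  .cons 0 (.cons 0 (.cons 0 (.cons 0 (.cons 0 (.cons 0 (.cons (Nat.shiftLeft 1 i) (.sgn 0)))))))

theorem zv_e64 (i : Lane U) : zv (e64 i.1) = (64 : ℤ) • Pi.single i 1 := by
  funext k
  rw [Pi.smul_apply, single_z]
  show bt 0 k.1 + 2 * (bt 0 k.1 + 2 * (bt 0 k.1 + 2 * (bt 0 k.1 + 2 * (bt 0 k.1 + 2 * (bt 0 k.1 + 2 *
    (bt (Nat.shiftLeft 1 i.1) k.1 + 2 * - bt 0 k.1)))))) = _
  rw [bt_zero', bt_one_shiftLeft, smul_eq_mul]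
  ring

theorem up_e64 (F : Type*) [Field F] (i : Lane U) : up F (zv (e64 i.1)) = (64 : F) • Pi.single i 1 := by
  rw [zv_e64, up_zsmul, up_one]
  push_cast
  rfl

/-- Check the rows. -/
noncomputable def rowsOK (L M j : ℕ) (y : Pl) : Bool :=
  all20 fun r => rd y (pk L 13 r) 1 64 (pk M 8 (Nat.add (Nat.mul 22 r) j))

theorem rowsOK_spec {L M j : ℕ} {y : Pl} (h : rowsOK L M j y = true) (r : Fin 20) :
    val y (pk L 13 r.1) = entM M r.1 j := by
  have h1 := rd_spec (all20_spec h r)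
  rw [entM]
  push_cast at h1
  linarith

/-- The three differences. -/
noncomputable def d3 (w5 wa wb : List Prog) (x : Pl) (k : Pl → Bool) : Bool :=
  dl wb x fun y => dl wa y fun y => dl w5 y k

section

variable {F : Type*} [Field F] (h2 : (2 : F) ≠ 0)

theorem d3_sound {v5 va vb : List Ltr} {x : Pl} {k : Pl → Bool}
    (h : d3 (v5.map Ltr.prog) (va.map Ltr.prog) (vb.map Ltr.prog) x k = true) :
    ∃ z : Pl, Δ (sigma h2) (gW v5) (Δ (sigma h2) (gW va) (Δ (sigma h2) (gW vb) (up F (zv x)))) = up F (zv z) ∧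
      k z = true := by
  obtain ⟨z1, h1, k1⟩ := dl_sound h2 h
  obtain ⟨z2, h3, k2⟩ := dl_sound h2 k1
  obtain ⟨z3, h4, k3⟩ := dl_sound h2 k2
  exact ⟨z3, by rw [h1, h3, h4], k3⟩

end

/-- The check of the columns. -/
noncomputable def colsOK (w5 wa wb : List Prog) (L M p q : ℕ) : Bool :=
  all22 fun j => or (Nat.beq j p) (or (Nat.beq j q)
    (d3 w5 wa wb (e64 (Nat.add 1344 (Nat.add j 1))) fun y => rowsOK L M j y))

section

variable {F : Type*} [Field F] (h2 : (2 : F) ≠ 0)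

/-- `(1 - t5)(1 - a)(1 - b)` -/
noncomputable def T3 (t5 a b : G) : Module.End F (Lane U → F) :=
  (1 - sigma h2 t5) * (1 - sigma h2 a) * (1 - sigma h2 b)

theorem T3_apply (t5 a b : G) (v : Lane U → F) :
    T3 h2 t5 a b v = Δ (sigma h2) t5 (Δ (sigma h2) a (Δ (sigma h2) b v)) := rfl

theorem cols_spec {v5 va vb : List Ltr} {L M p q : ℕ}
    (h : colsOK (v5.map Ltr.prog) (va.map Ltr.prog) (vb.map Ltr.prog) L M p q = true) (j : Fin 22)
    (hp : j.1 ≠ p) (hq : j.1 ≠ q) :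
    ∃ y : Pl, (64 : F) • T3 h2 (gW v5) (gW va) (gW vb) (Pi.single (bA j) 1) = up F (zv y) ∧
      ∀ r : Fin 20, val y (pk L 13 r.1) = entM M r.1 j.1 := by
  have h1 := all22_spec h j
  rw [Bool.or_eq_true, Bool.or_eq_true] at h1
  rcases h1 with h1 | h1 | h1
  · exact absurd (Nat.eq_of_beq_eq_true h1) hp
  · exact absurd (Nat.eq_of_beq_eq_true h1) hq
  · obtain ⟨z, hz, hk⟩ := d3_sound h2 h1
    refine ⟨z, ?_, fun r => rowsOK_spec hk r⟩
    have h3 := up_e64 F (bA j)
    rw [← hz, ← map_smul, ← h3, T3_apply]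
    rfl

theorem expand {u : Lane U → F} (hu : ∀ i, ¬ Cd.isU i → u i = 0) (h0 : u bI = 0) :
    u = ∑ j : Fin 22, u (bA j) • Pi.single (bA j) 1 := by
  funext i
  rw [Finset.sum_apply]
  simp only [Pi.smul_apply, smul_eq_mul]
  by_cases hi : Cd.isU i
  · rcases BTI.U_cases i hi with rfl | ⟨j, rfl⟩
    · rw [h0, Finset.sum_eq_zero]
      intro j _
      rw [Pi.single_eq_of_ne, mul_zero]
      intro h
      have := congrArg Subtype.val h
      change 1344 = 1344 + (j.1 + 1) at this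
      omega
    · rw [Finset.sum_eq_single j]
      · rw [Pi.single_eq_same, mul_one]
      · intro k _ hk
        rw [Pi.single_eq_of_ne, mul_zero]
        intro h
        have := congrArg Subtype.val h
        change 1344 + (j.1 + 1) = 1344 + (k.1 + 1) at this
        exact hk (Fin.ext (by omega))
      · intro h; exact absurd (Finset.mem_univ _) h
  · rw [hu i hi, Finset.sum_eq_zero]
    intro j _
    rw [Pi.single_eq_of_ne, mul_zero]
    rintro rfl
    exact hi (BTI.isU_A j)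

include h2 in
theorem kernel_zero (T : Module.End F (Lane U → F)) {p q L M N : ℕ}
    (hL : ∀ r : Fin 20, U.testBit (pk L 13 r.1) = true)
    (hc : ∀ j : Fin 22, j.1 ≠ p → j.1 ≠ q → ∃ y : Pl, (64 : F) • T (Pi.single (bA j) 1) = up F (zv y) ∧
      ∀ r : Fin 20, val y (pk L 13 r.1) = entM M r.1 j.1)
    (hN : ∀ j k : Fin 22, k.1 ≠ p → k.1 ≠ q →
      ∑ r : Fin 20, entN N j.1 r.1 * entM M r.1 k.1 = if j = k then 32 else 0)
    {u : Lane U → F} (hu : ∀ i, ¬ Cd.isU i → u i = 0) (h0 : u bI = 0)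
    (hpq : ∀ j : Fin 22, j.1 = p ∨ j.1 = q → u (bA j) = 0) (hT : T u = 0) : u = 0 := by
  have hrow : ∀ r : Fin 20, ∑ j : Fin 22, u (bA j) * (entM M r.1 j.1 : F) = 0 := by
    intro r
    have h1 : (64 : F) • T u = ∑ j : Fin 22, u (bA j) • ((64 : F) • T (Pi.single (bA j) 1)) := by
      conv_lhs => rw [expand hu h0]
      rw [map_sum, Finset.smul_sum]
      refine Finset.sum_congr rfl fun j _ => ?_
      rw [map_smul, smul_comm]
    rw [hT, smul_zero] at h1
    obtain ⟨ln, hln⟩ : ∃ l : Lane U, l.1 = pk L 13 r.1 := ⟨⟨_, hL r⟩, rfl⟩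
    have h3 := congrFun h1 ln
    rw [Finset.sum_apply, Pi.zero_apply] at h3
    rw [h3]
    refine Finset.sum_congr rfl fun j _ => ?_
    rw [Pi.smul_apply, smul_eq_mul]
    by_cases hj : j.1 = p ∨ j.1 = q
    · rw [hpq j hj, zero_mul, zero_mul]
    · push Not at hj
      obtain ⟨y, hy, hv⟩ := hc j hj.1 hj.2
      rw [hy]
      show _ = _ * ((val y ln.1 : ℤ) : F)
      rw [hln, hv r]
  have h32 : (32 : F) ≠ 0 := by
    have : (32 : F) = 2 ^ 5 := by norm_num
    rw [this]; exact pow_ne_zero 5 h2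
  have hz : ∀ j : Fin 22, u (bA j) = 0 := by
    intro j
    have h1 : ∑ r : Fin 20, (entN N j.1 r.1 : F) * ∑ k : Fin 22, u (bA k) * (entM M r.1 k.1 : F) = 0 :=
      Finset.sum_eq_zero fun r _ => by rw [hrow r, mul_zero]
    have h3 : ∑ r : Fin 20, (entN N j.1 r.1 : F) * ∑ k : Fin 22, u (bA k) * (entM M r.1 k.1 : F) =
        ∑ k : Fin 22, u (bA k) * ((∑ r : Fin 20, entN N j.1 r.1 * entM M r.1 k.1 : ℤ) : F) := by
      simp only [Finset.mul_sum]
      rw [Finset.sum_comm]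
      refine Finset.sum_congr rfl fun k _ => ?_
      rw [Int.cast_sum, Finset.mul_sum]
      refine Finset.sum_congr rfl fun r _ => ?_
      rw [Int.cast_mul]
      ring
    rw [h3, Finset.sum_eq_single j] at h1
    · by_cases hj : j.1 = p ∨ j.1 = q
      · exact hpq j hj
      · push Not at hj
        rw [hN j j hj.1 hj.2, if_pos rfl, Int.cast_ofNat] at h1
        exact (mul_eq_zero.1 h1).resolve_right h32
    · intro k _ hk
      by_cases hj : k.1 = p ∨ k.1 = q
      · rw [hpq k hj, zero_mul]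
      · push Not at hj
        rw [hN j k hj.1 hj.2, if_neg (Ne.symm hk), Int.cast_zero, mul_zero]
    · intro h; exact absurd (Finset.mem_univ _) h
  rw [expand hu h0]
  exact Finset.sum_eq_zero fun j _ => by rw [hz j, zero_smul]

theorem kc_of {t5 a b : G} (h5a : t5 * a = a * t5) (h5b : t5 * b = b * t5) (hab : a * b = b * a)
    {Ia Ib : Lane U → F} (fa : sigma h2 a Ia = Ia) (fb : sigma h2 b Ib = Ib)
    (f5 : sigma h2 t5 (Pi.single bI 1) = Pi.single bI 1)
    (Ua : ∀ i, ¬ Cd.isU i → Ia i = 0) (Ub : ∀ i, ¬ Cd.isU i → Ib i = 0) {p q : Fin 22} {sa sb : F}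
    (hsa : sa ≠ 0) (hsb : sb ≠ 0)
    (ap : Ia (bA p) = sa) (aq : Ia (bA q) = 0) (bp : Ib (bA p) = 0) (bq : Ib (bA q) = sb)
    (ker : ∀ u : Lane U → F, (∀ i, ¬ Cd.isU i → u i = 0) → u bI = 0 → (∀ j : Fin 22, j.1 = p.1 ∨ j.1 = q.1 → u (bA j) = 0) →
      T3 h2 t5 a b u = 0 → u = 0) :
    Kc (sigma h2) D t5 (Pi.single bI 1 : Lane U → F) a b := by
  intro u hu hT
  rw [inU_iff, BE.mem_U] at hu
  have hu' : ∀ i, ¬ Cd.isU i → u i = 0 := by
    have : u ∈ BE.U (M h2) := by rw [BE.mem_U]; exact hu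
    exact this
  have e5a : (1 - sigma h2 t5) * (1 - sigma h2 a) = (1 - sigma h2 a) * (1 - sigma h2 t5) := by
    have : sigma h2 t5 * sigma h2 a = sigma h2 a * sigma h2 t5 := by rw [← map_mul, h5a, map_mul]
    rw [sub_mul, sub_mul, one_mul, one_mul, mul_sub, mul_sub, mul_one, mul_one, this]
    abel
  have e5b : (1 - sigma h2 t5) * (1 - sigma h2 b) = (1 - sigma h2 b) * (1 - sigma h2 t5) := by
    have : sigma h2 t5 * sigma h2 b = sigma h2 b * sigma h2 t5 := by rw [← map_mul, h5b, map_mul]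
    rw [sub_mul, sub_mul, one_mul, one_mul, mul_sub, mul_sub, mul_one, mul_one, this]
    abel
  have eab : (1 - sigma h2 a) * (1 - sigma h2 b) = (1 - sigma h2 b) * (1 - sigma h2 a) := by
    have : sigma h2 a * sigma h2 b = sigma h2 b * sigma h2 a := by rw [← map_mul, hab, map_mul]
    rw [sub_mul, sub_mul, one_mul, one_mul, mul_sub, mul_sub, mul_one, mul_one, this]
    abel
  have za : (1 - sigma h2 a) Ia = 0 := by
    show Ia - sigma h2 a Ia = 0
    rw [fa, sub_self]
  have zb : (1 - sigma h2 b) Ib = 0 := by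
    show Ib - sigma h2 b Ib = 0
    rw [fb, sub_self]
  have z5 : (1 - sigma h2 t5) (Pi.single bI 1 : Lane U → F) = 0 := by
    show (Pi.single bI 1 : Lane U → F) - sigma h2 t5 (Pi.single bI 1) = 0
    rw [f5, sub_self]
  have hABa : ((1 - sigma h2 a) * (1 - sigma h2 b)) Ia = 0 := by
    rw [eab, Module.End.mul_apply, za, map_zero]
  have hABb : ((1 - sigma h2 a) * (1 - sigma h2 b)) Ib = 0 := by
    rw [Module.End.mul_apply, zb, map_zero]
  have hT0 : T3 h2 t5 a b (Pi.single bI 1) = 0 := by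
    unfold T3
    rw [e5a, mul_assoc, e5b, Module.End.mul_apply, Module.End.mul_apply, z5, map_zero, map_zero]
  have hTa : T3 h2 t5 a b Ia = 0 := by
    unfold T3
    rw [mul_assoc, Module.End.mul_apply, hABa, map_zero]
  have hTb : T3 h2 t5 a b Ib = 0 := by
    unfold T3
    rw [mul_assoc, Module.End.mul_apply, hABb, map_zero]
  set α : F := u (bA p) / sa with hα
  set β : F := u (bA q) / sb with hβ
  set c : F := u bI - α * Ia bI - β * Ib bI with hc
  have hne : ∀ j, bA j ≠ bI := by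
    intro j h
    have := congrArg Subtype.val h
    change 1344 + (j.1 + 1) = 1344 at this
    omega
  have hker := ker (u - c • (Pi.single bI 1 : Lane U → F) - α • Ia - β • Ib) ?_ ?_ ?_ ?_
  · refine ⟨c, ?_⟩
    have h1 : u = c • (Pi.single bI 1 : Lane U → F) + α • Ia + β • Ib := by
      rw [sub_sub, sub_sub, sub_eq_zero] at hker
      rw [hker]
      abel
    have h3 : ∀ v : Lane U → F, Δ (sigma h2) a (Δ (sigma h2) b v) = ((1 - sigma h2 a) * (1 - sigma h2 b)) v :=
      fun v => rfl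
    rw [h3, h3]
    conv_lhs => rw [h1]
    rw [map_add, map_add, map_smul _ α, map_smul _ β, hABa, hABb, smul_zero, smul_zero, add_zero, add_zero]
  · intro i hi
    have h1 : (Pi.single bI 1 : Lane U → F) i = 0 := by
      rw [Pi.single_eq_of_ne]
      rintro rfl
      exact hi BTI.isU_I
    rw [Pi.sub_apply, Pi.sub_apply, Pi.sub_apply, Pi.smul_apply, Pi.smul_apply, Pi.smul_apply, hu' i hi, h1, Ua i hi,
      Ub i hi]
    simp
  · rw [Pi.sub_apply, Pi.sub_apply, Pi.sub_apply, Pi.smul_apply, Pi.smul_apply, Pi.smul_apply, Pi.single_eq_same,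
      smul_eq_mul, smul_eq_mul, smul_eq_mul, hc]
    ring
  · intro j hj
    rw [Pi.sub_apply, Pi.sub_apply, Pi.sub_apply, Pi.smul_apply, Pi.smul_apply, Pi.smul_apply,
      Pi.single_eq_of_ne (hne j), smul_eq_mul, smul_eq_mul, smul_eq_mul]
    rcases hj with hj | hj
    · obtain rfl : j = p := Fin.ext hj
      rw [ap, bp, hα]
      field_simp
      ring
    · obtain rfl : j = q := Fin.ext hj
      rw [aq, bq, hβ]
      field_simp
      ring
  · rw [map_sub, map_sub, map_sub, map_smul, map_smul, map_smul, hT0, hTa, hTb, T3_apply, hT]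
    simp

end

end Cfsg.Agent.H863.SKer
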