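import Mathlib
import Cfsg.Agent.H863.SMod
import Cfsg.Agent.H863.SChkA
import Cfsg.Agent.H863.SChkB
import Cfsg.Agent.H863.SChkC

/-!
# The pair conditions for the even generators (helper863, for S5590)
-/

set_option autoImplicit false
set_option Elab.async false

namespace Cfsg.Agent.H863.SPair

open Cfsg.Agent.Monster Cfsg.Agent.Monster.VecEngine Cfsg.Agent.Monster.VecSpace
open Cfsg.Agent.Monster.PauliBasic Cfsg.Agent.Monster.PauliRep Cfsg.Agent.Monster.PauliClif Cfsg.Agent.Monster.PauliBits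
open Cfsg.Agent.BabyM.QAct Cfsg.Agent.BabyM.QData Cfsg.Agent.BabyM.QData.Good Cfsg.Agent.BabyM.KRow
open Cfsg.Agent.BabyM.Conc Cfsg.Agent.BabyM.KTab Cfsg.Agent.BabyM.KQ
open Cfsg.Agent.BabyM
open Cfsg.Agent.H863.BRep Cfsg.Agent.H863.BCode
open Cfsg.Agent.H863.STT Cfsg.Agent.H863.SLift Cfsg.Agent.H863.SData Cfsg.Agent.H863.SMod
open Cfsg.Spor.BabyMonster

theorem cb_all {t : Gen} (h0 : gW (cb t 0) * x t = x t * gW (cb t 0)) (h1 : gW (cb t 1) * x t = x t * gW (cb t 1))
    (h2 : gW (cb t 2) * x t = x t * gW (cb t 2)) (h3 : gW (cb t 3) * x t = x t * gW (cb t 3))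
    (h4 : gW (cb t 4) * x t = x t * gW (cb t 4)) (h5 : gW (cb t 5) * x t = x t * gW (cb t 5))
    (h6 : gW (cb t 6) * x t = x t * gW (cb t 6)) (h7 : gW (cb t 7) * x t = x t * gW (cb t 7))
    (h8 : gW (cb t 8) * x t = x t * gW (cb t 8)) (h9 : gW (cb t 9) * x t = x t * gW (cb t 9))
    (h10 : gW (cb t 10) * x t = x t * gW (cb t 10)) : ∀ k < 11, gW (cb t k) * x t = x t * gW (cb t k) := by
  intro k hk
  interval_cases k
  exacts [h0, h1, h2, h3, h4, h5, h6, h7, h8, h9, h10]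

theorem sq_word {v : List Ltr} (h : (v ++ v).all isq = true) (h0 : cw (v ++ v) = 0) : gW v * gW v = 1 := by
  rw [← gW_append, gW_R h, h0, dec_zero, map_one]

theorem comm_x {a b : Gen} (h : BM.StageW.chk (BM.StageW.tw a ++ BM.StageW.tw b) (BM.StageW.tw b ++ BM.StageW.tw a) = true) :
    x a * x b = x b * x a := BM.StageW.comm_of Instance.all Instance.ok h

theorem braid_x {a b : Gen} (h : BM.StageW.chk (BM.StageW.tw a ++ BM.StageW.tw b ++ BM.StageW.tw a)
    (BM.StageW.tw b ++ BM.StageW.tw a ++ BM.StageW.tw b) = true) :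
    x a * x b * x a = x b * x a * x b := BM.StageW.braid_of Instance.all Instance.ok h

theorem f1 : Fct .t1 0x17742f where
  za := za_eq SChkA.z1 (by decide +kernel) (by decide +kernel)
  cb := cb_all (comm_chk SChkA.c1_0) (comm_chk SChkA.c1_1) (comm_chk SChkA.c1_2) (comm_chk SChkA.c1_3) (comm_chk SChkA.c1_4) (comm_chk SChkA.c1_5) (comm_chk SChkA.c1_6) (comm_chk SChkA.c1_7) (comm_chk SChkA.c1_8) (comm_chk SChkA.c1_9) (comm_chk SChkA.c1_10)

theorem f3 : Fct .t3 0x1efdf3 where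
  za := za_eq SChkA.z3 (by decide +kernel) (by decide +kernel)
  cb := cb_all (comm_chk SChkA.c3_0) (comm_chk SChkA.c3_1) (comm_chk SChkA.c3_2) (comm_chk SChkA.c3_3) (comm_chk SChkA.c3_4) (comm_chk SChkA.c3_5) (comm_chk SChkA.c3_6) (comm_chk SChkA.c3_7) (comm_chk SChkA.c3_8) (comm_chk SChkA.c3_9) (comm_chk SChkA.c3_10)

theorem f5 : Fct .t5 0x400400 where
  za := za_eq SChkA.z5 (by decide +kernel) (by decide +kernel)
  cb := cb_all (comm_chk SChkA.c5_0) (comm_chk SChkA.c5_1) (comm_chk SChkA.c5_2) (comm_chk SChkA.c5_3) (comm_chk SChkA.c5_4) (comm_chk SChkA.c5_5) (comm_chk SChkA.c5_6) (comm_chk SChkA.c5_7) (comm_chk SChkA.c5_8) (comm_chk SChkA.c5_9) (comm_chk SChkA.c5_10)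

theorem f7 : Fct .t7 0xfb42c where
  za := za_eq SChkA.z7 (by decide +kernel) (by decide +kernel)
  cb := cb_all (comm_chk SChkA.c7_0) (comm_chk SChkA.c7_1) (comm_chk SChkA.c7_2) (comm_chk SChkA.c7_3) (comm_chk SChkA.c7_4) (comm_chk SChkA.c7_5) (comm_chk SChkA.c7_6) (comm_chk SChkA.c7_7) (comm_chk SChkA.c7_8) (comm_chk SChkA.c7_9) (comm_chk SChkA.c7_10)

theorem f10 : Fct .t10 0x5f7a49 where
  za := za_eq SChkA.z10 (by decide +kernel) (by decide +kernel)
  cb := cb_all (comm_chk SChkA.c10_0) (comm_chk SChkA.c10_1) (comm_chk SChkA.c10_2) (comm_chk SChkA.c10_3) (comm_chk SChkA.c10_4) (comm_chk SChkA.c10_5) (comm_chk SChkA.c10_6) (comm_chk SChkA.c10_7) (comm_chk SChkA.c10_8) (comm_chk SChkA.c10_9) (comm_chk SChkA.c10_10)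

theorem s1 : ∃ S : Subgroup G, TT S ∧ x .t1 ∈ S ∧ D.Q ≤ S :=
  single SChkA.z1 (by decide +kernel) (cz := 0x17742f) (by decide +kernel) (o := BM.StageW.tw .t2) (co := 0x6e3)
    (by decide +kernel) (by decide +kernel) (x_sq .t2) (braid_x BM.StageW.c1_2) (by decide +kernel)

theorem s3 : ∃ S : Subgroup G, TT S ∧ x .t3 ∈ S ∧ D.Q ≤ S :=
  single SChkA.z3 (by decide +kernel) (cz := 0x1efdf3) (by decide +kernel) (o := BM.StageW.tw .t2) (co := 0x6e3)
    (by decide +kernel) (by decide +kernel) (x_sq .t2) ((braid_x BM.StageW.c2_3).symm) (by decide +kernel)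

theorem s5 : ∃ S : Subgroup G, TT S ∧ x .t5 ∈ S ∧ D.Q ≤ S :=
  single SChkA.z5 (by decide +kernel) (cz := 0x400400) (by decide +kernel) (o := BM.StageW.tw .t4) (co := 0x26b4a8)
    (by decide +kernel) (by decide +kernel) (x_sq .t4) ((braid_x BM.StageW.c4_5).symm) (by decide +kernel)

theorem s7 : ∃ S : Subgroup G, TT S ∧ x .t7 ∈ S ∧ D.Q ≤ S :=
  single SChkA.z7 (by decide +kernel) (cz := 0xfb42c) (by decide +kernel) (o := BM.StageW.tw .t6) (co := 0x35e448)
    (by decide +kernel) (by decide +kernel) (x_sq .t6) ((braid_x BM.StageW.c6_7).symm) (by decide +kernel)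

theorem s10 : ∃ S : Subgroup G, TT S ∧ x .t10 ∈ S ∧ D.Q ≤ S :=
  single SChkA.z10 (by decide +kernel) (cz := 0x5f7a49) (by decide +kernel) (o := BM.StageW.tw .t9) (co := 0x21a14b)
    (by decide +kernel) (by decide +kernel) (x_sq .t9) ((braid_x BM.StageW.c9_10).symm) (by decide +kernel)

theorem c1_3 : x .t1 * x .t3 = x .t3 * x .t1 := comm_x BM.StageW.c1_3

theorem l1_3 : lanesOK (0x201000 :: (A1_3.map Prod.snd ++ B1_3.map Prod.snd)) = true := by decide +kernel

theorem p1_3 {F : Type*} [Field F] (h2 : (2 : F) ≠ 0) : Pair (sigma h2) D (x .t1) (x .t3) :=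
  pair_of h2 f1 f3 c1_3 (v := r1_3) (by decide +kernel) (cr := 0x201000) (by decide +kernel)
    (sq_word (by decide +kernel) (by decide +kernel)) (A := A1_3) (B := B1_3) (by decide +kernel) (by decide +kernel)
    (by decide +kernel) (by decide +kernel) l1_3 SChkB.z1_3 SChkB.k1_3 SChkB.m1_3 SChkB.n1_3 SChkB.y1_3

theorem c1_5 : x .t1 * x .t5 = x .t5 * x .t1 := comm_x BM.StageW.c1_5

theorem l1_5 : lanesOK (0x99808 :: (A1_5.map Prod.snd ++ B1_5.map Prod.snd)) = true := by decide +kernel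

theorem p1_5 {F : Type*} [Field F] (h2 : (2 : F) ≠ 0) : Pair (sigma h2) D (x .t1) (x .t5) :=
  pair_of h2 f1 f5 c1_5 (v := r1_5) (by decide +kernel) (cr := 0x99808) (by decide +kernel)
    (sq_word (by decide +kernel) (by decide +kernel)) (A := A1_5) (B := B1_5) (by decide +kernel) (by decide +kernel)
    (by decide +kernel) (by decide +kernel) l1_5 SChkB.z1_5 SChkB.k1_5 SChkB.m1_5 SChkB.n1_5 SChkB.y1_5

theorem c1_7 : x .t1 * x .t7 = x .t7 * x .t1 := comm_x BM.StageW.c1_7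

theorem l1_7 : lanesOK (0x220a20 :: (A1_7.map Prod.snd ++ B1_7.map Prod.snd)) = true := by decide +kernel

theorem p1_7 {F : Type*} [Field F] (h2 : (2 : F) ≠ 0) : Pair (sigma h2) D (x .t1) (x .t7) :=
  pair_of h2 f1 f7 c1_7 (v := r1_7) (by decide +kernel) (cr := 0x220a20) (by decide +kernel)
    (sq_word (by decide +kernel) (by decide +kernel)) (A := A1_7) (B := B1_7) (by decide +kernel) (by decide +kernel)
    (by decide +kernel) (by decide +kernel) l1_7 SChkB.z1_7 SChkB.k1_7 SChkB.m1_7 SChkB.n1_7 SChkB.y1_7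

theorem c1_10 : x .t1 * x .t10 = x .t10 * x .t1 := comm_x BM.StageW.c1_10

theorem l1_10 : lanesOK (0x340040 :: (A1_10.map Prod.snd ++ B1_10.map Prod.snd)) = true := by decide +kernel

theorem p1_10 {F : Type*} [Field F] (h2 : (2 : F) ≠ 0) : Pair (sigma h2) D (x .t1) (x .t10) :=
  pair_of h2 f1 f10 c1_10 (v := r1_10) (by decide +kernel) (cr := 0x340040) (by decide +kernel)
    (sq_word (by decide +kernel) (by decide +kernel)) (A := A1_10) (B := B1_10) (by decide +kernel) (by decide +kernel)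
    (by decide +kernel) (by decide +kernel) l1_10 SChkB.z1_10 SChkB.k1_10 SChkB.m1_10 SChkB.n1_10 SChkB.y1_10

theorem c3_5 : x .t3 * x .t5 = x .t5 * x .t3 := comm_x BM.StageW.c3_5

theorem l3_5 : lanesOK (0x15a040 :: (A3_5.map Prod.snd ++ B3_5.map Prod.snd)) = true := by decide +kernel

theorem p3_5 {F : Type*} [Field F] (h2 : (2 : F) ≠ 0) : Pair (sigma h2) D (x .t3) (x .t5) :=
  pair_of h2 f3 f5 c3_5 (v := r3_5) (by decide +kernel) (cr := 0x15a040) (by decide +kernel)
    (sq_word (by decide +kernel) (by decide +kernel)) (A := A3_5) (B := B3_5) (by decide +kernel) (by decide +kernel)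
    (by decide +kernel) (by decide +kernel) l3_5 SChkB.z3_5 SChkB.k3_5 SChkB.m3_5 SChkB.n3_5 SChkB.y3_5

theorem c3_7 : x .t3 * x .t7 = x .t7 * x .t3 := comm_x BM.StageW.c3_7

theorem l3_7 : lanesOK (0x304030 :: (A3_7.map Prod.snd ++ B3_7.map Prod.snd)) = true := by decide +kernel

theorem p3_7 {F : Type*} [Field F] (h2 : (2 : F) ≠ 0) : Pair (sigma h2) D (x .t3) (x .t7) :=
  pair_of h2 f3 f7 c3_7 (v := r3_7) (by decide +kernel) (cr := 0x304030) (by decide +kernel)
    (sq_word (by decide +kernel) (by decide +kernel)) (A := A3_7) (B := B3_7) (by decide +kernel) (by decide +kernel)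
    (by decide +kernel) (by decide +kernel) l3_7 SChkC.z3_7 SChkC.k3_7 SChkC.m3_7 SChkC.n3_7 SChkC.y3_7

theorem c3_10 : x .t3 * x .t10 = x .t10 * x .t3 := comm_x BM.StageW.c3_10

theorem l3_10 : lanesOK (0x201000 :: (A3_10.map Prod.snd ++ B3_10.map Prod.snd)) = true := by decide +kernel

theorem p3_10 {F : Type*} [Field F] (h2 : (2 : F) ≠ 0) : Pair (sigma h2) D (x .t3) (x .t10) :=
  pair_of h2 f3 f10 c3_10 (v := r3_10) (by decide +kernel) (cr := 0x201000) (by decide +kernel)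
    (sq_word (by decide +kernel) (by decide +kernel)) (A := A3_10) (B := B3_10) (by decide +kernel) (by decide +kernel)
    (by decide +kernel) (by decide +kernel) l3_10 SChkC.z3_10 SChkC.k3_10 SChkC.m3_10 SChkC.n3_10 SChkC.y3_10

theorem c5_7 : x .t5 * x .t7 = x .t7 * x .t5 := comm_x BM.StageW.c5_7

theorem l5_7 : lanesOK (0x167c00 :: (A5_7.map Prod.snd ++ B5_7.map Prod.snd)) = true := by decide +kernel

theorem p5_7 {F : Type*} [Field F] (h2 : (2 : F) ≠ 0) : Pair (sigma h2) D (x .t5) (x .t7) :=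
  pair_of h2 f5 f7 c5_7 (v := r5_7) (by decide +kernel) (cr := 0x167c00) (by decide +kernel)
    (sq_word (by decide +kernel) (by decide +kernel)) (A := A5_7) (B := B5_7) (by decide +kernel) (by decide +kernel)
    (by decide +kernel) (by decide +kernel) l5_7 SChkC.z5_7 SChkC.k5_7 SChkC.m5_7 SChkC.n5_7 SChkC.y5_7

theorem c5_10 : x .t5 * x .t10 = x .t10 * x .t5 := comm_x BM.StageW.c5_10

theorem l5_10 : lanesOK (0x99880 :: (A5_10.map Prod.snd ++ B5_10.map Prod.snd)) = true := by decide +kernel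

theorem p5_10 {F : Type*} [Field F] (h2 : (2 : F) ≠ 0) : Pair (sigma h2) D (x .t5) (x .t10) :=
  pair_of h2 f5 f10 c5_10 (v := r5_10) (by decide +kernel) (cr := 0x99880) (by decide +kernel)
    (sq_word (by decide +kernel) (by decide +kernel)) (A := A5_10) (B := B5_10) (by decide +kernel) (by decide +kernel)
    (by decide +kernel) (by decide +kernel) l5_10 SChkC.z5_10 SChkC.k5_10 SChkC.m5_10 SChkC.n5_10 SChkC.y5_10

theorem c7_10 : x .t7 * x .t10 = x .t10 * x .t7 := comm_x BM.StageW.c7_10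

theorem l7_10 : lanesOK (0x340040 :: (A7_10.map Prod.snd ++ B7_10.map Prod.snd)) = true := by decide +kernel

theorem p7_10 {F : Type*} [Field F] (h2 : (2 : F) ≠ 0) : Pair (sigma h2) D (x .t7) (x .t10) :=
  pair_of h2 f7 f10 c7_10 (v := r7_10) (by decide +kernel) (cr := 0x340040) (by decide +kernel)
    (sq_word (by decide +kernel) (by decide +kernel)) (A := A7_10) (B := B7_10) (by decide +kernel) (by decide +kernel)
    (by decide +kernel) (by decide +kernel) l7_10 SChkC.z7_10 SChkC.k7_10 SChkC.m7_10 SChkC.n7_10 SChkC.y7_10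

end Cfsg.Agent.H863.SPair
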