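import Mathlib
import Cfsg.Agent.H863.SKer
import Cfsg.Agent.H863.SPair

/-!
# The kernel of `(1 - t5)(1 - ta)(1 - tb)` on `U` (helper863, for S5590)
-/

set_option autoImplicit false
set_option maxRecDepth 20000

namespace Cfsg.Agent.H863.SKer

open Cfsg.Agent.Monster Cfsg.Agent.Monster.VecEngine Cfsg.Agent.Monster.VecSpace
open Cfsg.Agent.BabyM.Conc Cfsg.Agent.BabyM.KTab Cfsg.Agent.BabyM.KRow
open Cfsg.Agent.BabyM
open Cfsg.Agent.H863.BRed Cfsg.Agent.H863.BRep Cfsg.Agent.H863.BVec Cfsg.Agent.H863.BGrp
open Cfsg.Agent.H863.SLift Cfsg.Agent.H863.SMod Cfsg.Agent.H863.BInst Cfsg.Agent.H863.BCheck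
open Cfsg.Spor.BabyMonster

/-! ### The axes -/

/-- Planes of a vector on `U`. -/
def pl3 (a b s : ℕ) : Pl := .cons (Nat.shiftLeft a 1344) (.cons (Nat.shiftLeft b 1344) (.sgn (Nat.shiftLeft s 1344)))

theorem bt_out {a : ℕ} (ha : a < 2 ^ 23) {i : Lane U} (hi : ¬ Cd.isU i) : bt (Nat.shiftLeft a 1344) i.1 = 0 := by
  unfold bt
  rw [if_neg]
  intro h
  have h1 : (a <<< 1344).testBit i.1 = true := h
  rw [Nat.testBit_shiftLeft, Bool.and_eq_true, decide_eq_true_eq] at h1
  obtain ⟨h3, h4⟩ := h1
  have h5 : i.1 - 1344 < 23 := by
    by_contra hc
    rw [Nat.testBit_lt_two_pow (lt_of_lt_of_le ha (Nat.pow_le_pow_right (by norm_num) (not_lt.1 hc)))] at h4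
    exact absurd h4 (by simp)
  apply hi
  by_cases h0 : i.1 = 1344
  · have : i = bI := Subtype.ext h0
    rw [this]; exact BTI.isU_I
  · have : i = bA ⟨i.1 - 1345, by omega⟩ := by
      apply Subtype.ext
      show i.1 = 1344 + (i.1 - 1345 + 1)
      omega
    rw [this]; exact BTI.isU_A _

theorem pl3_out {a b s : ℕ} (ha : a < 2 ^ 23) (hb : b < 2 ^ 23) (hs : s < 2 ^ 23) {i : Lane U} (hi : ¬ Cd.isU i)
    (F : Type*) [Field F] : (up F (zv (pl3 a b s)) : Lane U → F) i = 0 := by
  show ((bt (Nat.shiftLeft a 1344) i.1 + 2 * (bt (Nat.shiftLeft b 1344) i.1 + 2 * - bt (Nat.shiftLeft s 1344) i.1) : ℤ) : F) = 0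
  rw [bt_out ha hi, bt_out hb hi, bt_out hs hi]
  simp

section

variable {F : Type*} [Field F] (h2 : (2 : F) ≠ 0)

theorem fix_word {v : List Ltr} {x : Pl} (h : checkFix (v.map Ltr.prog) x = true) :
    sigma h2 (gW v) (up F (zv x)) = up F (zv x) :=
  tr h2 (gW v) (x := zv x) (y := zv x) (W_fix_of_check h)

theorem up_val {x : Pl} {i : Lane U} {m : ℤ} (h : val x i.1 = m) : (up F (zv x) : Lane U → F) i = (m : F) := by
  show ((val x i.1 : ℤ) : F) = _
  rw [h]

end

/-- The axis of `t1`. -/
def I1 : Pl := pl3 0x223404 0x20401 0x20401

theorem fix_I1 : checkFix ((BM.StageW.tw .t1).map Ltr.prog) I1 = true := by decide +kernel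

/-- The axis of `t3`. -/
def I3 : Pl := pl3 0x41906 0x40003 0x40003

theorem fix_I3 : checkFix ((BM.StageW.tw .t3).map Ltr.prog) I3 = true := by decide +kernel

/-- The axis of `t7`. -/
def I7 : Pl := pl3 0x412016 0x412005 0x412004

theorem fix_I7 : checkFix ((BM.StageW.tw .t7).map Ltr.prog) I7 = true := by decide +kernel

/-- The axis of `t10`. -/
def I10 : Pl := pl3 0x21252 0x1201 0x1200

theorem fix_I10 : checkFix ((BM.StageW.tw .t10).map Ltr.prog) I10 = true := by decide +kernel

theorem fix_5 : checkFix ((BM.StageW.tw .t5).map Ltr.prog) (p1 1344) = true := by decide +kernel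

theorem f5 {F : Type*} [Field F] (h2 : (2 : F) ≠ 0) :
    sigma h2 (x .t5) (Pi.single bI 1 : Lane U → F) = Pi.single bI 1 := by
  have h1 := fix_word h2 fix_5
  have h3 := up_p1 F bI
  change up F (zv (p1 1344)) = _ at h3
  rw [h3] at h1
  exact h1

/-! ### `t1, t3` -/

def L1_3 : ℕ := 0x6820ed058829413208d03a817402a0007001f00a8a4a524690f42ba03d014150

def M1_3 : ℕ := 0x4038404050484040403850504040304040404040504038404040404040404040404040484038404840404040404040384040403848404040404040404040484040403840404040404040404040404038403840384040404038404040404040404040404040384048404840404040404048404040384040404040404040404840403840404040404840404048484040404040404040404840404040403840404038404040404040404040484040484040404040484040403838404040404040404040484040404040384040404840404040404040404048404038404048404040404040404040404040384038404840404040404048404040484040404040404040404840404840404040403840404048384040404040404040404840404040404040484040404040404840403840404040404040404040403840404040404048404038404040404040404040404038404040404040384040384040404040404040484040403840404038404040404040404040404040403840404038404040484040404040404040404040404038404040384040403840404040404040404040404040404040404040404040484040404040404040403840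

def N1_3 : ℕ := 0x878778888898888888888888888888888888a86888888987878988888888887888989888788888888888888888888a6888888888888888888888668888888787898988888888887888987888988888888898889878887888888888888888888888888a689888888888888688997a88888888888888a6888888888888888888888888898778888878888888888888888888888686888887879888887888888888888889898989888888888987988888988888888888988898988898888888888887898789888888889888888888888688997688888888888888888888

theorem lanes1_3 : ∀ r : Fin 20, U.testBit (pk L1_3 13 r.1) = true := by decide +kernel

theorem cols1_3 : colsOK ((BM.StageW.tw .t5).map Ltr.prog) ((BM.StageW.tw .t1).map Ltr.prog)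
    ((BM.StageW.tw .t3).map Ltr.prog) L1_3 M1_3 9 0 = true := by decide +kernel

theorem inv1_3 : ∀ j k : Fin 22, k.1 ≠ 9 → k.1 ≠ 0 →
    ∑ r : Fin 20, entN N1_3 j.1 r.1 * entM M1_3 r.1 k.1 = if j = k then 32 else 0 := by decide +kernel

theorem kc1_3 {F : Type*} [Field F] (h2 : (2 : F) ≠ 0) :
    Kc (sigma h2) D (x .t5) (Pi.single bI 1 : Lane U → F) (x .t1) (x .t3) :=
  kc_of h2 (t5 := x .t5) (a := x .t1) (b := x .t3) (p := 9) (q := 0) SPair.c1_5.symm SPair.c3_5.symm SPair.c1_3
    (Ia := up F (zv I1)) (Ib := up F (zv I3))
    (fix_word h2 fix_I1) (fix_word h2 fix_I3) (f5 h2)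
    (fun i hi => pl3_out (by norm_num) (by norm_num) (by norm_num) hi F)
    (fun i hi => pl3_out (by norm_num) (by norm_num) (by norm_num) hi F)
    (sa := ((-1 : ℤ) : F)) (sb := ((-1 : ℤ) : F)) (by simp) (by simp)
    (up_val (by decide +kernel)) ((up_val (m := 0) (by decide +kernel)).trans Int.cast_zero)
    ((up_val (m := 0) (by decide +kernel)).trans Int.cast_zero) (up_val (by decide +kernel))
    (fun u hu h0 hpq hT => kernel_zero h2 _ lanes1_3 (cols_spec h2 cols1_3) inv1_3 hu h0 hpq hT)

/-! ### `t1, t7` -/

def L1_7 : ℕ := 0x161217909884a423207902880c40520004c00f00202961498a0a4a62519218043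

def M1_7 : ℕ := 0x3850404040503840405030404040404040404840504040404040484040404840404040484040484040404040404040404040404840404048404040484040404840404040404040404048404040484040403840404038404040404040484040403840404040384040484040404040404038484040404040404040404038404048404040404040404040404048404040384040403840404048404040404848404040404040404040403840403840404040404040404840404048404040403840403840404040404040384840404040404040404040484040384040404040403838404040404040404040403840403840404040404040403840404048404040403840404840404040404040404040404048404040384040404840404038404040484040403840404040384040404040404040404040404840404048404040404840404040404040404040404048404040484040404038404040404040404040404048404040404038404040404040404040404038404040484040404040484040404040404040404040484040404840404040403840404040404040404040404840404040404040404040404038404040404040404040404840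

def N1_7 : ℕ := 0x8888888888888888aa888888888888888aa88888888887898778888888888888898989788888888889889888988788888888888888888888868a888888888888888888888a6888998898888898888888898878889889888888889888888888888886997688888888888888a6888888998878888878888888888888888888888888888988788878878888888888888787897888888888889788788888988888888988988878898888888888888987877888888888888888888888888868a8889788988888788888889888888888888886997a88888888888888888888

theorem lanes1_7 : ∀ r : Fin 20, U.testBit (pk L1_7 13 r.1) = true := by decide +kernel

theorem cols1_7 : colsOK ((BM.StageW.tw .t5).map Ltr.prog) ((BM.StageW.tw .t1).map Ltr.prog)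
    ((BM.StageW.tw .t7).map Ltr.prog) L1_7 M1_7 9 0 = true := by decide +kernel

theorem inv1_7 : ∀ j k : Fin 22, k.1 ≠ 9 → k.1 ≠ 0 →
    ∑ r : Fin 20, entN N1_7 j.1 r.1 * entM M1_7 r.1 k.1 = if j = k then 32 else 0 := by decide +kernel

theorem kc1_7 {F : Type*} [Field F] (h2 : (2 : F) ≠ 0) :
    Kc (sigma h2) D (x .t5) (Pi.single bI 1 : Lane U → F) (x .t1) (x .t7) :=
  kc_of h2 (t5 := x .t5) (a := x .t1) (b := x .t7) (p := 9) (q := 0) SPair.c1_5.symm SPair.c5_7 SPair.c1_7
    (Ia := up F (zv I1)) (Ib := up F (zv I7))
    (fix_word h2 fix_I1) (fix_word h2 fix_I7) (f5 h2)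
    (fun i hi => pl3_out (by norm_num) (by norm_num) (by norm_num) hi F)
    (fun i hi => pl3_out (by norm_num) (by norm_num) (by norm_num) hi F)
    (sa := ((-1 : ℤ) : F)) (sb := ((1 : ℤ) : F)) (by simp) (by simp)
    (up_val (by decide +kernel)) ((up_val (m := 0) (by decide +kernel)).trans Int.cast_zero)
    ((up_val (m := 0) (by decide +kernel)).trans Int.cast_zero) (up_val (by decide +kernel))
    (fun u hu h0 hpq hT => kernel_zero h2 _ lanes1_7 (cols_spec h2 cols1_7) inv1_7 hu h0 hpq hT)

/-! ### `t1, t10` -/

def L1_10 : ℕ := 0x42a0fd076831418207103281740b204c8022120bc24fd26a91942ea0e906a170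

def M1_10 : ℕ := 0x4048404040504040404830403850404050403040404040404038404040404040404040404848404040484040404048404040403840404048404040404048404040404040404840404040404040404040384840404048404040403840404040384040403840404040404840404040404040384040404040404040404038484040403840404040484040404038404040384040404040384040404048404040484038404840404040404040404040404040384040404840484048404040404040404040404040403840404048403840384040404040404040404040404048404040484048403840404040404040404040404040404038404040403840404048404040404038404040404040404840404040404040404040484840404038404040404040404040404040404040484040484038404040404040404040404040404040404840403840484040404040404040404040404040404038404038403840404040484040404040404038404048404040404040404040403840404040404040384040384040404040404040404048404040404040403840403840404040404040404040404040403840404040384040404040404040404040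

def N1_10 : ℕ := 0x88888889779888888888888888888888888886a888987898888788888888878987888888988888888888888999988888888898888888888886889976888888879798888888888878787888878888888888888889977888888888888888888888888866887888888888888a887796889878788889888888888888888888888888a8688888888888888aa888888987878888889888888889898988888898888888888888888888886688888898987888878888888888888888888886868888898987888888788888888888888888888888888888888888888888888888

theorem lanes1_10 : ∀ r : Fin 20, U.testBit (pk L1_10 13 r.1) = true := by decide +kernel

theorem cols1_10 : colsOK ((BM.StageW.tw .t5).map Ltr.prog) ((BM.StageW.tw .t1).map Ltr.prog)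
    ((BM.StageW.tw .t10).map Ltr.prog) L1_10 M1_10 1 0 = true := by decide +kernel

theorem inv1_10 : ∀ j k : Fin 22, k.1 ≠ 1 → k.1 ≠ 0 →
    ∑ r : Fin 20, entN N1_10 j.1 r.1 * entM M1_10 r.1 k.1 = if j = k then 32 else 0 := by decide +kernel

theorem kc1_10 {F : Type*} [Field F] (h2 : (2 : F) ≠ 0) :
    Kc (sigma h2) D (x .t5) (Pi.single bI 1 : Lane U → F) (x .t1) (x .t10) :=
  kc_of h2 (t5 := x .t5) (a := x .t1) (b := x .t10) (p := 1) (q := 0) SPair.c1_5.symm SPair.c5_10 SPair.c1_10
    (Ia := up F (zv I1)) (Ib := up F (zv I10))
    (fix_word h2 fix_I1) (fix_word h2 fix_I10) (f5 h2)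
    (fun i hi => pl3_out (by norm_num) (by norm_num) (by norm_num) hi F)
    (fun i hi => pl3_out (by norm_num) (by norm_num) (by norm_num) hi F)
    (sa := ((1 : ℤ) : F)) (sb := ((1 : ℤ) : F)) (by simp) (by simp)
    (up_val (by decide +kernel)) ((up_val (m := 0) (by decide +kernel)).trans Int.cast_zero)
    ((up_val (m := 0) (by decide +kernel)).trans Int.cast_zero) (up_val (by decide +kernel))
    (fun u hu h0 hpq hT => kernel_zero h2 _ lanes1_10 (cols_spec h2 cols1_10) inv1_10 hu h0 hpq hT)

/-! ### `t3, t7` -/

def L3_7 : ℕ := 0x69214509e84a422a07503081740620246241e2049296d49ea0942f216d006090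

def M3_7 : ℕ := 0x4840404050404840404850504040404040404040305040404040404840403840404040404040404840484040404038404040403840404040483840404040404040404040404040384040384040404040404040484038404040403840404040384040404038484040404040404040404040404048404048404040404040404048403840404048403840404040404040404040403838404040404040384038404040404040404040404038484040404040404048404040403840404040484840404040404040404038404840404040404040404040403838404040404040384038404040404040404040404048384040404040404038404040404840404040484840404040404040404040404040484040384040404040404040384038404040404040484040404040484840404040404040404040404040404840404040403848404040404040404040404040404038404040404038484040404040404040404038404040404048404038404040404040404040404040484040404040384040384040404040404040404040403840404040403840404840404040404040404040404040404040404040404040404040404040404040404848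

def N3_7 : ℕ := 0x8888888888888888686888888897877888888888887878889887888888888888887789788888888888888888888888a6888889878988888898888888888888888888888886688878788878898888888887878988888878888888888888888888888866888888888888888a6888888888888888888a8a888888987888988988888888887898889889888888888888888888888888888888888877879888888888888888798778888888888989898888887888888888888888888888888888898787888888788888887888888888888a88777a9888888888888688999a

theorem lanes3_7 : ∀ r : Fin 20, U.testBit (pk L3_7 13 r.1) = true := by decide +kernel

theorem cols3_7 : colsOK ((BM.StageW.tw .t5).map Ltr.prog) ((BM.StageW.tw .t3).map Ltr.prog)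
    ((BM.StageW.tw .t7).map Ltr.prog) L3_7 M3_7 7 3 = true := by decide +kernel

theorem inv3_7 : ∀ j k : Fin 22, k.1 ≠ 7 → k.1 ≠ 3 →
    ∑ r : Fin 20, entN N3_7 j.1 r.1 * entM M3_7 r.1 k.1 = if j = k then 32 else 0 := by decide +kernel

theorem kc3_7 {F : Type*} [Field F] (h2 : (2 : F) ≠ 0) :
    Kc (sigma h2) D (x .t5) (Pi.single bI 1 : Lane U → F) (x .t3) (x .t7) :=
  kc_of h2 (t5 := x .t5) (a := x .t3) (b := x .t7) (p := 7) (q := 3) SPair.c3_5.symm SPair.c5_7 SPair.c3_7
    (Ia := up F (zv I3)) (Ib := up F (zv I7))
    (fix_word h2 fix_I3) (fix_word h2 fix_I7) (f5 h2)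
    (fun i hi => pl3_out (by norm_num) (by norm_num) (by norm_num) hi F)
    (fun i hi => pl3_out (by norm_num) (by norm_num) (by norm_num) hi F)
    (sa := ((1 : ℤ) : F)) (sb := ((1 : ℤ) : F)) (by simp) (by simp)
    (up_val (by decide +kernel)) ((up_val (m := 0) (by decide +kernel)).trans Int.cast_zero)
    ((up_val (m := 0) (by decide +kernel)).trans Int.cast_zero) (up_val (by decide +kernel))
    (fun u hu h0 hpq hT => kernel_zero h2 _ lanes3_7 (cols_spec h2 cols3_7) inv3_7 hu h0 hpq hT)

/-! ### `t3, t10` -/

def L3_10 : ℕ := 0x40a4752309174892405030817407202c9021d10b0a43920882d4112011002160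

def M3_10 : ℕ := 0x4040404048504040404050384030384050404040403040404038404038404040404048404040403840404040484840404040404840404040404040404040403840404040384040404040384840404040403840404040404038384040404040484040404040404040404040384040384840404040404840404040404040404040404840404040403840404840404040403840404040384040404040403840404040404838404040404038404040404040404040484040484040404040484040404038404040404040484040404040484840404040403840404040404048384040404040484040404040404040404040484040404048404040404038384040404040384040404040404040404840403840404040403840404040384040404040404040404840404040404040384040384040404040404040404840404040404048404048404040404040404040404038404040404040384040484040404040404040404040484040404040403840404840404040404040404040404038404040404040403840404840404040404040404040484040404040404048404048404040404040404040404040404040484040404040404040404048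

def N3_10 : ℕ := 0x889877888898888888888898798888788888888888878887898988888888878888789888988888888888888888888886a8888888888888888a8888a8878888989888788888888898998888988888888888878889898788888888888988878987888888889888888888888699766a88888888888888a86888898888789888788888888888888888888688868888888888888888aa88888887888787878888888888888888888888888aa8878888787888788888888888888888888888888888787988889888888888888888888888888888887888888888888a779aaa

theorem lanes3_10 : ∀ r : Fin 20, U.testBit (pk L3_10 13 r.1) = true := by decide +kernel

theorem cols3_10 : colsOK ((BM.StageW.tw .t5).map Ltr.prog) ((BM.StageW.tw .t3).map Ltr.prog)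
    ((BM.StageW.tw .t10).map Ltr.prog) L3_10 M3_10 1 3 = true := by decide +kernel

theorem inv3_10 : ∀ j k : Fin 22, k.1 ≠ 1 → k.1 ≠ 3 →
    ∑ r : Fin 20, entN N3_10 j.1 r.1 * entM M3_10 r.1 k.1 = if j = k then 32 else 0 := by decide +kernel

theorem kc3_10 {F : Type*} [Field F] (h2 : (2 : F) ≠ 0) :
    Kc (sigma h2) D (x .t5) (Pi.single bI 1 : Lane U → F) (x .t3) (x .t10) :=
  kc_of h2 (t5 := x .t5) (a := x .t3) (b := x .t10) (p := 1) (q := 3) SPair.c3_5.symm SPair.c5_10 SPair.c3_10
    (Ia := up F (zv I3)) (Ib := up F (zv I10))
    (fix_word h2 fix_I3) (fix_word h2 fix_I10) (f5 h2)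
    (fun i hi => pl3_out (by norm_num) (by norm_num) (by norm_num) hi F)
    (fun i hi => pl3_out (by norm_num) (by norm_num) (by norm_num) hi F)
    (sa := ((1 : ℤ) : F)) (sb := ((1 : ℤ) : F)) (by simp) (by simp)
    (up_val (by decide +kernel)) ((up_val (m := 0) (by decide +kernel)).trans Int.cast_zero)
    ((up_val (m := 0) (by decide +kernel)).trans Int.cast_zero) (up_val (by decide +kernel))
    (fun u hu h0 hpq hT => kernel_zero h2 _ lanes3_10 (cols_spec h2 cols3_10) inv3_10 hu h0 hpq hT)

/-! ### `t7, t10` -/

def L7_10 : ℕ := 0x40a1a509e848423a0bd05082740720045c025001829ad49aa2d4372185012032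

def M7_10 : ℕ := 0x3840404040503840403850404030404040403040403040404040404040384040404040403848404840404040404840404840404048404040484040404040404040404040404040404048404040404040384840384040404040384040484040403840404048404040404040404040404048484040404040404048404040404040404840404040483840404040404040484040404040404038404040404040404040484040404040403838404840404040404840403840404038404040484040404040404040404040384840404040404040484040404040404038404040484040484040403840404038404040404040404040404038384040404040404048404040404040404840404040404040404048404040404040484840484040404040404040404840404040484040484040404040404040404040404048404040404840403840404040404040404040404040484040404038404048404040404040404048404040404038404048404040404040404040404040384040404040384040484040404040404040404040404840404040403840403840404040404040404040404040404040404040404040404040404040404038404048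

def N7_10 : ℕ := 0x8888888888888888a6888898788898988888888888888998878788888888888889788987888888888898988878988888888888888888888888aa88888888888888888888866887898889888898888888889878887878888888888888888888888888a8688888888888888a86888888888998898988888888889898889878888888888888888888888a6888888787888788889888888889898887888898888888888888888888888888888987888988889888888878888888888888a87996888889788789888888888888888888888888888878888888888888a8799a

theorem lanes7_10 : ∀ r : Fin 20, U.testBit (pk L7_10 13 r.1) = true := by decide +kernel

theorem cols7_10 : colsOK ((BM.StageW.tw .t5).map Ltr.prog) ((BM.StageW.tw .t7).map Ltr.prog)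
    ((BM.StageW.tw .t10).map Ltr.prog) L7_10 M7_10 1 5 = true := by decide +kernel

theorem inv7_10 : ∀ j k : Fin 22, k.1 ≠ 1 → k.1 ≠ 5 →
    ∑ r : Fin 20, entN N7_10 j.1 r.1 * entM M7_10 r.1 k.1 = if j = k then 32 else 0 := by decide +kernel

theorem kc7_10 {F : Type*} [Field F] (h2 : (2 : F) ≠ 0) :
    Kc (sigma h2) D (x .t5) (Pi.single bI 1 : Lane U → F) (x .t7) (x .t10) :=
  kc_of h2 (t5 := x .t5) (a := x .t7) (b := x .t10) (p := 1) (q := 5) SPair.c5_7 SPair.c5_10 SPair.c7_10
    (Ia := up F (zv I7)) (Ib := up F (zv I10))
    (fix_word h2 fix_I7) (fix_word h2 fix_I10) (f5 h2)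
    (fun i hi => pl3_out (by norm_num) (by norm_num) (by norm_num) hi F)
    (fun i hi => pl3_out (by norm_num) (by norm_num) (by norm_num) hi F)
    (sa := ((-1 : ℤ) : F)) (sb := ((1 : ℤ) : F)) (by simp) (by simp)
    (up_val (by decide +kernel)) ((up_val (m := 0) (by decide +kernel)).trans Int.cast_zero)
    ((up_val (m := 0) (by decide +kernel)).trans Int.cast_zero) (up_val (by decide +kernel))
    (fun u hu h0 hpq hT => kernel_zero h2 _ lanes7_10 (cols_spec h2 cols7_10) inv7_10 hu h0 hpq hT)

/-! ### Nonvanishing -/

theorem nz_of {F : Type*} [Field F] (h2 : (2 : F) ≠ 0) {v1 va vb : List Ltr} {l e : ℕ} {m : ℤ}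
    (hl : U.testBit l = true) (he : (e : ℤ) - 64 = m) (hm : (m : F) ≠ 0)
    (h : d3 (v1.map Ltr.prog) (va.map Ltr.prog) (vb.map Ltr.prog) (e64 1344) (fun y => rd y l 1 64 e) = true) :
    Δ (sigma h2) (gW v1) (Δ (sigma h2) (gW va) (Δ (sigma h2) (gW vb) (Pi.single bI 1 : Lane U → F))) ≠ 0 := by
  obtain ⟨z, hz, hk⟩ := d3_sound h2 h
  have h1 := rd_spec hk
  push_cast at h1
  rw [one_mul, he] at h1
  have h3 := up_e64 F bI
  change up F (zv (e64 1344)) = _ at h3
  rw [h3] at hz
  intro h0
  have hs : ∀ (g : G) (c : F) (v : Lane U → F), Δ (sigma h2) g (c • v) = c • Δ (sigma h2) g v := fun g c v => by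
    unfold Δ; rw [map_smul, smul_sub]
  rw [hs, hs, hs, h0, smul_zero] at hz
  obtain ⟨ln, hln⟩ : ∃ i : Lane U, i.1 = l := ⟨⟨l, hl⟩, rfl⟩
  have h4 := congrFun hz ln
  rw [← hln] at h1
  rw [Pi.zero_apply, up_val h1] at h4
  exact hm h4.symm

theorem nz3_7' : d3 ((BM.StageW.tw .t1).map Ltr.prog) ((BM.StageW.tw .t3).map Ltr.prog)
    ((BM.StageW.tw .t7).map Ltr.prog) (e64 1344) (fun y => rd y 0 1 64 62) = true := by decide +kernel

theorem nz3_7 {F : Type*} [Field F] (h2 : (2 : F) ≠ 0) :
    Δ (sigma h2) (x .t1) (Δ (sigma h2) (x .t3) (Δ (sigma h2) (x .t7) (Pi.single bI 1 : Lane U → F))) ≠ 0 :=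
  nz_of h2 (l := 0) (m := -2) (by decide +kernel) (e := 62) (by norm_num)
    (by have h4 : ((-2 : ℤ) : F) = -(2 : F) ^ 1 := by push_cast; norm_num
        rw [h4]; exact neg_ne_zero.2 (pow_ne_zero _ h2)) nz3_7'

theorem nz3_10' : d3 ((BM.StageW.tw .t1).map Ltr.prog) ((BM.StageW.tw .t3).map Ltr.prog)
    ((BM.StageW.tw .t10).map Ltr.prog) (e64 1344) (fun y => rd y 35 1 64 62) = true := by decide +kernel

theorem nz3_10 {F : Type*} [Field F] (h2 : (2 : F) ≠ 0) :
    Δ (sigma h2) (x .t1) (Δ (sigma h2) (x .t3) (Δ (sigma h2) (x .t10) (Pi.single bI 1 : Lane U → F))) ≠ 0 :=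
  nz_of h2 (l := 35) (m := -2) (by decide +kernel) (e := 62) (by norm_num)
    (by have h4 : ((-2 : ℤ) : F) = -(2 : F) ^ 1 := by push_cast; norm_num
        rw [h4]; exact neg_ne_zero.2 (pow_ne_zero _ h2)) nz3_10'

theorem nz7_10' : d3 ((BM.StageW.tw .t1).map Ltr.prog) ((BM.StageW.tw .t7).map Ltr.prog)
    ((BM.StageW.tw .t10).map Ltr.prog) (e64 1344) (fun y => rd y 242 1 64 60) = true := by decide +kernel

theorem nz7_10 {F : Type*} [Field F] (h2 : (2 : F) ≠ 0) :
    Δ (sigma h2) (x .t1) (Δ (sigma h2) (x .t7) (Δ (sigma h2) (x .t10) (Pi.single bI 1 : Lane U → F))) ≠ 0 :=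
  nz_of h2 (l := 242) (m := -4) (by decide +kernel) (e := 60) (by norm_num)
    (by have h4 : ((-4 : ℤ) : F) = -(2 : F) ^ 2 := by push_cast; norm_num
        rw [h4]; exact neg_ne_zero.2 (pow_ne_zero _ h2)) nz7_10'

end Cfsg.Agent.H863.SKer
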